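import Cfsg.Agent.H29.CosetCert.Fi23.SylData
import Cfsg.Agent.H29.CosetCert.Fi23Order.Words

/-! Checks on the data for a Sylow 2-subgroup of the presented Fi23. -/

set_option autoImplicit false
set_option maxRecDepth 16000
set_option Elab.async false

namespace H29.CosetCert.Fi23Syl

open H29.CosetCert Fi23SylData

local notation "TT" => Fi23Data.T
local notation "BS" => Fi23Words.base

/-- The word of a subset of a list of words. -/
def bitsW (l : List (List ℕ)) (v : ℕ) : List ℕ :=
  ((List.range l.length).map fun k => bif v.testBit k then l.getD k [] else []).flatten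

/-- The word of `xs` selected by `v`. -/
def xW (v : ℕ) : List ℕ := bitsW xs v

/-- The word of `ss` selected by `y`. -/
def rW (y : ℕ) : List ℕ := bitsW ss y

/-- The permutation of the base. -/
def perm (y i : ℕ) : ℕ := (permT.get y >>> (5 * i)) % 32

/-- The key of a permutation. -/
def key (y : ℕ) : ℕ := perm y (selI.getD 0 0) + 32 * perm y (selI.getD 1 0)

/-- The product. -/
def mulY (a b : ℕ) : ℕ := (mulT.get a >>> (7 * b)) % 128

/-- The inverse. -/
def invY (a : ℕ) : ℕ := invs.getD a 0

/-- The linear map from packed masks. -/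
def linA (A v : ℕ) : ℕ :=
  (List.range 11).foldr (fun k r => bif v.testBit k then ((A >>> (11 * k)) % 2048) ^^^ r else r) 0

/-- The action of `y` on the masks. -/
def act (y v : ℕ) : ℕ := linA (linT.get y) v

theorem xs_sq : allIn (fun k => sameAt TT BS (xs.getD k [] ++ xs.getD k []) []) 0 11 = true := by
  decide +kernel

theorem xs_comm : allIn (fun k => allIn (fun l => sameAt TT BS (xs.getD k [] ++ xs.getD l [])
    (xs.getD l [] ++ xs.getD k [])) 0 k) 0 11 = true := by decide +kernel

theorem conj_x : allIn (fun j => allIn (fun k => sameAt TT BS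
    (ss.getD j [] ++ xs.getD k [] ++ (ss.getD j []).reverse) (xW (act (2 ^ j) (2 ^ k)))) 0 11) 0 7
    = true := by decide +kernel

theorem conj_s : allIn (fun j => allIn (fun i =>
    Nat.blt ((ex.getD j []).getD (11 + i) 0 / 2048) (2 ^ j) && sameAt TT BS
      (ss.getD j [] ++ ss.getD i [] ++ (ss.getD j []).reverse)
      (xW ((ex.getD j []).getD (11 + i) 0 % 2048) ++ rW ((ex.getD j []).getD (11 + i) 0 / 2048)))
    0 j) 0 7 = true := by decide +kernel

theorem sq_s : allIn (fun j =>
    Nat.blt ((ex.getD j []).getD (11 + j) 0 / 2048) (2 ^ j) && sameAt TT BS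
      (ss.getD j [] ++ ss.getD j [])
      (xW ((ex.getD j []).getD (11 + j) 0 % 2048) ++ rW ((ex.getD j []).getD (11 + j) 0 / 2048)))
    0 7 = true := by decide +kernel

theorem rW_step : allIn (fun j => allIn (fun y => rW (y + 2 ^ j) == rW y ++ ss.getD j []) 0 (2 ^ j))
    0 7 = true := by decide +kernel

theorem rW_zero : rW 0 = [] := by decide +kernel

theorem x_fix : allIn (fun k => allIn (fun i =>
    runR TT (xs.getD k []) (pts.getD i 0) == pts.getD i 0) 0 23) 0 11 = true := by decide +kernel

theorem s_perm : allIn (fun j => allIn (fun i =>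
    runR TT (ss.getD j []) (pts.getD i 0) == pts.getD (perm (2 ^ j) i) 0 &&
      Nat.blt (perm (2 ^ j) i) 23) 0 23) 0 7 = true := by decide +kernel

theorem perm_step : allIn (fun j => allIn (fun y => allIn (fun i =>
    perm (y + 2 ^ j) i == perm y (perm (2 ^ j) i)) 0 23) 0 (2 ^ j)) 0 7 = true := by decide +kernel

theorem perm_zero : allIn (fun i => perm 0 i == i) 0 23 = true := by decide +kernel

theorem perm_lt : allIn (fun y => allIn (fun i => Nat.blt (perm y i) 23) 0 23) 0 128 = true := by
  decide +kernel

theorem pts_inj : allIn (fun i => pts.idxOf (pts.getD i 0) == i && Nat.blt (pts.getD i 0) 31671)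
    0 23 = true := by decide +kernel

theorem key_inj : allIn (fun y => keys.idxOf (key y) == y) 0 128 = true := by decide +kernel

theorem sel_lt : (Nat.blt (selI.getD 0 0) 23 && Nat.blt (selI.getD 1 0) 23) = true := by
  decide +kernel

theorem mul_ok : allIn (fun a => allIn (fun b =>
    Nat.blt (mulY a b) 128 &&
    perm (mulY a b) (selI.getD 0 0) == perm a (perm b (selI.getD 0 0)) &&
    perm (mulY a b) (selI.getD 1 0) == perm a (perm b (selI.getD 1 0))) 0 128) 0 128 = true := by
  decide +kernel

theorem inv_ok : allIn (fun a => mulY a (invY a) == 0 && Nat.blt (invY a) 128) 0 128 = true := by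
  decide +kernel

theorem lin_step : allIn (fun j => allIn (fun y => allIn (fun k =>
    act (y + 2 ^ j) (2 ^ k) == act y (act (2 ^ j) (2 ^ k))) 0 11) 0 (2 ^ j)) 0 7 = true := by
  decide +kernel

theorem lin_zero : allIn (fun k => act 0 (2 ^ k) == 2 ^ k) 0 11 = true := by decide +kernel

theorem chain_ok : chainW TT 31671 chainX = true := by decide +kernel

theorem chain_sizes : (chainX.map WLevel.sz).prod = 2048 := by decide +kernel

theorem chain_masks : chainX.map WLevel.U = levMasks.map (fun l => l.map xW) := by decide +kernel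

/-- The subgroup obtained by adjoining `x` to `M`. -/
def spanY (M x : ℕ) : ℕ :=
  (List.range 128).foldr (fun e r => bif M.testBit e then r ||| 2 ^ (mulY x e) else r) M

theorem small_comm : allIn (fun x => Nat.beq x 0 || allIn (fun j =>
    Nat.blt (mulY (mulY (mulY (2 ^ j) x) (invY (2 ^ j))) x) x) 0 7) 0 128 = true := by decide +kernel

theorem subs_closed : subs.all (fun M => allIn (fun x =>
    M.testBit x || !(mulY x x == 0) ||
    !(allIn (fun e => !(M.testBit e) || mulY x e == mulY e x) 0 128) ||
    !(allIn (fun j => M.testBit (mulY (mulY (mulY (2 ^ j) x) (invY (2 ^ j))) x)) 0 7) ||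
    subs.elem (spanY M x)) 0 128) = true := by decide +kernel

theorem subs_one : subs.elem 1 = true := by decide +kernel

theorem subs_lt : subs.all (fun M => Nat.blt M (2 ^ 128)) = true := by decide +kernel

theorem subs_gens : subs.all (fun M => M == 1 ||
    subGens.any (fun d => d.1 == M && d.2.all (fun g => M.testBit g.1 && linT.get g.1 == g.2) &&
      Nat.ble (countIn M.testBit 0 128 *
        countIn (fun v => d.2.all fun g => linA g.2 v == v) 0 2048) 1024)) = true := by
  decide +kernel

end H29.CosetCert.Fi23Syl
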