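import Cfsg.Agent.H29.CosetCert.Fi23.AutData
import Cfsg.Agent.H29.CosetCert.Fi23.SylChecks

/-! Checks on the data for the automorphisms of the presented Fi23. -/

set_option autoImplicit false
set_option maxRecDepth 16000
set_option Elab.async false

namespace H29.CosetCert.Fi23Aut

open H29.CosetCert H29.CosetCert.Fi23Syl

local notation "TT" => Fi23Data.T
local notation "BS" => Fi23Words.base

theorem gen_ok : allIn (fun i => sameAt TT BS (us.getD i [] ++ zw ++ (us.getD i []).reverse) [i] &&
    runR TT (us.getD i []) 0 == ps.getD i 0 && Nat.blt (ps.getD i 0) 31671) 0 10 = true := by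
  decide +kernel

theorem ps_inj : allIn (fun i => ps.idxOf (ps.getD i 0) == i) 0 10 = true := by decide +kernel

theorem steps_ok : steps.all (fun st => Nat.blt st.j 10 &&
    st.S.all (fun p => Nat.blt p.1 10 && ((TT p.1 (ps.getD st.j 0) == ps.getD st.j 0) == p.2) &&
      !(p.1 == st.j) && st.G.all fun u => runR TT u (ps.getD p.1 0) == ps.getD p.1 0)) = true := by
  decide +kernel

/-- The fixed lists grow by one generator at each step. -/
def follows : List ASt → List ℕ → Bool
  | [], acc => allIn (fun i => acc.elem i) 0 10
  | st :: rest, acc => st.S.map Prod.fst == acc && follows rest (acc ++ [st.j])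

theorem follows_ok : follows steps [first, second] = true := by decide +kernel

theorem central_quot : allIn (fun q => q == 0 ||
    !(allIn (fun k => Fi23Syl.act q (2 ^ k) == 2 ^ k) 0 11)) 0 128 = true := by decide +kernel

theorem central_mask : allIn (fun v => v == 0 || !(allIn (fun j => Fi23Syl.act (2 ^ j) v == v) 0 7) ||
    good.any (fun p => p.1 == v && sameAt TT BS (xW v) (p.2 ++ zw ++ p.2.reverse)) ||
    bad.any (fun p => p.1 == v &&
      !(sameAt TT BS (xW v ++ (p.2 ++ xW v ++ p.2.reverse) ++
        (xW v ++ (p.2 ++ xW v ++ p.2.reverse))) []) &&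
      !(sameAt TT BS (xW v ++ (p.2 ++ xW v ++ p.2.reverse) ++
        (xW v ++ (p.2 ++ xW v ++ p.2.reverse)) ++ (xW v ++ (p.2 ++ xW v ++ p.2.reverse))) []))) 0 2048
    = true := by decide +kernel

theorem second_ok : (Nat.blt first 10 && Nat.blt second 10 &&
    !(TT first (ps.getD second 0) == ps.getD second 0)) = true := by decide +kernel

theorem base_lt : (BS).all (fun c => Nat.blt c 31671) = true := by decide +kernel

end H29.CosetCert.Fi23Aut
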