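import Cfsg.Agent.H29.CosetCert.Fi23.AutData

/-! Data for the automorphisms of the presented Fi23, found outside Lean. -/

set_option autoImplicit false
set_option maxRecDepth 16000
set_option Elab.async false

namespace H29.CosetCert.Fi23Aut

open H29.CosetCert

theorem fix_cover : allIn (fun q => !(Fi23Data.T first q == q) || fixM.testBit q) 0 31671 = true := by
  decide +kernel

theorem fix_mask : fixL.foldr (fun c r => 2 ^ c ||| r) 0 = fixM := by decide +kernel

theorem cover2 : cover Fi23Data.T st2 = true := by decide +kernel

theorem cover3 : cover Fi23Data.T st3 = true := by decide +kernel

theorem cover4 : cover Fi23Data.T st4 = true := by decide +kernel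

theorem cover5 : cover Fi23Data.T st5 = true := by decide +kernel

theorem cover6 : cover Fi23Data.T st6 = true := by decide +kernel

theorem cover7 : cover Fi23Data.T st7 = true := by decide +kernel

theorem cover8 : cover Fi23Data.T st8 = true := by decide +kernel

theorem cover9 : cover Fi23Data.T st9 = true := by decide +kernel

end H29.CosetCert.Fi23Aut
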