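import Cfsg.Agent.H29.CosetCert.Fi23.AutData

/-! Data for the automorphisms of the presented Fi23, found outside Lean. -/

set_option autoImplicit false
set_option maxRecDepth 16000
set_option Elab.async false

namespace H29.CosetCert.Fi23Aut

open H29.CosetCert

theorem reach2 : reach Fi23Data.T st2 = true := by decide +kernel

end H29.CosetCert.Fi23Aut
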