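import Cfsg.Agent.H29.CosetCert.Fi23.SylChecks
import Cfsg.Agent.H29.CosetCert.Fi23Order.Cert
import Cfsg.Prelude.Def_Transfer

/-!
# A Sylow 2-subgroup of the presented Fi23 and its normal elementary abelian subgroups
-/

set_option autoImplicit false
set_option maxRecDepth 16000

namespace H29.CosetCert.Fi23Syl

open H29.CosetCert Fi23SylData

local notation "Fi" => Cfsg.Spor.Fi23
local notation "nn" => Fi23Cert.cert.n

/-- The element of a word. -/
noncomputable def W (l : List ℕ) : Fi := (l.map Fi23Cert.g).prod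

theorem W_nil : W [] = 1 := rfl

theorem W_append (a b : List ℕ) : W (a ++ b) = W a * W b := by
  simp [W, List.map_append, List.prod_append]

theorem W_inv (u : List ℕ) : (W u)⁻¹ = W u.reverse :=
  (prod_reverse_of_sq (p := Fi23Cert.g) Fi23Cert.cert.g_sq u).symm

theorem W_eq {v w : List ℕ} (h : sameAt Fi23Data.T Fi23Words.base v w = true) : W v = W w :=
  Fi23Ord.faithful.2.2 v w (by rw [Fi23Words.base_eq]; exact h)

theorem allIn_at {p : ℕ → Bool} {n i : ℕ} (h : allIn p 0 n = true) (hi : i < n) : p i = true :=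
  (allIn_iff p n 0).1 h i (Nat.zero_le _) (by omega)

theorem xor_ind {P : ℕ → Prop} (n : ℕ) (h0 : P 0) (hb : ∀ k < n, P (2 ^ k))
    (hx : ∀ a b, a < 2 ^ n → b < 2 ^ n → P a → P b → P (a ^^^ b)) : ∀ v < 2 ^ n, P v := by
  have main : ∀ m, m ≤ n → ∀ v < 2 ^ m, P v := by
    intro m
    induction m with
    | zero =>
      intro _ v hv
      have : v = 0 := by simpa using hv
      subst this
      exact h0
    | succ m ih =>
      intro hm v hv
      have hp : ∀ i, m + 1 ≤ i → v.testBit i = false := fun i hi =>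
        Nat.testBit_lt_two_pow (lt_of_lt_of_le hv (Nat.pow_le_pow_right (by norm_num) hi))
      by_cases hbit : v.testBit m = true
      · have hlt : v ^^^ 2 ^ m < 2 ^ m := by
          refine Nat.lt_pow_two_of_testBit _ fun i hi => ?_
          rw [Nat.testBit_xor, Nat.testBit_two_pow]
          rcases Nat.eq_or_lt_of_le hi with rfl | hlt
          · simp [hbit]
          · simp [hp i hlt, Nat.ne_of_lt hlt]
        have e : v = (v ^^^ 2 ^ m) ^^^ 2 ^ m := by
          rw [Nat.xor_assoc, Nat.xor_self, Nat.xor_zero]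
        have hle : 2 ^ m < 2 ^ n := Nat.pow_lt_pow_right (by norm_num) hm
        rw [e]
        exact hx _ _ (hlt.trans hle) hle (ih (by omega) _ hlt) (hb m hm)
      · refine ih (by omega) v (Nat.lt_pow_two_of_testBit _ fun i hi => ?_)
        rcases Nat.eq_or_lt_of_le hi with rfl | hlt
        · simpa using hbit
        · exact hp i hlt
  exact main n le_rfl

/-- The basis elements of the large elementary abelian subgroup. -/
noncomputable def e (k : ℕ) : Fi := W (xs.getD k [])

/-- The further generators. -/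
noncomputable def s (j : ℕ) : Fi := W (ss.getD j [])

/-- The element of a mask. -/
noncomputable def X (v : ℕ) : Fi := W (xW v)

/-- The representative of an element of the quotient. -/
noncomputable def R (y : ℕ) : Fi := W (rW y)

theorem e_sq (k : ℕ) : e k * e k = 1 := by
  by_cases hk : k < 11
  · rw [e, ← W_append, W_eq (allIn_at xs_sq hk :), W_nil]
  · rw [e, List.getD_eq_default _ _ (by have : xs.length = 11 := rfl; omega), W_nil, one_mul]

theorem e_comm (k l : ℕ) : Commute (e k) (e l) := by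
  have triv : ∀ k, ¬ k < 11 → e k = 1 := fun k hk => by
    rw [e, List.getD_eq_default _ _ (by have : xs.length = 11 := rfl; omega), W_nil]
  by_cases hk : k < 11
  swap
  · rw [triv k hk]; exact Commute.one_left _
  by_cases hl : l < 11
  swap
  · rw [triv l hl]; exact Commute.one_right _
  have key : ∀ {k l : ℕ}, k < 11 → l < k → Commute (e k) (e l) := by
    intro k l hk hl
    show e k * e l = e l * e k
    rw [e, e, ← W_append, ← W_append]
    exact W_eq (allIn_at (allIn_at xs_comm hk :) hl :)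
  rcases Nat.lt_trichotomy k l with h | rfl | h
  · exact (key hl h).symm
  · exact Commute.refl _
  · exact key hk h

theorem W_bits (l : List (List ℕ)) (v : ℕ) : W (bitsW l v) =
    ((List.range l.length).map fun k => if v.testBit k then W (l.getD k []) else 1).prod := by
  rw [W, bitsW, List.map_flatten, List.prod_flatten, List.map_map, List.map_map]
  refine congrArg List.prod (List.map_congr_left fun k _ => ?_)
  cases h : v.testBit k <;> simp [W, h]

theorem X_xor (v w : ℕ) : X (v ^^^ w) = X v * X w := by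
  have key : ∀ ks : List ℕ,
      (ks.map fun k => if (v ^^^ w).testBit k then e k else 1).prod =
        (ks.map fun k => if v.testBit k then e k else 1).prod *
          (ks.map fun k => if w.testBit k then e k else 1).prod := by
    intro ks
    induction ks with
    | nil => simp
    | cons a t ih =>
      have hc : Commute (if w.testBit a then e a else 1)
          (t.map fun k => if v.testBit k then e k else 1).prod := by
        refine Commute.list_prod_right _ _ fun z hz => ?_
        obtain ⟨k, -, rfl⟩ := List.mem_map.1 hz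
        split <;> split <;> first | exact e_comm _ _ | exact Commute.one_left _ |
          exact Commute.one_right _
      have h2 : (if (v ^^^ w).testBit a then e a else 1) =
          (if v.testBit a then e a else 1) * (if w.testBit a then e a else 1) := by
        rw [Nat.testBit_xor]
        cases v.testBit a <;> cases w.testBit a <;> simp [e_sq]
      simp only [List.map_cons, List.prod_cons, ih, h2, mul_assoc]
      rw [← mul_assoc (if w.testBit a then e a else 1), hc.eq, mul_assoc]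
  simp only [X, xW, W_bits]
  exact key _

theorem X_zero : X 0 = 1 := by
  rw [X, show xW 0 = [] by decide +kernel, W_nil]

theorem X_sq (v : ℕ) : X v * X v = 1 := by rw [← X_xor, Nat.xor_self, X_zero]

theorem X_inv (v : ℕ) : (X v)⁻¹ = X v := inv_eq_of_mul_eq_one_right (X_sq v)

theorem X_pow {k : ℕ} (hk : k < 11) : X (2 ^ k) = e k := by
  have h : allIn (fun k => xW (2 ^ k) == xs.getD k []) 0 11 = true := by decide +kernel
  rw [X, e, beq_iff_eq.1 (allIn_at h hk :)]

theorem R_zero : R 0 = 1 := by rw [R, rW_zero, W_nil]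

theorem R_add {j y : ℕ} (hj : j < 7) (hy : y < 2 ^ j) : R (y + 2 ^ j) = R y * s j := by
  rw [R, R, s, ← W_append, beq_iff_eq.1 (allIn_at (allIn_at rW_step hj :) hy :)]

theorem R_pow {j : ℕ} (hj : j < 7) : R (2 ^ j) = s j := by
  simpa [R_zero] using R_add hj (Nat.two_pow_pos j)

theorem xor_rule (c p q : ℕ) (a b : Bool) : (bif (a ^^ b) then c ^^^ (p ^^^ q) else p ^^^ q) =
    (bif a then c ^^^ p else p) ^^^ (bif b then c ^^^ q else q) := by
  apply Nat.eq_of_testBit_eq
  intro i
  cases a <;> cases b <;> simp only [Bool.xor_false, Bool.xor_true, Bool.not_false, Bool.not_true,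
    cond_true, cond_false, Nat.testBit_xor] <;>
    (generalize c.testBit i = c'; generalize p.testBit i = p'; generalize q.testBit i = q';
     cases c' <;> cases p' <;> cases q' <;> rfl)

theorem linA_xor (A v w : ℕ) : linA A (v ^^^ w) = linA A v ^^^ linA A w := by
  unfold linA
  induction (List.range 11) with
  | nil => simp
  | cons a t ih =>
    simp only [List.foldr_cons]
    rw [ih, Nat.testBit_xor]
    exact xor_rule _ _ _ _ _

theorem act_xor (y v w : ℕ) : act y (v ^^^ w) = act y v ^^^ act y w := linA_xor _ v w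

theorem linA_lt (A v : ℕ) : linA A v < 2 ^ 11 := by
  unfold linA
  induction (List.range 11) with
  | nil => simp
  | cons a t ih =>
    simp only [List.foldr_cons]
    cases v.testBit a
    · exact ih
    · exact Nat.xor_lt_two_pow (Nat.mod_lt _ (by norm_num)) ih

theorem act_zero : ∀ v < 2 ^ 11, act 0 v = v := by
  refine xor_ind 11 ?_ (fun k hk => beq_iff_eq.1 (allIn_at lin_zero hk :)) ?_
  · decide +kernel
  · intro a b _ _ ha hb
    rw [act_xor, ha, hb]

theorem act_mask_zero (y : ℕ) : act y 0 = 0 := by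
  have h := act_xor y 0 0
  rwa [Nat.xor_self, Nat.xor_self] at h

theorem act_add {j y : ℕ} (hj : j < 7) (hy : y < 2 ^ j) :
    ∀ v < 2 ^ 11, act (y + 2 ^ j) v = act y (act (2 ^ j) v) := by
  refine xor_ind 11 ?_ (fun k hk =>
    beq_iff_eq.1 (allIn_at (allIn_at (allIn_at lin_step hj :) hy :) hk :)) ?_
  · rw [act_mask_zero, act_mask_zero, act_mask_zero]
  · intro a b _ _ ha hb
    rw [act_xor, ha, hb, act_xor, act_xor]

theorem s_conj {j : ℕ} (hj : j < 7) : ∀ v < 2 ^ 11, s j * X v * (s j)⁻¹ = X (act (2 ^ j) v) := by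
  refine xor_ind 11 ?_ ?_ ?_
  · rw [act_mask_zero, X_zero, mul_one, mul_inv_cancel]
  · intro k hk
    rw [X_pow hk, s, e, W_inv, ← W_append, ← W_append, W_eq (allIn_at (allIn_at conj_x hj :) hk :)]
    rfl
  · intro a b _ _ ha hb
    rw [act_xor, X_xor, X_xor, ← ha, ← hb]
    group

theorem R_conj : ∀ j ≤ 7, ∀ y < 2 ^ j, ∀ v < 2 ^ 11, R y * X v * (R y)⁻¹ = X (act y v) := by
  intro j
  induction j with
  | zero =>
    intro _ y hy v hv
    have : y = 0 := by simpa using hy
    subst this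
    rw [act_zero v hv, R_zero, one_mul, inv_one, mul_one]
  | succ j ih =>
    intro hj y hy v hv
    by_cases h : y < 2 ^ j
    · exact ih (by omega) y h v hv
    obtain ⟨y, rfl⟩ : ∃ z, y = z + 2 ^ j := ⟨y - 2 ^ j, by omega⟩
    rw [pow_succ] at hy
    rw [R_add (by omega) (by omega), act_add (by omega) (by omega) v hv,
      ← ih (by omega) y (by omega) (act (2 ^ j) v) (linA_lt _ _)]
    have := s_conj (j := j) (by omega) v hv
    rw [← this]
    group

/-- The action on table points, extended to all numbers. -/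
noncomputable def ap (t : Fi) (c : ℕ) : ℕ :=
  if h : c < nn then (Fi23Cert.cert.ρ t ⟨c, h⟩ : Fin nn) else c

theorem ap_mul (a b : Fi) (c : ℕ) : ap (a * b) c = ap a (ap b c) := by
  unfold ap
  by_cases h : c < nn
  · simp [h, map_mul]
  · simp [h]

theorem ap_W (l : List ℕ) {c : ℕ} (hc : c < nn) : ap (W l) c = runR Fi23Data.T l c := by
  rw [ap, dif_pos hc]
  exact Fi23Cert.cert.prod_ρ_val l ⟨c, hc⟩

theorem ap_one (c : ℕ) : ap 1 c = c := by
  unfold ap
  by_cases h : c < nn <;> simp [h]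

/-- The element moves the distinguished points as `y` does. -/
def Rel (t : Fi) (y : ℕ) : Prop := ∀ i < 23, ap t (pts.getD i 0) = pts.getD (perm y i) 0

theorem pts_spec {i : ℕ} (hi : i < 23) :
    pts.idxOf (pts.getD i 0) = i ∧ pts.getD i 0 < nn := by
  have h := allIn_at pts_inj hi
  simp only [Bool.and_eq_true, beq_iff_eq, Nat.blt_eq] at h
  exact h

theorem pts_eq {i i' : ℕ} (hi : i < 23) (hi' : i' < 23) (h : pts.getD i 0 = pts.getD i' 0) :
    i = i' := by rw [← (pts_spec hi).1, h, (pts_spec hi').1]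

theorem perm_spec {y i : ℕ} (hy : y < 128) (hi : i < 23) : perm y i < 23 := by
  simpa using allIn_at (allIn_at perm_lt hy :) hi

theorem X_rel : ∀ v < 2 ^ 11, ∀ i < 23, ap (X v) (pts.getD i 0) = pts.getD i 0 := by
  refine xor_ind 11 ?_ ?_ ?_
  · intro i _; rw [X_zero, ap_one]
  · intro k hk i hi
    rw [X_pow hk, e, ap_W _ (pts_spec hi).2, beq_iff_eq.1 (allIn_at (allIn_at x_fix hk :) hi :)]
  · intro a b _ _ ha hb i hi
    rw [X_xor, ap_mul, hb i hi, ha i hi]

theorem R_rel : ∀ j ≤ 7, ∀ y < 2 ^ j, Rel (R y) y := by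
  intro j
  induction j with
  | zero =>
    intro _ y hy i hi
    have : y = 0 := by simpa using hy
    subst this
    rw [R_zero, ap_one, beq_iff_eq.1 (allIn_at perm_zero hi :)]
  | succ j ih =>
    intro hj y hy i hi
    by_cases h : y < 2 ^ j
    · exact ih (by omega) y h i hi
    obtain ⟨y, rfl⟩ : ∃ z, y = z + 2 ^ j := ⟨y - 2 ^ j, by omega⟩
    rw [pow_succ] at hy
    have hs := allIn_at (allIn_at s_perm (show j < 7 by omega) :) hi
    simp only [Bool.and_eq_true, beq_iff_eq, Nat.blt_eq] at hs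
    rw [R_add (by omega) (by omega), ap_mul, s, ap_W _ (pts_spec hi).2, hs.1,
      ih (by omega) y (by omega) _ hs.2,
      beq_iff_eq.1 (allIn_at (allIn_at (allIn_at perm_step (show j < 7 by omega) :)
        (show y < 2 ^ j by omega) :) hi :)]

theorem XR_rel {v y : ℕ} (hv : v < 2 ^ 11) (hy : y < 128) : Rel (X v * R y) y := by
  intro i hi
  rw [ap_mul, R_rel 7 le_rfl y hy i hi, X_rel v hv _ (perm_spec hy hi)]

theorem rel_mul_X {t : Fi} {y w : ℕ} (h : Rel t y) (hw : w < 2 ^ 11) : Rel (t * X w) y := by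
  intro i hi
  rw [ap_mul, X_rel w hw i hi, h i hi]

theorem rel_unique {t : Fi} {y z : ℕ} (hy : y < 128) (hz : z < 128) (h : Rel t y) (h' : Rel t z) :
    y = z := by
  have hs := sel_lt
  simp only [Bool.and_eq_true, Nat.blt_eq] at hs
  have hk : key y = key z := by
    unfold key
    rw [pts_eq (perm_spec hy hs.1) (perm_spec hz hs.1) ((h _ hs.1).symm.trans (h' _ hs.1)),
      pts_eq (perm_spec hy hs.2) (perm_spec hz hs.2) ((h _ hs.2).symm.trans (h' _ hs.2))]
  rw [← beq_iff_eq.1 (allIn_at key_inj hy :), hk, beq_iff_eq.1 (allIn_at key_inj hz :)]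

theorem mulY_lt {a b : ℕ} (ha : a < 128) (hb : b < 128) : mulY a b < 128 := by
  have h := allIn_at (allIn_at mul_ok ha :) hb
  simp only [Bool.and_eq_true, Nat.blt_eq] at h
  exact h.1.1

theorem rel_mul {t u : Fi} {a b q : ℕ} (ha : a < 128) (hb : b < 128) (hq : q < 128)
    (ht : Rel t a) (hu : Rel u b) (h : Rel (t * u) q) : q = mulY a b := by
  have hm := allIn_at (allIn_at mul_ok ha :) hb
  simp only [Bool.and_eq_true, Nat.blt_eq, beq_iff_eq] at hm
  have hs := sel_lt
  simp only [Bool.and_eq_true, Nat.blt_eq] at hs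
  have comp : ∀ i < 23, perm q i = perm a (perm b i) := fun i hi => by
    refine pts_eq (perm_spec hq hi) (perm_spec ha (perm_spec hb hi)) ?_
    rw [← h i hi, ap_mul, hu i hi, ht _ (perm_spec hb hi)]
  have hk : key q = key (mulY a b) := by
    unfold key
    rw [comp _ hs.1, comp _ hs.2, hm.1.2, hm.2]
  rw [← beq_iff_eq.1 (allIn_at key_inj hq :), hk, beq_iff_eq.1 (allIn_at key_inj hm.1.1 :)]

/-- The generators of the first `k` steps. -/
def gens (k : ℕ) : Set Fi := {t | (∃ v < 2 ^ 11, t = X v) ∨ ∃ j < k, t = s j}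

/-- The subgroup of the first `k` steps. -/
noncomputable def Tk (k : ℕ) : Subgroup Fi := Subgroup.closure (gens k)

theorem X_mem {k v : ℕ} (hv : v < 2 ^ 11) : X v ∈ Tk k :=
  Subgroup.subset_closure (Or.inl ⟨v, hv, rfl⟩)

theorem R_mem : ∀ j ≤ 7, ∀ k, j ≤ k → ∀ y < 2 ^ j, R y ∈ Tk k := by
  intro j
  induction j with
  | zero =>
    intro _ k _ y hy
    have : y = 0 := by simpa using hy
    subst this
    rw [R_zero]; exact one_mem _
  | succ j ih =>
    intro hj k hk y hy
    by_cases h : y < 2 ^ j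
    · exact ih (by omega) k (by omega) y h
    obtain ⟨y, rfl⟩ : ∃ z, y = z + 2 ^ j := ⟨y - 2 ^ j, by omega⟩
    rw [pow_succ] at hy
    rw [R_add (by omega) (by omega)]
    exact mul_mem (ih (by omega) k (by omega) y (by omega))
      (Subgroup.subset_closure (Or.inr ⟨j, by omega, rfl⟩))

theorem mask_mem {k E : ℕ} (hk : k ≤ 7) (hE : E / 2048 < 2 ^ k) :
    W (xW (E % 2048) ++ rW (E / 2048)) ∈ Tk k := by
  rw [W_append]
  exact mul_mem (X_mem (Nat.mod_lt _ (by norm_num))) (R_mem k hk k le_rfl _ hE)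

theorem decomp : ∀ k ≤ 7, ∀ t ∈ Tk k, ∃ v < 2 ^ 11, ∃ y < 2 ^ k, t = X v * R y := by
  intro k
  induction k with
  | zero =>
    intro _ t ht
    refine Subgroup.closure_induction (p := fun t _ => ∃ v < 2 ^ 11, ∃ y < 2 ^ 0, t = X v * R y)
      ?_ ?_ ?_ ?_ ht
    · rintro x (⟨v, hv, rfl⟩ | ⟨j, hj, -⟩)
      · exact ⟨v, hv, 0, by norm_num, by rw [R_zero, mul_one]⟩
      · omega
    · exact ⟨0, by norm_num, 0, by norm_num, by rw [X_zero, R_zero, one_mul]⟩
    · rintro a b _ _ ⟨v, hv, y, hy, rfl⟩ ⟨w, hw, z, hz, rfl⟩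
      simp only [pow_zero, Nat.lt_one_iff] at hy hz
      subst hy hz
      exact ⟨v ^^^ w, Nat.xor_lt_two_pow hv hw, 0, by norm_num,
        by rw [R_zero, mul_one, mul_one, mul_one, X_xor]⟩
    · rintro a _ ⟨v, hv, y, hy, rfl⟩
      simp only [pow_zero, Nat.lt_one_iff] at hy
      subst hy
      exact ⟨v, hv, 0, by norm_num, by rw [R_zero, mul_one, X_inv]⟩
  | succ k ih =>
    intro hk t ht
    have hk7 : k < 7 := by omega
    set M := Tk k with hM
    set u := s k with hu
    have hsq : u * u ∈ M := by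
      have h := allIn_at sq_s hk7
      simp only [Bool.and_eq_true, Nat.blt_eq] at h
      rw [hu, s, ← W_append, W_eq h.2]
      exact mask_mem (by omega) h.1
    have hgen : ∀ x ∈ gens k, u * x * u⁻¹ ∈ M := by
      rintro x (⟨v, hv, rfl⟩ | ⟨i, hi, rfl⟩)
      · rw [hu, s_conj hk7 v hv]; exact X_mem (linA_lt _ _)
      · have h := allIn_at (allIn_at conj_s hk7 :) hi
        simp only [Bool.and_eq_true, Nat.blt_eq] at h
        rw [hu, s, s, W_inv, ← W_append, ← W_append, W_eq h.2]
        exact mask_mem (by omega) h.1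
    have hconj : ∀ m ∈ M, u * m * u⁻¹ ∈ M := by
      intro m hm
      refine Subgroup.closure_induction (p := fun m _ => u * m * u⁻¹ ∈ M) hgen ?_ ?_ ?_ hm
      · rw [mul_one, mul_inv_cancel]; exact one_mem _
      · intro a b _ _ ha hb
        rw [show u * (a * b) * u⁻¹ = u * a * u⁻¹ * (u * b * u⁻¹) by group]
        exact mul_mem ha hb
      · intro a _ ha
        rw [show u * a⁻¹ * u⁻¹ = (u * a * u⁻¹)⁻¹ by group]
        exact inv_mem ha
    have hcl : t ∈ M ∨ t * u⁻¹ ∈ M := by
      refine Subgroup.closure_induction (p := fun t _ => t ∈ M ∨ t * u⁻¹ ∈ M) ?_ ?_ ?_ ?_ ht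
      · rintro x (⟨v, hv, rfl⟩ | ⟨j, hj, rfl⟩)
        · exact Or.inl (X_mem hv)
        · by_cases hjk : j = k
          · subst hjk; exact Or.inr (by rw [hu, mul_inv_cancel]; exact one_mem _)
          · exact Or.inl (Subgroup.subset_closure (Or.inr ⟨j, by omega, rfl⟩))
      · exact Or.inl (one_mem _)
      · intro a b _ _ ha hb
        rcases ha with ha | ha <;> rcases hb with hb | hb
        · exact Or.inl (mul_mem ha hb)
        · exact Or.inr (by rw [mul_assoc]; exact mul_mem ha hb)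
        · refine Or.inr ?_
          rw [show a * b * u⁻¹ = a * u⁻¹ * (u * b * u⁻¹) by group]
          exact mul_mem ha (hconj b hb)
        · refine Or.inl ?_
          rw [show a * b = a * u⁻¹ * (u * (b * u⁻¹) * u⁻¹) * (u * u) by group]
          exact mul_mem (mul_mem ha (hconj _ hb)) hsq
      · intro a _ ha
        rcases ha with ha | ha
        · exact Or.inl (inv_mem ha)
        · refine Or.inr ?_
          rw [show a⁻¹ * u⁻¹ = (u * u)⁻¹ * (u * (a * u⁻¹)⁻¹ * u⁻¹) by group]
          exact mul_mem (inv_mem hsq) (hconj _ (inv_mem ha))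
    rcases hcl with h | h
    · obtain ⟨v, hv, y, hy, e⟩ := ih (by omega) t h
      exact ⟨v, hv, y, by rw [pow_succ]; omega, e⟩
    · obtain ⟨v, hv, y, hy, e⟩ := ih (by omega) _ h
      refine ⟨v, hv, y + 2 ^ k, by rw [pow_succ]; omega, ?_⟩
      rw [R_add hk7 hy, ← mul_assoc, ← e, hu, inv_mul_cancel_right]

/-- The subgroup of order `2 ^ 18`. -/
noncomputable def T0 : Subgroup Fi := Tk 7

theorem mem_T0 {t : Fi} : t ∈ T0 ↔ ∃ v < 2 ^ 11, ∃ y < 128, t = X v * R y := by
  refine ⟨decomp 7 le_rfl t, ?_⟩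
  rintro ⟨v, hv, y, hy, rfl⟩
  exact mul_mem (X_mem hv) (R_mem 7 le_rfl 7 le_rfl y hy)

theorem exists_rel {t : Fi} (ht : t ∈ T0) : ∃ y < 128, Rel t y := by
  obtain ⟨v, hv, y, hy, rfl⟩ := mem_T0.1 ht
  exact ⟨y, hy, XR_rel hv hy⟩

/-- The large elementary abelian subgroup. -/
noncomputable def Xs : Subgroup Fi where
  carrier := {t | ∃ v < 2 ^ 11, t = X v}
  one_mem' := ⟨0, by norm_num, X_zero.symm⟩
  mul_mem' := by
    rintro a b ⟨v, hv, rfl⟩ ⟨w, hw, rfl⟩
    exact ⟨v ^^^ w, Nat.xor_lt_two_pow hv hw, (X_xor v w).symm⟩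
  inv_mem' := by
    rintro a ⟨v, hv, rfl⟩
    exact ⟨v, hv, X_inv v⟩

theorem finiteFi : Finite Fi := Fi23Ord.finite_card.1

theorem X_inj {v w : ℕ} (hv : v < 2 ^ 11) (hw : w < 2 ^ 11) (h : X v = X w) : v = w := by
  haveI := finiteFi
  let f : Fin (2 ^ 11) → Xs := fun v => ⟨X v, v, v.2, rfl⟩
  have hf : Function.Surjective f := fun t => by
    obtain ⟨v, hv, e⟩ := t.2
    exact ⟨⟨v, hv⟩, Subtype.ext e.symm⟩
  have hlev : levMasks.all (fun l => l.all fun m => Nat.blt m 2048) = true := by decide +kernel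
  obtain ⟨K', -, hle⟩ := Fi23Cert.cert.chainW_le chainX (Xs.map Fi23Cert.cert.ρ) chain_ok
    (fun l hl u hu => by
      have h1 : l.U ∈ chainX.map WLevel.U := List.mem_map.2 ⟨l, hl, rfl⟩
      rw [chain_masks, List.mem_map] at h1
      obtain ⟨ms, hms, e1⟩ := h1
      rw [← e1, List.mem_map] at hu
      obtain ⟨m, hm, rfl⟩ := hu
      have h2 := List.all_eq_true.1 (List.all_eq_true.1 hlev ms hms) m hm
      exact ⟨X m, ⟨m, by simpa using h2, rfl⟩, rfl⟩)
  rw [chain_sizes] at hle
  have h1 : 2 ^ 11 ≤ Nat.card Xs := by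
    have h2 : Nat.card (Xs.map Fi23Cert.cert.ρ) ≤ Nat.card Xs :=
      Nat.le_of_dvd Nat.card_pos (Subgroup.card_map_dvd _ _)
    have h3 : 2048 ≤ 2048 * Nat.card K' := Nat.le_mul_of_pos_right _ Nat.card_pos
    omega
  have h4 := Nat.card_le_card_of_surjective f hf
  rw [Nat.card_fin] at h4
  have hb : Function.Bijective f := (Nat.bijective_iff_surjective_and_card f).2
    ⟨hf, by rw [Nat.card_fin]; omega⟩
  exact Fin.mk.inj_iff.1 (hb.1 (a₁ := ⟨v, hv⟩) (a₂ := ⟨w, hw⟩) (Subtype.ext h))

theorem card_Xs : Nat.card Xs = 2 ^ 11 := by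
  refine (Nat.card_congr (Equiv.ofBijective
    (fun v : Fin (2 ^ 11) => (⟨X v, v, v.2, rfl⟩ : Xs)) ⟨fun a b h => ?_, fun t => ?_⟩)).symm.trans
    (Nat.card_fin _)
  · exact Fin.ext (X_inj a.2 b.2 (congrArg Subtype.val h))
  · obtain ⟨v, hv, e⟩ := t.2
    exact ⟨⟨v, hv⟩, Subtype.ext e.symm⟩

theorem XR_inj {v w y z : ℕ} (hv : v < 2 ^ 11) (hw : w < 2 ^ 11) (hy : y < 128) (hz : z < 128)
    (h : X v * R y = X w * R z) : v = w ∧ y = z := by
  have e := rel_unique hy hz (XR_rel hv hy) (h ▸ XR_rel hw hz)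
  subst e
  exact ⟨X_inj hv hw (mul_right_cancel h), rfl⟩

theorem card_T0 : Nat.card T0 = 2 ^ 18 := by
  refine (Nat.card_congr (Equiv.ofBijective (fun p : Fin (2 ^ 11) × Fin 128 =>
    (⟨X p.1 * R p.2, mem_T0.2 ⟨p.1, p.1.2, p.2, p.2.2, rfl⟩⟩ : T0))
    ⟨fun a b h => ?_, fun t => ?_⟩)).symm.trans (by rw [Nat.card_prod, Nat.card_fin, Nat.card_fin]; norm_num)
  · have := XR_inj a.1.2 b.1.2 a.2.2 b.2.2 (congrArg Subtype.val h)
    exact Prod.ext (Fin.ext this.1) (Fin.ext this.2)
  · obtain ⟨v, hv, y, hy, e⟩ := mem_T0.1 t.2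
    exact ⟨(⟨v, hv⟩, ⟨y, hy⟩), Subtype.ext e.symm⟩

theorem Xs_le : Xs ≤ T0 := by
  rintro t ⟨v, hv, rfl⟩
  exact X_mem hv

theorem Xs_normal {h k : Fi} (hh : h ∈ Xs) (hk : k ∈ T0) : k * h * k⁻¹ ∈ Xs := by
  obtain ⟨v, hv, rfl⟩ := hh
  obtain ⟨w, hw, y, hy, rfl⟩ := mem_T0.1 hk
  refine ⟨w ^^^ act y v ^^^ w, Nat.xor_lt_two_pow (Nat.xor_lt_two_pow hw (linA_lt _ _)) hw, ?_⟩
  rw [X_xor, X_xor, ← R_conj 7 le_rfl y hy v hv, mul_inv_rev, X_inv]
  simp only [mul_assoc]

theorem Xs_elementary : Cfsg.IsElementaryAbelian 2 Xs := by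
  refine ⟨⟨⟨fun a b => ?_⟩⟩, ?_⟩
  · obtain ⟨v, -, ha⟩ := a.2
    obtain ⟨w, -, hb⟩ := b.2
    apply Subtype.ext
    show (a : Fi) * b = b * a
    rw [ha, hb, ← X_xor, ← X_xor, Nat.xor_comm]
  · rintro a ⟨v, -, rfl⟩
    rw [pow_two, X_sq]

theorem span_bits (M x : ℕ) : ∀ q, (M.testBit q = true → (spanY M x).testBit q = true) ∧
    ((spanY M x).testBit q = true → M.testBit q = true ∨
      ∃ w, M.testBit w = true ∧ q = mulY x w) ∧
    (M.testBit 0 = true → (spanY M x).testBit (mulY x 0) = true) := by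
  unfold spanY
  have key : ∀ l : List ℕ,
      ∀ q, (M.testBit q = true → (l.foldr (fun e r => bif M.testBit e then r ||| 2 ^ (mulY x e)
          else r) M).testBit q = true) ∧
        ((l.foldr (fun e r => bif M.testBit e then r ||| 2 ^ (mulY x e) else r) M).testBit q = true
          → M.testBit q = true ∨ ∃ w, M.testBit w = true ∧ q = mulY x w) ∧
        (∀ w ∈ l, M.testBit w = true → (l.foldr (fun e r => bif M.testBit e then
          r ||| 2 ^ (mulY x e) else r) M).testBit (mulY x w) = true) := by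
    intro l
    induction l with
    | nil => intro q; exact ⟨fun h => h, fun h => Or.inl h, by simp⟩
    | cons a t ih =>
      intro q
      simp only [List.foldr_cons, List.mem_cons]
      cases ha : M.testBit a with
      | false =>
        refine ⟨(ih q).1, (ih q).2.1, ?_⟩
        rintro w (rfl | hw) hw'
        · rw [ha] at hw'; cases hw'
        · exact (ih q).2.2 w hw hw'
      | true =>
        simp only [cond_true, Nat.testBit_lor, Bool.or_eq_true, Nat.testBit_two_pow,
          decide_eq_true_eq]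
        refine ⟨fun h => Or.inl ((ih q).1 h), ?_, ?_⟩
        · rintro (h | h)
          · exact (ih q).2.1 h
          · exact Or.inr ⟨a, ha, h.symm⟩
        · rintro w (rfl | hw) hw'
          · exact Or.inr rfl
          · exact Or.inl ((ih q).2.2 w hw hw')
  exact fun q => ⟨(key _ q).1, (key _ q).2.1, fun h =>
    (key _ q).2.2 0 (List.mem_range.2 (by norm_num)) h⟩

theorem countIn_card (p : ℕ → Bool) : ∀ k lo : ℕ,
    countIn p lo k = ((Finset.Ico lo (lo + k)).filter fun c => p c = true).card := by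
  intro k
  induction k with
  | zero => intro lo; simp [countIn]
  | succ k ihk =>
    intro lo
    have hins : Finset.Ico lo (lo + (k + 1)) = insert lo (Finset.Ico (lo + 1) (lo + 1 + k)) := by
      ext; simp; omega
    rw [countIn, ihk, hins, Finset.filter_insert]
    rcases Bool.eq_false_or_eq_true (p lo) with hh | hh <;> simp [hh]

theorem main {A : Subgroup Fi} (hA : A ≤ T0)
    (hn : ∀ a ∈ A, ∀ k ∈ T0, k * a * k⁻¹ ∈ A) (hel : Cfsg.IsElementaryAbelian 2 A) :
    A ≤ Xs ∨ Nat.card A ≤ 1024 := by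
  classical
  haveI := finiteFi
  obtain ⟨hcomm, hexp⟩ := hel
  have hcm : ∀ a ∈ A, ∀ b ∈ A, a * b = b * a := fun a ha b hb =>
    congrArg Subtype.val (hcomm.1.1 ⟨a, ha⟩ ⟨b, hb⟩)
  let Bar : ℕ → Prop := fun q => q < 128 ∧ ∃ a ∈ A, Rel a q
  have bar_one : Bar 0 := ⟨by norm_num, 1, one_mem A, fun i hi => by
    rw [ap_one, beq_iff_eq.1 (allIn_at perm_zero hi :)]⟩
  have bar_mul : ∀ {t u : Fi} {a b : ℕ}, t ∈ T0 → u ∈ T0 → a < 128 → b < 128 → Rel t a → Rel u b →
      Rel (t * u) (mulY a b) := by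
    intro t u a b ht hu ha hb hta hub
    obtain ⟨q, hq, hr⟩ := exists_rel (mul_mem ht hu)
    rwa [← rel_mul ha hb hq hta hub hr]
  have hsub : ∀ M ∈ subs, M.testBit 0 = true := by
    have : subs.all (fun M => M.testBit 0) = true := by decide +kernel
    exact List.all_eq_true.1 this
  let S : Finset ℕ := subs.toFinset.filter fun M => ∀ q, M.testBit q = true → Bar q
  have hS : S.Nonempty := ⟨1, Finset.mem_filter.2 ⟨List.mem_toFinset.2 (List.elem_iff.1 subs_one),
    fun q hq => by rw [Nat.testBit_one_eq_true_iff_self_eq_zero] at hq; subst hq; exact bar_one⟩⟩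
  set M := S.max' hS with hMdef
  obtain ⟨hMs, hMB⟩ := Finset.mem_filter.1 (S.max'_mem hS)
  rw [List.mem_toFinset] at hMs
  rw [← hMdef] at hMs hMB
  have hall : ∀ q, Bar q → M.testBit q = true := by
    by_contra hne
    push Not at hne
    obtain ⟨x, ⟨hxB, hxM⟩, hmin⟩ := Nat.findX hne
    have hxlt := hxB.1
    obtain ⟨a, haA, hax⟩ := hxB.2
    have hx0 : x ≠ 0 := by
      rintro rfl
      exact hxM (hsub M hMs)
    have c1 : mulY x x = 0 := by
      refine (rel_unique (by norm_num) (mulY_lt hxlt hxlt) ?_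
        (bar_mul (hA haA) (hA haA) hxlt hxlt hax hax)).symm
      rw [← pow_two, hexp a haA]
      intro i hi
      rw [ap_one, beq_iff_eq.1 (allIn_at perm_zero hi :)]
    have c2 : ∀ w, M.testBit w = true → mulY x w = mulY w x := by
      intro w hw
      obtain ⟨hwlt, b, hbA, hbw⟩ := hMB w hw
      refine rel_unique (mulY_lt hxlt hwlt) (mulY_lt hwlt hxlt)
        (bar_mul (hA haA) (hA hbA) hxlt hwlt hax hbw) ?_
      rw [hcm a haA b hbA]
      exact bar_mul (hA hbA) (hA haA) hwlt hxlt hbw hax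
    have c3 : ∀ j < 7, M.testBit (mulY (mulY (mulY (2 ^ j) x) (invY (2 ^ j))) x) = true := by
      intro j hj
      have hlt : mulY (mulY (mulY (2 ^ j) x) (invY (2 ^ j))) x < x := by
        have h := allIn_at small_comm hxlt
        rw [Bool.or_eq_true] at h
        rcases h with h | h
        · exact absurd (Nat.eq_of_beq_eq_true h) hx0
        · simpa using allIn_at h hj
      by_contra hbad
      refine hmin _ hlt ⟨?_, hbad⟩
      have hp : 2 ^ j < 128 := lt_of_lt_of_eq (Nat.pow_lt_pow_right (by norm_num) hj) (by norm_num)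
      have hq := allIn_at inv_ok hp
      simp only [Bool.and_eq_true, beq_iff_eq, Nat.blt_eq] at hq
      obtain ⟨hq0, hql⟩ := hq
      have hsj : s j ∈ T0 := R_pow hj ▸ R_mem 7 le_rfl 7 le_rfl _ hp
      have hR : R (invY (2 ^ j)) ∈ T0 := R_mem 7 le_rfl 7 le_rfl _ hql
      have r1 : Rel (s j) (2 ^ j) := R_pow hj ▸ R_rel 7 le_rfl _ hp
      obtain ⟨w, hw, y, hy, ey⟩ := mem_T0.1 (mul_mem hsj hR)
      have hy0 : y = 0 := by
        have := rel_mul hp hql hy r1 (R_rel 7 le_rfl _ hql) (ey ▸ XR_rel hw hy)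
        rw [this, hq0]
      subst hy0
      rw [R_zero, mul_one] at ey
      have hca : s j * a * (s j)⁻¹ ∈ A := hn a haA _ hsj
      refine ⟨mulY_lt (mulY_lt (mulY_lt hp hxlt) hql) hxlt, s j * a * (s j)⁻¹ * a,
        mul_mem hca haA, bar_mul (hA hca) (hA haA) (mulY_lt (mulY_lt hp hxlt) hql) hxlt ?_ hax⟩
      have h2 := rel_mul_X (bar_mul (mul_mem hsj (hA haA)) hR (mulY_lt hp hxlt) hql
        (bar_mul hsj (hA haA) hp hxlt r1 hax) (R_rel 7 le_rfl _ hql)) hw
      have e2 : s j * a * R (invY (2 ^ j)) * X w = s j * a * (s j)⁻¹ := by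
        rw [show R (invY (2 ^ j)) = (s j)⁻¹ * X w by rw [← ey]; group, mul_assoc, mul_assoc,
          mul_assoc, mul_assoc, X_sq, mul_one]
      rwa [e2] at h2
    have h := allIn_at (List.all_eq_true.1 subs_closed M hMs) hxlt
    have e1 : allIn (fun e => !(M.testBit e) || mulY x e == mulY e x) 0 128 = true := by
      rw [allIn_iff]
      intro w _ _
      cases hw : M.testBit w
      · rfl
      · simp [c2 w hw]
    have e2 : allIn (fun j => M.testBit (mulY (mulY (mulY (2 ^ j) x) (invY (2 ^ j))) x)) 0 7 = true :=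
      (allIn_iff _ _ _).2 fun j _ hj => c3 j (by omega)
    rw [e1, e2, c1] at h
    simp only [Bool.not_eq_true] at hxM
    simp [hxM] at h
    have hbig : spanY M x ∈ S := by
      refine Finset.mem_filter.2 ⟨List.mem_toFinset.2 h, fun q hq => ?_⟩
      rcases (span_bits M x q).2.1 hq with hq | ⟨w, hw, rfl⟩
      · exact hMB q hq
      · obtain ⟨hwlt, b, hbA, hbw⟩ := hMB w hw
        exact ⟨mulY_lt hxlt hwlt, a * b, mul_mem haA hbA,
          bar_mul (hA haA) (hA hbA) hxlt hwlt hax hbw⟩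
    have hle : spanY M x ≤ M := S.le_max' _ hbig
    have heq : spanY M x = M := by
      refine le_antisymm hle ?_
      have : spanY M x = M ||| spanY M x := Nat.eq_of_testBit_eq fun q => by
        rw [Nat.testBit_lor]
        cases hq : M.testBit q
        · simp
        · simp [(span_bits M x q).1 hq]
      rw [this]
      exact Nat.left_le_or
    have hx' : mulY x 0 = x := by
      refine rel_unique (mulY_lt hxlt (by norm_num)) hxlt
        (bar_mul (hA haA) (one_mem T0) hxlt (by norm_num) hax ?_) (by rw [mul_one]; exact hax)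
      intro i hi
      rw [ap_one, beq_iff_eq.1 (allIn_at perm_zero hi :)]
    have := (span_bits M x 0).2.2 (hsub M hMs)
    rw [heq, hx'] at this
    simp [hxM] at this
  have hgen := List.all_eq_true.1 subs_gens M hMs
  rw [Bool.or_eq_true] at hgen
  rcases hgen with hM1 | hgen
  · left
    intro a ha
    obtain ⟨v, hv, y, hy, e⟩ := mem_T0.1 (hA ha)
    have hy0 := hall y ⟨hy, a, ha, e ▸ XR_rel hv hy⟩
    rw [beq_iff_eq.1 hM1, Nat.testBit_one_eq_true_iff_self_eq_zero] at hy0
    subst hy0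
    exact ⟨v, hv, by rw [e, R_zero, mul_one]⟩
  right
  obtain ⟨d, -, hd⟩ := List.any_eq_true.1 hgen
  simp only [Bool.and_eq_true, beq_iff_eq, List.all_eq_true, Nat.ble_eq] at hd
  obtain ⟨⟨-, hdg⟩, hcount⟩ := hd
  have hfix : ∀ v < 2 ^ 11, X v ∈ A → (d.2.all fun g => linA g.2 v == v) = true := by
    intro v hv hXv
    rw [List.all_eq_true]
    intro g hg
    obtain ⟨hg1, hg2⟩ := hdg g hg
    obtain ⟨hglt, b, hbA, hbg⟩ := hMB _ hg1
    obtain ⟨u, hu, y, hy, e⟩ := mem_T0.1 (hA hbA)
    have hyg : y = g.1 := rel_unique hy hglt (e ▸ XR_rel hu hy) hbg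
    have h := hcm b hbA _ hXv
    rw [e] at h
    have h3 : R y * X v * (R y)⁻¹ = X v := by
      calc R y * X v * (R y)⁻¹ = (X u)⁻¹ * (X u * R y * X v) * (R y)⁻¹ := by group
        _ = (X u)⁻¹ * (X v * (X u * R y)) * (R y)⁻¹ := by rw [h]
        _ = X u * X v * X u := by rw [X_inv]; group
        _ = X v := by rw [← X_xor, ← X_xor, Nat.xor_comm u v, Nat.xor_assoc, Nat.xor_self,
          Nat.xor_zero]
    rw [R_conj 7 le_rfl y hy v hv, hyg] at h3
    have h4 := X_inj (linA_lt _ _) hv h3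
    rw [hg2] at h4
    simpa using h4
  choose V hV Y hY hdec using fun a : A => mem_T0.1 (hA a.2)
  have hYM : ∀ a : A, M.testBit (Y a) = true := fun a =>
    hall _ ⟨hY a, a.1, a.2, by rw [hdec a]; exact XR_rel (hV a) (hY a)⟩
  let rep : ℕ → ℕ := fun q => if h : ∃ a : A, Y a = q then V h.choose else 0
  have hF : ∀ a : A, V a ^^^ rep (Y a) < 2 ^ 11 ∧ X (V a ^^^ rep (Y a)) ∈ A := by
    intro a
    have hex : ∃ b : A, Y b = Y a := ⟨a, rfl⟩
    simp only [rep, dif_pos hex]
    refine ⟨Nat.xor_lt_two_pow (hV a) (hV _), ?_⟩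
    rw [show X (V a ^^^ V hex.choose) = a.1 * (hex.choose : A).1⁻¹ by
      rw [hdec a, hdec hex.choose, hex.choose_spec, mul_inv_rev, X_inv, X_xor]; group]
    exact mul_mem a.2 (inv_mem (hex.choose).2)
  let SM : Finset ℕ := (Finset.Ico 0 (0 + 128)).filter fun c => M.testBit c = true
  let SF : Finset ℕ := (Finset.Ico 0 (0 + 2048)).filter
    fun v => (d.2.all fun g => linA g.2 v == v) = true
  let f : A → ↥(SM ×ˢ SF) := fun a => ⟨(Y a, V a ^^^ rep (Y a)), Finset.mem_product.2
    ⟨Finset.mem_filter.2 ⟨Finset.mem_Ico.2 ⟨Nat.zero_le _, by simpa using hY a⟩, hYM a⟩,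
     Finset.mem_filter.2 ⟨Finset.mem_Ico.2 ⟨Nat.zero_le _, by simpa using (hF a).1⟩,
      hfix _ (hF a).1 (hF a).2⟩⟩⟩
  have hfi : Function.Injective f := by
    intro a b h
    simp only [f, Subtype.mk.injEq, Prod.mk.injEq] at h
    obtain ⟨h1, h2⟩ := h
    rw [h1] at h2
    have h3 : V a = V b := by
      have := congrArg (fun t => t ^^^ rep (Y b)) h2
      simpa [Nat.xor_assoc, Nat.xor_self] using this
    exact Subtype.ext (by rw [hdec a, hdec b, h1, h3])
  refine le_trans (Nat.card_le_card_of_injective f hfi) ?_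
  rw [Nat.card_eq_fintype_card, Fintype.card_coe, Finset.card_product,
    ← countIn_card, ← countIn_card]
  exact hcount

theorem card_Fi_fact : (Nat.card Fi).factorization 2 = 18 := by
  rw [Fi23Ord.injective_card.2, show (4089470473293004800 : ℕ) = 2 ^ 18 * 15600091832325 by norm_num,
    Nat.factorization_mul (by norm_num) (by norm_num), Finsupp.add_apply,
    Nat.Prime.factorization_pow Nat.prime_two, Nat.factorization_eq_zero_of_not_dvd (by norm_num)]
  simp

theorem normal_elementary (T : Sylow 2 Fi) :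
    (∀ A : Subgroup Fi, A ≤ T → (A.subgroupOf T).Normal → Cfsg.IsElementaryAbelian 2 A →
        Nat.card A ≤ 2 ^ 11) ∧
    ∃! A : Subgroup Fi, A ≤ T ∧ (A.subgroupOf T).Normal ∧ Cfsg.IsElementaryAbelian 2 A ∧
        Nat.card A = 2 ^ 11 := by
  haveI := finiteFi
  haveI : Fact (Nat.Prime 2) := ⟨Nat.prime_two⟩
  let P := Sylow.ofCard (p := 2) T0 (by rw [card_Fi_fact, card_T0])
  obtain ⟨c, rfl⟩ := MulAction.exists_smul_eq Fi P T
  set φ : Fi ≃* Fi := MulAut.conj c with hφ
  have hT : ∀ t, t ∈ ((c • P : Sylow 2 Fi) : Subgroup Fi) ↔ φ.symm t ∈ T0 := fun t =>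
    (Subgroup.mem_map_equiv (f := φ) (K := T0) (x := t))
  have core : ∀ A : Subgroup Fi, A ≤ ↑(c • P) → (A.subgroupOf ↑(c • P)).Normal →
      Cfsg.IsElementaryAbelian 2 A → Nat.card A ≤ 2 ^ 11 ∧
        (Nat.card A = 2 ^ 11 → A = Xs.map φ.toMonoidHom) := by
    intro A hA hn hel
    have hn' := (Subgroup.normal_subgroupOf_iff hA).1 hn
    let B := A.map φ.symm.toMonoidHom
    have hB : ∀ t, t ∈ B ↔ φ t ∈ A := fun t => by
      rw [Subgroup.mem_map_equiv, MulEquiv.symm_symm]
    have hcard : Nat.card B = Nat.card A :=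
      Subgroup.card_map_of_injective φ.symm.injective
    have hBT : B ≤ T0 := fun t ht => by
      have := (hT _).1 (hA ((hB t).1 ht))
      rwa [MulEquiv.symm_apply_apply] at this
    have hBel : Cfsg.IsElementaryAbelian 2 B := by
      refine ⟨⟨⟨fun a b => ?_⟩⟩, fun a ha => φ.injective ?_⟩
      · apply Subtype.ext
        apply φ.injective
        show φ ((a : Fi) * b) = φ ((b : Fi) * a)
        rw [map_mul, map_mul]
        exact congrArg Subtype.val (hel.1.1.1 ⟨_, (hB _).1 a.2⟩ ⟨_, (hB _).1 b.2⟩)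
      · rw [map_pow, map_one]
        exact hel.2 _ ((hB a).1 ha)
    rcases main hBT (fun a ha k hk => (hB _).2 (by
        rw [map_mul, map_mul, map_inv]
        exact hn' _ _ ((hB a).1 ha) ((hT _).2 (by rwa [MulEquiv.symm_apply_apply])))) hBel with h | h
    · have hle : Nat.card B ≤ 2 ^ 11 := by
        rw [← card_Xs]
        exact Subgroup.card_le_of_le h
      refine ⟨hcard ▸ hle, fun hc => ?_⟩
      have hBX : B = Xs := Subgroup.eq_of_le_of_card_ge h (by rw [card_Xs, hcard, hc])
      ext t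
      rw [Subgroup.mem_map_equiv, ← hBX, hB, MulEquiv.apply_symm_apply]
    · rw [hcard] at h
      exact ⟨by omega, fun hc => by omega⟩
  refine ⟨fun A h1 h2 h3 => (core A h1 h2 h3).1, Xs.map φ.toMonoidHom, ⟨?_, ?_, ?_, ?_⟩,
    fun A ⟨h1, h2, h3, h4⟩ => (core A h1 h2 h3).2 h4⟩
  · intro t ht
    rw [Subgroup.mem_map_equiv] at ht
    exact (hT t).2 (Xs_le ht)
  · rw [Subgroup.normal_subgroupOf_iff (fun t ht => (hT t).2 (Xs_le (Subgroup.mem_map_equiv.1 ht)))]
    intro h k hh hk
    rw [Subgroup.mem_map_equiv] at hh ⊢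
    rw [map_mul, map_mul, map_inv]
    exact Xs_normal hh ((hT k).1 hk)
  · refine ⟨⟨⟨fun a b => ?_⟩⟩, ?_⟩
    · obtain ⟨a', ha', ea⟩ := a.2
      obtain ⟨b', hb', eb⟩ := b.2
      apply Subtype.ext
      show (a : Fi) * b = b * a
      rw [← ea, ← eb, ← map_mul, ← map_mul]
      exact congrArg φ (congrArg Subtype.val (Xs_elementary.1.1.1 ⟨a', ha'⟩ ⟨b', hb'⟩))
    · rintro a ⟨a', ha', rfl⟩
      rw [← map_pow, Xs_elementary.2 a' ha', map_one]
  · rw [Subgroup.card_map_of_injective φ.injective, card_Xs]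

end H29.CosetCert.Fi23Syl
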