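import Cfsg.Agent.H29.CosetCert.Fi23.DoubleCover

/-!
# The conjugates of the central involution form a class of 3-transpositions of the presented Fi23
-/

set_option autoImplicit false
set_option maxRecDepth 16000

namespace H29.CosetCert.Fi23Trans

open H29.CosetCert

local notation "Fi" => Cfsg.Spor.Fi23
local notation "K" => Fi23Cert.H
local notation "ρ" => Fi23Cert.cert.ρ

/-- The word of the central involution of the stabilizer. -/
def zW : List ℕ :=
  [7, 6, 5, 4, 3, 2, 1, 0, 8, 3, 2, 4, 3, 5, 4, 6, 5, 7, 6, 8, 3, 2, 4, 3, 5, 4, 8, 3, 2, 1, 0,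
    1, 2, 3, 8, 4, 5, 3, 4, 2, 3, 8, 6, 7, 5, 6, 4, 5, 3, 4, 2, 3, 8, 0, 1, 2, 3, 4, 5, 6, 7]

/-- A word to a point of the orbit of 28160. -/
def farW : List ℕ := [7]

/-- A word to a point of the orbit of 3510. -/
def nearW : List ℕ := [7, 6, 5, 4, 3, 8, 2, 3, 4, 5, 6, 7]

/-- The word of the product of two transpositions. -/
def pairW (u : List ℕ) : List ℕ := zW ++ (u ++ zW ++ u.reverse)

/-- The transposition. -/
noncomputable def ta : Fi := (zW.map Fi23Cert.g).prod

theorem fix_z : runR Fi23Data.T zW 0 = 0 := by decide +kernel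

theorem moved_z : (runR Fi23Data.T zW 1 == 1) = false := by decide +kernel

theorem sq_ok : sameAt Fi23Data.T Fi23Words.base (zW ++ zW) [] = true := by decide +kernel

theorem comm_ok : Fi23Data.S.all
    (fun r => sameAt Fi23Data.T Fi23Words.base (r.reverse ++ zW) (zW ++ r.reverse)) = true := by
  decide +kernel

theorem far_mem : Fi23Data.orb1.testBit (runR Fi23Data.T farW 0) = true := by decide +kernel

theorem near_mem : Fi23Data.orb2.testBit (runR Fi23Data.T nearW 0) = true := by decide +kernel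

theorem far_pow : sameAt Fi23Data.T Fi23Words.base (pairW farW ++ pairW farW ++ pairW farW) [] =
    true := by decide +kernel

theorem near_pow : sameAt Fi23Data.T Fi23Words.base (pairW nearW ++ pairW nearW) [] = true := by
  decide +kernel

theorem far_noncomm : (runR Fi23Data.T (zW ++ farW) 1 == runR Fi23Data.T (farW ++ zW) 1) = false := by
  decide +kernel

theorem near_noncomm : (runR Fi23Data.T (zW ++ nearW) 1 == runR Fi23Data.T (nearW ++ zW) 1) =
    false := by decide +kernel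

theorem word_eq {v w : List ℕ} (h : sameAt Fi23Data.T Fi23Words.base v w = true) :
    (v.map Fi23Cert.g).prod = (w.map Fi23Cert.g).prod :=
  Fi23Ord.faithful.2.2 v w (by rw [Fi23Words.base_eq]; exact h)

theorem word_inv (u : List ℕ) : ((u.map Fi23Cert.g).prod)⁻¹ = (u.reverse.map Fi23Cert.g).prod :=
  (prod_reverse_of_sq (p := Fi23Cert.g) Fi23Cert.cert.g_sq u).symm

theorem ρ_word (w : List ℕ) (c : Fin Fi23Cert.cert.n) :
    ((ρ (w.map Fi23Cert.g).prod c : Fin Fi23Cert.cert.n) : ℕ) = runR Fi23Data.T w c :=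
  Fi23Cert.cert.prod_ρ_val w c

/-- The base point. -/
noncomputable abbrev o : Fin Fi23Cert.cert.n := Fi23Cert.cert.base

theorem ta_sq : ta * ta = 1 := by
  have h := word_eq sq_ok
  rwa [List.map_append, List.prod_append] at h

theorem ta_ne_one : ta ≠ 1 := by
  intro h
  have h1 := ρ_word zW (⟨1, show 1 < 31671 by norm_num⟩ : Fin Fi23Cert.cert.n)
  rw [← ta, h, map_one, Equiv.Perm.one_apply] at h1
  have h2 := moved_z
  rw [beq_eq_false_iff_ne] at h2
  exact h2 h1.symm

theorem ta_comm {h : Fi} (hh : h ∈ K) : ta * h = h * ta := by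
  induction hh using Subgroup.closure_induction with
  | mem x hx =>
    simp only [Set.mem_setOf_eq, List.mem_map] at hx
    obtain ⟨r, hr, rfl⟩ := hx
    have h := word_eq (List.all_eq_true.1 comm_ok r hr)
    rw [List.map_append, List.map_append, List.prod_append, List.prod_append] at h
    exact h.symm
  | one => simp
  | mul a b _ _ ha hb => rw [← mul_assoc, ha, mul_assoc, hb, mul_assoc]
  | inv a _ ha => exact (Commute.inv_right (show Commute ta a from ha)).eq

theorem mem_H_iff {y : Fi} : y ∈ K ↔ ρ y o = o := by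
  refine ⟨fun h => Fi23Cert.cert.fix_base h, fun h => ?_⟩
  have h1 : Fi23Cert.cert.toPt (y : Fi ⧸ K) = Fi23Cert.cert.toPt ((1 : Fi) : Fi ⧸ K) := by
    rw [Cert.toPt_mk, Cert.toPt_mk, map_one, Equiv.Perm.one_apply]
    exact h
  simpa using QuotientGroup.eq.1 (Function.LeftInverse.injective Fi23Cert.cert.ofPt_toPt h1)

theorem ta_mem : ta ∈ K := mem_H_iff.2 (Fin.ext ((ρ_word zW o).trans fix_z))

theorem cover_cases (c : Fin Fi23Cert.cert.n) : c = o ∨ Fi23Data.orb1.testBit c = true ∨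
    Fi23Data.orb2.testBit c = true := by
  have h := congrArg (fun v => Nat.testBit v c) Fi23Ord.cover
  have hc : (c : ℕ) < 31671 := c.2
  simp only [Nat.testBit_two_pow_sub_one, Nat.testBit_lor, decide_eq_true hc, Bool.or_eq_true] at h
  rcases h with (h | h) | h
  · exact Or.inl (Fin.ext (Nat.testBit_one_eq_true_iff_self_eq_zero.1 h))
  · exact Or.inr (Or.inl h)
  · exact Or.inr (Or.inr h)

theorem orbit_trans {m : ℕ} {s sz : ℕ} {l : List ℕ} (hs : s < Fi23Cert.cert.n)
    (hgrow : growOK Fi23Cert.cert.T (Fi23Cert.cert.S.map List.reverse) m l (2 ^ s) = true)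
    (hinv : allIn (fun c => bif m.testBit c then
      allIn (fun i => m.testBit (runR Fi23Cert.cert.T (Fi23Cert.cert.S.getD i []).reverse c)) 0
        Fi23Cert.cert.S.length
      else true) 0 Fi23Cert.cert.n = true)
    (hcnt : countIn m.testBit 0 Fi23Cert.cert.n = sz) {x y : Fin Fi23Cert.cert.n}
    (hx : m.testBit x.val = true) (hy : m.testBit y.val = true) : ∃ h ∈ K, ρ h x = y := by
  obtain ⟨q, -, hq⟩ := Fi23Cert.cert.exists_orbit hs hgrow hinv hcnt
  obtain ⟨qx, hqx⟩ := Fi23Cert.cert.toPt_surjective x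
  obtain ⟨qy, hqy⟩ := Fi23Cert.cert.toPt_surjective y
  obtain ⟨h1, e1⟩ := (hq qx).2 (by rw [hqx]; exact hx)
  obtain ⟨h2, e2⟩ := (hq qy).2 (by rw [hqy]; exact hy)
  refine ⟨(h2 * h1⁻¹ : K), SetLike.coe_mem _, ?_⟩
  have e : (h2 * h1⁻¹) • qx = qy := by
    rw [← e1, ← e2, mul_smul]
    show h2 • h1⁻¹ • h1 • q = h2 • q
    rw [inv_smul_smul]
  have := Fi23Cert.cert.toPt_smul ((h2 * h1⁻¹ : K) : Fi) qx
  rw [hqx] at this
  exact this.symm.trans ((congrArg Fi23Cert.cert.toPt e).trans hqy)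

theorem decompose {y : Fi} {u : List ℕ} {h : Fi} (hh : h ∈ K)
    (e : ρ h (ρ (u.map Fi23Cert.g).prod o) = ρ y o) :
    ∃ k ∈ K, y = h * (u.map Fi23Cert.g).prod * k := by
  refine ⟨(h * (u.map Fi23Cert.g).prod)⁻¹ * y, mem_H_iff.2 ?_, by group⟩
  rw [map_mul, Equiv.Perm.mul_apply, ← e, ← Equiv.Perm.mul_apply (ρ h), ← map_mul,
    ← Equiv.Perm.mul_apply, ← map_mul, inv_mul_cancel, map_one, Equiv.Perm.one_apply]

theorem conj_pair {y : Fi} {u : List ℕ} {h k : Fi} (hh : h ∈ K) (hk : k ∈ K)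
    (hy : y = h * (u.map Fi23Cert.g).prod * k) (n : ℕ) :
    (ta * (y * ta * y⁻¹)) ^ n = h * ((pairW u).map Fi23Cert.g).prod ^ n * h⁻¹ := by
  set w := (u.map Fi23Cert.g).prod with hw
  have hp : ((pairW u).map Fi23Cert.g).prod = ta * (w * ta * w⁻¹) := by
    rw [hw, word_inv, pairW, ta]
    simp only [List.map_append, List.prod_append]
  have hconj : y * ta * y⁻¹ = h * (w * ta * w⁻¹) * h⁻¹ := by
    rw [hy]
    calc h * w * k * ta * (h * w * k)⁻¹ = h * w * (k * ta) * k⁻¹ * (h * w)⁻¹ := by group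
      _ = h * w * (ta * k) * k⁻¹ * (h * w)⁻¹ := by rw [ta_comm hk]
      _ = h * (w * ta * w⁻¹) * h⁻¹ := by group
  rw [hconj, hp, show ta * (h * (w * ta * w⁻¹) * h⁻¹) = h * (ta * (w * ta * w⁻¹)) * h⁻¹ by
    rw [← mul_assoc, ← mul_assoc ta h, ta_comm hh]; group]
  exact conj_pow

theorem far_trans {y : Fi} (hy : Fi23Data.orb1.testBit (ρ y o : Fin Fi23Cert.cert.n) = true) :
    ∃ h ∈ K, ∃ k ∈ K, y = h * (farW.map Fi23Cert.g).prod * k := by
  obtain ⟨h, hh, e⟩ := orbit_trans (s := 1) (by decide) Fi23Data.orb1_grow Fi23Data.orb1_inv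
    Fi23Data.orb1_count (x := ρ (farW.map Fi23Cert.g).prod o) (y := ρ y o)
    ((congrArg Fi23Data.orb1.testBit (ρ_word farW o)).trans far_mem) hy
  exact ⟨h, hh, decompose hh e⟩

theorem near_trans {y : Fi} (hy : Fi23Data.orb2.testBit (ρ y o : Fin Fi23Cert.cert.n) = true) :
    ∃ h ∈ K, ∃ k ∈ K, y = h * (nearW.map Fi23Cert.g).prod * k := by
  obtain ⟨h, hh, e⟩ := orbit_trans (s := 52) (by decide) Fi23Data.orb2_grow Fi23Data.orb2_inv
    Fi23Data.orb2_count (x := ρ (nearW.map Fi23Cert.g).prod o) (y := ρ y o)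
    ((congrArg Fi23Data.orb2.testBit (ρ_word nearW o)).trans near_mem) hy
  exact ⟨h, hh, decompose hh e⟩

theorem transposition_pair (y : Fi) :
    (ta * (y * ta * y⁻¹)) ^ 2 = 1 ∨ (ta * (y * ta * y⁻¹)) ^ 3 = 1 := by
  rcases cover_cases (ρ y o) with h | h | h
  · left
    have hy : y ∈ K := mem_H_iff.2 h
    rw [← ta_comm hy, mul_assoc, mul_inv_cancel, mul_one, ta_sq, one_pow]
  · right
    obtain ⟨a, ha, b, hb, e⟩ := far_trans h
    rw [conj_pair ha hb e, pow_succ, pow_two]
    have := word_eq far_pow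
    simp only [List.map_append, List.prod_append, List.map_nil, List.prod_nil] at this
    rw [this]
    group
  · left
    obtain ⟨a, ha, b, hb, e⟩ := near_trans h
    rw [conj_pair ha hb e, pow_two]
    have := word_eq near_pow
    simp only [List.map_append, List.prod_append, List.map_nil, List.prod_nil] at this
    rw [this]
    group

theorem not_comm {u : List ℕ}
    (hu : (runR Fi23Data.T (zW ++ u) 1 == runR Fi23Data.T (u ++ zW) 1) = false) :
    ta * (u.map Fi23Cert.g).prod ≠ (u.map Fi23Cert.g).prod * ta := by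
  intro h
  rw [beq_eq_false_iff_ne] at hu
  apply hu
  let one' : Fin Fi23Cert.cert.n := ⟨1, show 1 < 31671 by norm_num⟩
  calc runR Fi23Data.T (zW ++ u) 1
      = (ρ ((zW ++ u).map Fi23Cert.g).prod one' : Fin Fi23Cert.cert.n) := (ρ_word _ one').symm
    _ = (ρ ((u ++ zW).map Fi23Cert.g).prod one' : Fin Fi23Cert.cert.n) := by
        rw [List.map_append, List.map_append, List.prod_append, List.prod_append, ← ta, h]
    _ = runR Fi23Data.T (u ++ zW) 1 := ρ_word _ one'

theorem centralizer_eq : Subgroup.centralizer ({ta} : Set Fi) = K := by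
  refine le_antisymm (fun y hy => ?_)
    fun y hy => Subgroup.mem_centralizer_singleton_iff.2 (ta_comm hy).symm
  have key : ∀ (u : List ℕ) (a b : Fi), a ∈ K → b ∈ K →
      y = a * (u.map Fi23Cert.g).prod * b →
      ta * (u.map Fi23Cert.g).prod = (u.map Fi23Cert.g).prod * ta := by
    intro u a b ha hb e
    have hm : (u.map Fi23Cert.g).prod ∈ Subgroup.centralizer ({ta} : Set Fi) := by
      rw [show (u.map Fi23Cert.g).prod = a⁻¹ * y * b⁻¹ by rw [e]; group]
      refine mul_mem (mul_mem (inv_mem ?_) hy) (inv_mem ?_)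
      · exact Subgroup.mem_centralizer_singleton_iff.2 (ta_comm ha).symm
      · exact Subgroup.mem_centralizer_singleton_iff.2 (ta_comm hb).symm
    exact (Subgroup.mem_centralizer_singleton_iff.1 hm).symm
  rcases cover_cases (ρ y o) with h | h | h
  · exact mem_H_iff.2 h
  · obtain ⟨a, ha, b, hb, e⟩ := far_trans h
    exact absurd (key _ a b ha hb e) (not_comm far_noncomm)
  · obtain ⟨a, ha, b, hb, e⟩ := near_trans h
    exact absurd (key _ a b ha hb e) (not_comm near_noncomm)

theorem mem_conjugatesOf {d : Fi} : d ∈ conjugatesOf ta ↔ ∃ y, d = y * ta * y⁻¹ := by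
  show IsConj ta d ↔ _
  rw [isConj_iff]
  exact ⟨fun ⟨c, hc⟩ => ⟨c, hc.symm⟩, fun ⟨c, hc⟩ => ⟨c, hc.symm⟩⟩

theorem three_transpositions : Cfsg.IsThreeTranspositionClass (conjugatesOf ta) := by
  refine ⟨⟨fun d hd => ?_, fun d hd e he => ?_⟩, ⟨ta, mem_conjugatesOf_self, rfl⟩, ?_⟩
  · obtain ⟨y, rfl⟩ := mem_conjugatesOf.1 hd
    refine orderOf_eq_prime ?_ fun h => ta_ne_one (conj_eq_one_iff.1 h)
    rw [conj_pow, pow_two, ta_sq]
    group
  · obtain ⟨x, rfl⟩ := mem_conjugatesOf.1 hd
    obtain ⟨y, rfl⟩ := mem_conjugatesOf.1 he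
    have key : x * ta * x⁻¹ * (y * ta * y⁻¹) =
        x * (ta * (x⁻¹ * y * ta * (x⁻¹ * y)⁻¹)) * x⁻¹ := by group
    rw [key, conj_pow, conj_pow]
    rcases transposition_pair (x⁻¹ * y) with h | h
    · exact Or.inl (by rw [h]; group)
    · exact Or.inr (by rw [h]; group)
  · haveI := Fi23Ord.simple
    have h : Subgroup.normalClosure ({ta} : Set Fi) = ⊤ := by
      refine (Subgroup.Normal.eq_bot_or_eq_top inferInstance).resolve_left fun h => ta_ne_one ?_
      rw [← Subgroup.mem_bot, ← h]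
      exact Subgroup.subset_normalClosure rfl
    rw [← h, Subgroup.normalClosure, Group.conjugatesOfSet]
    simp

theorem exists_to (x : Fin Fi23Cert.cert.n) : ∃ u : Fi, ρ u o = x := by
  obtain ⟨q, hq⟩ := Fi23Cert.cert.toPt_surjective x
  obtain ⟨a, rfl⟩ := QuotientGroup.mk_surjective q
  exact ⟨a, hq⟩

theorem card_class : Nat.card (conjugatesOf ta) = 31671 := by
  let f : Fin Fi23Cert.cert.n → conjugatesOf ta := fun x =>
    ⟨(exists_to x).choose * ta * (exists_to x).choose⁻¹, mem_conjugatesOf.2 ⟨_, rfl⟩⟩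
  have hinj : Function.Injective f := fun x y h => by
    have hh := congrArg Subtype.val h
    set u := (exists_to x).choose with hu
    set v := (exists_to y).choose with hv
    change u * ta * u⁻¹ = v * ta * v⁻¹ at hh
    have hm : u⁻¹ * v ∈ K := by
      rw [← centralizer_eq, Subgroup.mem_centralizer_singleton_iff]
      calc u⁻¹ * v * ta = u⁻¹ * (v * ta * v⁻¹) * v := by group
        _ = u⁻¹ * (u * ta * u⁻¹) * v := by rw [hh]
        _ = ta * (u⁻¹ * v) := by group
    rw [mem_H_iff, map_mul, Equiv.Perm.mul_apply, (exists_to y).choose_spec] at hm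
    have := congrArg (ρ u) hm
    rw [← Equiv.Perm.mul_apply, ← map_mul, mul_inv_cancel, map_one, Equiv.Perm.one_apply,
      (exists_to x).choose_spec] at this
    exact this.symm
  have hsurj : Function.Surjective f := fun d => by
    obtain ⟨z, hz⟩ := mem_conjugatesOf.1 d.2
    refine ⟨ρ z o, Subtype.ext ?_⟩
    show (exists_to (ρ z o)).choose * ta * (exists_to (ρ z o)).choose⁻¹ = d.1
    set u := (exists_to (ρ z o)).choose
    have hm : z⁻¹ * u ∈ K := mem_H_iff.2 (by
      rw [map_mul, Equiv.Perm.mul_apply, (exists_to (ρ z o)).choose_spec, ← Equiv.Perm.mul_apply,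
        ← map_mul, inv_mul_cancel, map_one, Equiv.Perm.one_apply])
    rw [hz]
    calc u * ta * u⁻¹ = z * ((z⁻¹ * u) * ta) * u⁻¹ := by group
      _ = z * (ta * (z⁻¹ * u)) * u⁻¹ := by rw [ta_comm hm]
      _ = z * ta * z⁻¹ := by group
  rw [← Nat.card_congr (Equiv.ofBijective f ⟨hinj, hsurj⟩), Nat.card_fin]
  rfl

theorem nonsplit_congr {A B C : Type*} [Group A] [Group B] [Group C] (e : A ≃* B)
    (h : Cfsg.IsNonsplitDoubleCover A C) : Cfsg.IsNonsplitDoubleCover B C := by
  obtain ⟨h1, ⟨f⟩, h3⟩ := h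
  have hc : (Subgroup.center A).map e.toMonoidHom = Subgroup.center B := by
    ext x
    rw [Subgroup.mem_map]
    constructor
    · rintro ⟨a, ha, rfl⟩
      rw [Subgroup.mem_center_iff]
      intro b
      obtain ⟨b, rfl⟩ := e.surjective b
      simp [← map_mul, Subgroup.mem_center_iff.1 ha b]
    · intro hx
      refine ⟨e.symm x, ?_, e.apply_symm_apply x⟩
      rw [Subgroup.mem_center_iff]
      intro a
      apply e.injective
      simp [Subgroup.mem_center_iff.1 hx (e a)]
  refine ⟨?_, ⟨(QuotientGroup.congr _ _ e hc).symm.trans f⟩, fun L hL => ?_⟩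
  · rw [← hc, Subgroup.card_map_of_injective e.injective, h1]
  · refine h3 (L.map e.symm.toMonoidHom) (Subgroup.isComplement'_of_disjoint_and_mul_eq_univ ?_ ?_)
    · rw [Subgroup.disjoint_def]
      rintro x hx ⟨y, hy, rfl⟩
      have hy1 : y ∈ Subgroup.center B := hc ▸ ⟨_, hx, e.apply_symm_apply y⟩
      simp [Subgroup.disjoint_def.1 hL.disjoint hy1 hy]
    · refine Set.eq_univ_of_forall fun a => ?_
      obtain ⟨⟨⟨c, hc1⟩, ⟨l, hl⟩⟩, he⟩ := hL.existsUnique (e a) |>.exists
      rw [← hc] at hc1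
      obtain ⟨c', hc', rfl⟩ := hc1
      exact ⟨c', hc', _, ⟨l, hl, rfl⟩, by apply e.injective; simpa using he⟩

theorem centralizer_double_cover {d : Fi} (hd : d ∈ conjugatesOf ta) :
    Cfsg.IsNonsplitDoubleCover (Subgroup.centralizer ({d} : Set Fi)) Cfsg.Spor.Fi22 := by
  obtain ⟨y, rfl⟩ := mem_conjugatesOf.1 hd
  have h : (K).map (MulAut.conj y).toMonoidHom =
      Subgroup.centralizer ({y * ta * y⁻¹} : Set Fi) := by
    rw [← centralizer_eq]
    ext z
    rw [Subgroup.mem_map_equiv, Subgroup.mem_centralizer_singleton_iff,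
      Subgroup.mem_centralizer_singleton_iff]
    simp only [MulAut.conj_symm_apply]
    constructor
    · intro e
      calc z * (y * ta * y⁻¹) = y * (y⁻¹ * z * y * ta) * y⁻¹ := by group
        _ = y * (ta * (y⁻¹ * z * y)) * y⁻¹ := by rw [e]
        _ = y * ta * y⁻¹ * z := by group
    · intro e
      calc y⁻¹ * z * y * ta = y⁻¹ * (z * (y * ta * y⁻¹)) * y := by group
        _ = y⁻¹ * (y * ta * y⁻¹ * z) * y := by rw [e]
        _ = ta * (y⁻¹ * z * y) := by group
  exact nonsplit_congr ((Subgroup.equivMapOfInjective (K) _ (MulEquiv.injective _)).trans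
    (MulEquiv.subgroupCongr h)) Fi23Cover.double_cover

end H29.CosetCert.Fi23Trans
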