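import Cfsg.Agent.H29.CosetCert.Fi23.AutChecks
import Cfsg.Agent.H29.CosetCert.Fi23.AutGrow
import Cfsg.Agent.H29.CosetCert.Fi23.AutCover
import Cfsg.Agent.H29.CosetCert.Fi23.AutRest
import Cfsg.Agent.H29.CosetCert.Fi23.SylTwo
import Cfsg.Agent.H29.CosetCert.Fi23.Transpositions
import Cfsg.Prelude.Def_KGroupFacts

/-!
# Every automorphism of the presented Fi23 is inner
-/

set_option autoImplicit false
set_option maxRecDepth 16000

namespace H29.CosetCert.Fi23Aut

open H29.CosetCert H29.CosetCert.Fi23Syl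

local notation "Fi" => Cfsg.Spor.Fi23
local notation "nn" => Fi23Cert.cert.n
local notation "TT" => Fi23Data.T
local notation "BS" => Fi23Words.base


theorem W_zw : W zw = Fi23Trans.ta := rfl

theorem base_zero : ((Fi23Trans.o : Fin nn) : ℕ) = 0 := rfl

theorem W_ne {v w : List ℕ} (h : sameAt TT BS v w = false) : W v ≠ W w := by
  intro e
  refine Bool.false_ne_true (h.symm.trans ?_)
  refine List.all_eq_true.2 fun c hc => ?_
  have h' : c < 31671 := by simpa using (List.all_eq_true.1 base_lt c hc :)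
  have hlt : c < nn := h'
  rw [beq_iff_eq, ← ap_W v hlt, ← ap_W w hlt, e]

theorem ap_lt (y : Fi) : ap y 0 < nn := by
  rw [ap, dif_pos (show 0 < nn from Fi23Cert.cert.n_pos)]
  exact Fin.is_lt _

theorem ap_inv_cancel (y : Fi) (c : ℕ) : ap y⁻¹ (ap y c) = c := by
  rw [← ap_mul, inv_mul_cancel, ap_one]

theorem fix_zero_iff {y : Fi} : ap y 0 = 0 ↔ y ∈ Fi23Cert.H := by
  rw [Fi23Trans.mem_H_iff, ap, dif_pos (show 0 < nn from Fi23Cert.cert.n_pos)]
  exact ⟨fun h => Fin.ext h, fun h => congrArg Fin.val h⟩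

theorem fix_iff {a y : Fi} : ap a (ap y 0) = ap y 0 ↔ Commute a (y * Fi23Trans.ta * y⁻¹) := by
  have h : ap a (ap y 0) = ap y 0 ↔ ap (y⁻¹ * a * y) 0 = 0 := by
    rw [ap_mul, ap_mul]
    constructor
    · intro h; rw [h, ap_inv_cancel]
    · intro h
      have := congrArg (ap y) h
      rwa [← ap_mul y, mul_inv_cancel, ap_one] at this
  rw [h, fix_zero_iff, ← Fi23Trans.centralizer_eq, Subgroup.mem_centralizer_singleton_iff]
  constructor
  · intro e
    show a * (y * Fi23Trans.ta * y⁻¹) = y * Fi23Trans.ta * y⁻¹ * a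
    calc a * (y * Fi23Trans.ta * y⁻¹) = y * (y⁻¹ * a * y * Fi23Trans.ta) * y⁻¹ := by group
      _ = y * (Fi23Trans.ta * (y⁻¹ * a * y)) * y⁻¹ := by rw [e]
      _ = y * Fi23Trans.ta * y⁻¹ * a := by group
  · intro e
    calc y⁻¹ * a * y * Fi23Trans.ta = y⁻¹ * (a * (y * Fi23Trans.ta * y⁻¹)) * y := by group
      _ = y⁻¹ * (y * Fi23Trans.ta * y⁻¹ * a) * y := by rw [e.eq]
      _ = Fi23Trans.ta * (y⁻¹ * a * y) := by group

theorem point_iff {y z : Fi} : ap y 0 = ap z 0 ↔ y * Fi23Trans.ta * y⁻¹ = z * Fi23Trans.ta * z⁻¹ := by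
  have h : ap y 0 = ap z 0 ↔ ap (z⁻¹ * y) 0 = 0 := by
    rw [ap_mul]
    constructor
    · intro h; rw [h, ap_inv_cancel]
    · intro h
      have := congrArg (ap z) h
      rwa [← ap_mul z, mul_inv_cancel, ap_one] at this
  rw [h, fix_zero_iff, ← Fi23Trans.centralizer_eq, Subgroup.mem_centralizer_singleton_iff]
  constructor
  · intro e
    calc y * Fi23Trans.ta * y⁻¹ = z * (z⁻¹ * y * Fi23Trans.ta) * y⁻¹ := by group
      _ = z * (Fi23Trans.ta * (z⁻¹ * y)) * y⁻¹ := by rw [e]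
      _ = z * Fi23Trans.ta * z⁻¹ := by group
  · intro e
    calc z⁻¹ * y * Fi23Trans.ta = z⁻¹ * (y * Fi23Trans.ta * y⁻¹) * y := by group
      _ = z⁻¹ * (z * Fi23Trans.ta * z⁻¹) * y := by rw [e]
      _ = Fi23Trans.ta * (z⁻¹ * y) := by group

/-- The element moving the base to the point of a generator. -/
noncomputable def U (i : ℕ) : Fi := W (us.getD i [])

theorem gen_spec {i : ℕ} (hi : i < 10) :
    U i * Fi23Trans.ta * (U i)⁻¹ = Fi23Cert.g i ∧ ap (U i) 0 = ps.getD i 0 ∧ ps.getD i 0 < nn := by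
  have h := allIn_at gen_ok hi
  simp only [Bool.and_eq_true, beq_iff_eq, Nat.blt_eq] at h
  refine ⟨?_, ?_, h.2⟩
  · rw [U, W_inv, ← W_zw, ← W_append, ← W_append, W_eq h.1.1]
    simp [W]
  · rw [U, ap_W _ (show 0 < nn from Fi23Cert.cert.n_pos), h.1.2]

theorem ap_g (i : ℕ) {c : ℕ} (hc : c < nn) : ap (Fi23Cert.g i) c = TT i c := by
  have h := ap_W [i] hc
  rw [runR_cons] at h
  simpa [W, runR] using h

/-- The automorphism fixes the listed generators. -/
def Fixes (φ : Fi ≃* Fi) (l : List ℕ) : Prop := ∀ i ∈ l, φ (Fi23Cert.g i) = Fi23Cert.g i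

/-- Differ by an inner automorphism. -/
def Near (φ ψ : Fi ≃* Fi) : Prop := ∃ c : Fi, ∀ t, φ t = c * ψ t * c⁻¹

theorem reach_sound {G : List (List ℕ)} {m : ℕ} (C : Subgroup Fi) (hG : ∀ u ∈ G, W u ∈ C) :
    ∀ (l : List ℕ) (seen : ℕ) (p : ℕ), growOK TT G m l seen = true →
      (∀ c, seen.testBit c = true → c < nn ∧ ∃ h ∈ C, ap h p = c) →
      ∀ c, m.testBit c = true → ∃ h ∈ C, ap h p = c := by
  intro l
  induction l with
  | nil =>
    intro seen p hg hseen c hc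
    simp only [growOK, beq_iff_eq] at hg
    exact (hseen c (hg ▸ hc)).2
  | cons e l ih =>
    intro seen p hg hseen
    simp only [growOK, Bool.and_eq_true, beq_iff_eq] at hg
    obtain ⟨⟨hbit, he⟩, hg⟩ := hg
    refine ih _ p hg fun c hc => ?_
    rw [Nat.testBit_lor, Bool.or_eq_true, Nat.testBit_two_pow, decide_eq_true_iff] at hc
    rcases hc with hc | hc
    · exact hseen c hc
    obtain ⟨hd, h, hh, hp⟩ := hseen _ hbit
    subst hc
    by_cases hi : fld e 2 < G.length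
    · rw [List.getD_eq_getElem _ _ hi] at he
      have e1 : ap (W (G[fld e 2])) (fld e 1) = fld e 0 := (ap_W _ hd).trans he
      refine ⟨?_, _, mul_mem (hG _ (List.getElem_mem hi)) hh, by rw [ap_mul, hp, e1]⟩
      rw [← e1, ap, dif_pos hd]
      exact Fin.is_lt _
    · rw [List.getD_eq_default _ _ (by omega)] at he
      simp only [runR] at he
      exact ⟨he ▸ hd, h, hh, hp.trans he⟩

theorem mem_of_fold : ∀ (l : List ℕ) (m : ℕ), l.foldr (fun c r => 2 ^ c ||| r) 0 = m →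
    ∀ q, m.testBit q = true → q ∈ l := by
  intro l
  induction l with
  | nil => intro m h q hq; subst h; simp at hq
  | cons a t ih =>
    intro m h q hq
    subst h
    rw [List.foldr_cons, Nat.testBit_lor, Bool.or_eq_true, Nat.testBit_two_pow,
      decide_eq_true_iff] at hq
    rcases hq with rfl | hq
    · exact List.mem_cons_self
    · exact List.mem_cons_of_mem _ (ih _ rfl q hq)

theorem far_point {y : Fi} (hy : ¬ Commute Fi23Trans.ta (y * Fi23Trans.ta * y⁻¹)) :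
    ∃ h ∈ Fi23Cert.H, y * Fi23Trans.ta * y⁻¹ =
      h * (W Fi23Trans.farW * Fi23Trans.ta * (W Fi23Trans.farW)⁻¹) * h⁻¹ := by
  rcases Fi23Trans.cover_cases (Fi23Cert.cert.ρ y Fi23Trans.o) with e | e | e
  · refine absurd ?_ hy
    rw [← Fi23Trans.ta_comm (Fi23Trans.mem_H_iff.2 e), mul_inv_cancel_right]
  · obtain ⟨h, hh, k, hk, e'⟩ := Fi23Trans.far_trans e
    refine ⟨h, hh, ?_⟩
    rw [e']
    calc h * W Fi23Trans.farW * k * Fi23Trans.ta * (h * W Fi23Trans.farW * k)⁻¹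
        = h * W Fi23Trans.farW * (k * Fi23Trans.ta) * k⁻¹ * (h * W Fi23Trans.farW)⁻¹ := by group
      _ = h * W Fi23Trans.farW * (Fi23Trans.ta * k) * k⁻¹ * (h * W Fi23Trans.farW)⁻¹ := by
        rw [Fi23Trans.ta_comm hk]
      _ = h * (W Fi23Trans.farW * Fi23Trans.ta * (W Fi23Trans.farW)⁻¹) * h⁻¹ := by group
  · obtain ⟨h, hh, k, hk, e'⟩ := Fi23Trans.near_trans e
    refine absurd ?_ hy
    have h2 := Fi23Trans.conj_pair hh hk e' 2
    have h3 := Fi23Trans.word_eq Fi23Trans.near_pow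
    simp only [List.map_append, List.prod_append, List.map_nil, List.prod_nil] at h3
    simp only [pow_two] at h2
    rw [h3] at h2
    set d := y * Fi23Trans.ta * y⁻¹ with hd
    have hdd : d * d = 1 := by
      rw [hd, show y * Fi23Trans.ta * y⁻¹ * (y * Fi23Trans.ta * y⁻¹) = y * (Fi23Trans.ta * Fi23Trans.ta) * y⁻¹ by group, Fi23Trans.ta_sq]
      group
    have h4 : Fi23Trans.ta * d * (Fi23Trans.ta * d) = 1 := by rw [h2]; group
    calc Fi23Trans.ta * d = (Fi23Trans.ta * d)⁻¹ := eq_inv_of_mul_eq_one_left h4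
      _ = d⁻¹ * Fi23Trans.ta⁻¹ := mul_inv_rev _ _
      _ = d * Fi23Trans.ta := by rw [inv_eq_of_mul_eq_one_right hdd, inv_eq_of_mul_eq_one_right Fi23Trans.ta_sq]

theorem step {φ : Fi ≃* Fi} (hD : ∀ y : Fi, ∃ z : Fi, φ (y * Fi23Trans.ta * y⁻¹) = z * Fi23Trans.ta * z⁻¹) {st : ASt}
    (hst : st ∈ steps) (hr : reach TT st = true) (hc : cover TT st = true)
    (hfix : Fixes φ (st.S.map Prod.fst)) :
    ∃ ψ, Near φ ψ ∧ Fixes ψ (st.S.map Prod.fst ++ [st.j]) := by
  have hok := List.all_eq_true.1 steps_ok st hst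
  simp only [Bool.and_eq_true, Nat.blt_eq, List.all_eq_true] at hok
  obtain ⟨hj, hS⟩ := hok
  obtain ⟨gj, pj, pjlt⟩ := gen_spec hj
  obtain ⟨z, hz⟩ := hD (U st.j)
  rw [gj] at hz
  have hq : ap z 0 < 31671 := ap_lt z
  have hmem : st.m.testBit (ap z 0) = true := by
    have hc' := hc
    simp only [cover, Bool.and_eq_true, beq_iff_eq, List.all_eq_true, Bool.or_eq_true] at hc'
    obtain ⟨hhead, hall⟩ := hc'
    have hpts : ∀ p ∈ st.S, ((TT p.1 (ap z 0) == ap z 0) == p.2) = true ∧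
        (!(ap z 0 == ps.getD p.1 0)) = true := by
     intro p hp
     obtain ⟨⟨⟨hi, hpat⟩, hne⟩, -⟩ := hS p hp
     obtain ⟨gi, pi, -⟩ := gen_spec hi
     have hφ : φ (Fi23Cert.g p.1) = Fi23Cert.g p.1 := hfix p.1 (List.mem_map.2 ⟨p, hp, rfl⟩)
     refine ⟨?_, ?_⟩
     · have key : TT p.1 (ap z 0) = ap z 0 ↔ TT p.1 (ps.getD st.j 0) = ps.getD st.j 0 := by
         rw [← ap_g _ (ap_lt z), ← ap_g _ pjlt, ← pj, fix_iff, fix_iff, gj, ← hz]
         constructor
         · intro h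
           have := h.map φ.symm
           rwa [φ.symm_apply_eq.2 hφ.symm, MulEquiv.symm_apply_apply] at this
         · intro h
           have := h.map φ
           rwa [hφ] at this
       rw [beq_iff_eq] at hpat ⊢
       rw [← hpat, Bool.eq_iff_iff, beq_iff_eq, beq_iff_eq]
       exact key
     · simp only [Bool.not_eq_true', beq_eq_false_iff_ne]
       intro e
       rw [← pi, point_iff, gi, ← hz, ← hφ] at e
       have e2 : Fi23Cert.g st.j = Fi23Cert.g p.1 := φ.injective e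
       rw [← gj, ← gi, ← point_iff, pj, pi] at e2
       have h1 := beq_iff_eq.1 (allIn_at ps_inj hj :)
       rw [e2, beq_iff_eq.1 (allIn_at ps_inj hi :)] at h1
       simp [h1] at hne
    have hp0 : (first, true) ∈ st.S := List.mem_of_head? hhead
    have hf : (TT first (ap z 0) == ap z 0) = true := beq_iff_eq.1 (hpts _ hp0).1
    have hbit := allIn_at fix_cover hq
    simp only [hf, Bool.not_true, Bool.false_or] at hbit
    refine (hall _ (mem_of_fold fixL fixM fix_mask _ hbit)).resolve_left ?_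
    simp only [Bool.not_eq_true', Bool.not_eq_false, List.all_eq_true, Bool.and_eq_true]
    exact fun p hp => ⟨(hpts p hp).1, by simpa using (hpts p hp).2⟩
  let C : Subgroup Fi := Subgroup.centralizer {t | ∃ p ∈ st.S, t = Fi23Cert.g p.1}
  have hG : ∀ u ∈ st.G, W u ∈ C := by
    intro u hu
    rw [Subgroup.mem_centralizer_iff]
    rintro t ⟨p, hp, rfl⟩
    obtain ⟨⟨⟨hi, -⟩, -⟩, hGfix⟩ := hS p hp
    obtain ⟨gi, pi, pilt⟩ := gen_spec hi
    have h : Commute (W u) (U p.1 * Fi23Trans.ta * (U p.1)⁻¹) :=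
      fix_iff.1 (by rw [pi, ap_W _ pilt, beq_iff_eq.1 (hGfix u hu)])
    rw [gi] at h
    exact h.eq.symm
  obtain ⟨h, hh, hp⟩ := reach_sound C hG st.grow _ (ps.getD st.j 0) hr (fun c hc' => by
    rw [Nat.testBit_two_pow, decide_eq_true_iff] at hc'
    exact ⟨hc' ▸ pjlt, 1, one_mem C, by rw [ap_one, hc']⟩) _ hmem
  refine ⟨φ.trans (MulAut.conj h⁻¹), ⟨h, fun t => ?_⟩, ?_⟩
  · show φ t = h * (h⁻¹ * φ t * h⁻¹⁻¹) * h⁻¹
    group
  · intro i hi
    show h⁻¹ * φ (Fi23Cert.g i) * h⁻¹⁻¹ = Fi23Cert.g i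
    rw [List.mem_append, List.mem_singleton] at hi
    rcases hi with hi | rfl
    · rw [hfix i hi]
      obtain ⟨p, hp', rfl⟩ := List.mem_map.1 hi
      have := Subgroup.mem_centralizer_iff.1 hh _ ⟨p, hp', rfl⟩
      rw [inv_inv, mul_assoc, this, inv_mul_cancel_left]
    · have e : z * Fi23Trans.ta * z⁻¹ = h * U st.j * Fi23Trans.ta * (h * U st.j)⁻¹ :=
        point_iff.1 (by rw [ap_mul, pj, hp])
      rw [hz, e, ← gj]
      group

theorem near_trans' {φ ψ χ : Fi ≃* Fi} (h : Near φ ψ) (h' : Near ψ χ) : Near φ χ := by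
  obtain ⟨a, ha⟩ := h
  obtain ⟨b, hb⟩ := h'
  exact ⟨a * b, fun t => by rw [ha, hb]; group⟩

theorem near_class {φ ψ : Fi ≃* Fi} (h : Near φ ψ)
    (hD : ∀ y : Fi, ∃ z : Fi, φ (y * Fi23Trans.ta * y⁻¹) = z * Fi23Trans.ta * z⁻¹) :
    ∀ y : Fi, ∃ z : Fi, ψ (y * Fi23Trans.ta * y⁻¹) = z * Fi23Trans.ta * z⁻¹ := by
  obtain ⟨a, ha⟩ := h
  intro y
  obtain ⟨z, hz⟩ := hD y
  refine ⟨a⁻¹ * z, ?_⟩
  rw [show ψ (y * Fi23Trans.ta * y⁻¹) = a⁻¹ * φ (y * Fi23Trans.ta * y⁻¹) * a by rw [ha]; group, hz]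
  group

theorem climb : ∀ (l : List ASt) (acc : List ℕ),
    (∀ st ∈ l, st ∈ steps ∧ reach TT st = true ∧ cover TT st = true) → follows l acc = true →
    ∀ φ : Fi ≃* Fi, (∀ y : Fi, ∃ z : Fi, φ (y * Fi23Trans.ta * y⁻¹) = z * Fi23Trans.ta * z⁻¹) → Fixes φ acc →
    ∃ c : Fi, φ = MulAut.conj c := by
  intro l
  induction l with
  | nil =>
    intro acc _ hf φ _ hfix
    refine ⟨1, ?_⟩
    have h : φ.toMonoidHom = MonoidHom.id Fi := by
      refine MonoidHom.eq_of_eqOn_dense Fi23Cert.cert.g_gen ?_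
      rintro _ ⟨x, rfl⟩
      by_cases hx : x < 10
      · exact hfix x (List.elem_iff.1 (allIn_at (show allIn _ 0 10 = true from hf) hx))
      · show φ (Fi23Cert.g x) = Fi23Cert.g x
        rw [show Fi23Cert.g x = 1 from Fi23Cert.cert.g_high x (by show 10 ≤ x; omega), map_one]
    ext t
    rw [map_one]
    exact DFunLike.congr_fun h t
  | cons st rest ih =>
    intro acc hl hf φ hD hfix
    simp only [follows, Bool.and_eq_true, beq_iff_eq] at hf
    obtain ⟨hS, hf⟩ := hf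
    obtain ⟨h1, h2, h3⟩ := hl st List.mem_cons_self
    subst hS
    obtain ⟨ψ, hn, hψ⟩ := step hD h1 h2 h3 hfix
    obtain ⟨b, hb⟩ := ih _ (fun s hs => hl s (List.mem_cons_of_mem _ hs)) hf ψ
      (near_class hn hD) hψ
    obtain ⟨a, ha⟩ := hn
    refine ⟨a * b, MulEquiv.ext fun t => ?_⟩
    rw [ha, hb, MulAut.conj_apply, MulAut.conj_apply]
    group

theorem central_class {z : Fi} (hz : z ∈ T0) (hcz : ∀ t ∈ T0, t * z = z * t) (h2 : z * z = 1)
    (h1 : z ≠ 1)
    (hpair : ∀ w : Fi, (z * (w * z * w⁻¹)) ^ 2 = 1 ∨ (z * (w * z * w⁻¹)) ^ 3 = 1) :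
    ∃ y : Fi, z = y * Fi23Trans.ta * y⁻¹ := by
  obtain ⟨v, hv, q, hq, rfl⟩ := mem_T0.1 hz
  have hq0 : q = 0 := by
    have h := allIn_at central_quot hq
    rw [Bool.or_eq_true, beq_iff_eq] at h
    refine h.resolve_right fun hbad => ?_
    have : allIn (fun k => Fi23Syl.act q (2 ^ k) == 2 ^ k) 0 11 = true := by
      rw [allIn_iff]
      intro k _ hk
      have hw : 2 ^ k < 2 ^ 11 := Nat.pow_lt_pow_right (by norm_num) (by omega)
      have hc := hcz (X (2 ^ k)) (X_mem hw)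
      rw [beq_iff_eq]
      refine X_inj (linA_lt _ _) hw ?_
      rw [← R_conj 7 le_rfl q hq _ hw]
      calc R q * X (2 ^ k) * (R q)⁻¹
          = (X v)⁻¹ * (X v * R q * X (2 ^ k)) * (R q)⁻¹ := by group
        _ = (X v)⁻¹ * (X (2 ^ k) * (X v * R q)) * (R q)⁻¹ := by rw [hc]
        _ = X v * X (2 ^ k) * X v := by rw [X_inv]; group
        _ = X (2 ^ k) := by
          rw [← X_xor, ← X_xor, Nat.xor_comm v, Nat.xor_assoc, Nat.xor_self, Nat.xor_zero]
    simp [this] at hbad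
  subst hq0
  rw [R_zero, mul_one] at hcz h1 hpair ⊢
  have hfix : allIn (fun j => Fi23Syl.act (2 ^ j) v == v) 0 7 = true := by
    rw [allIn_iff]
    intro j _ hj
    have hj' : j < 7 := by omega
    have hp : 2 ^ j < 2 ^ 7 := Nat.pow_lt_pow_right (by norm_num) hj'
    have hc := hcz (s j) (R_pow hj' ▸ R_mem 7 le_rfl 7 le_rfl _ hp)
    rw [beq_iff_eq]
    refine X_inj (linA_lt _ _) hv ?_
    rw [← s_conj hj' v hv, hc, mul_inv_cancel_right]
  have h := allIn_at central_mask hv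
  simp only [hfix, Bool.not_true, Bool.or_false, Bool.or_eq_true, beq_iff_eq, List.any_eq_true,
    Bool.and_eq_true, Bool.not_eq_true'] at h
  rcases h with (h | ⟨p, -, hp, hs⟩) | ⟨p, -, ⟨hp, hb2⟩, hb3⟩
  · exact absurd (by rw [h, X_zero]) h1
  · refine ⟨W p.2, ?_⟩
    rw [X, W_eq hs, W_append, W_append, W_zw, W_inv]
  · exfalso
    rcases hpair (W p.2) with hh | hh
    · refine W_ne hb2 ?_
      simp only [W_append, W_nil, ← W_inv]
      rw [pow_two] at hh
      exact hh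
    · refine W_ne hb3 ?_
      simp only [W_append, W_nil, ← W_inv]
      rw [pow_succ, pow_two] at hh
      exact hh

theorem class_fixed (φ : Fi ≃* Fi) : ∃ y : Fi, φ Fi23Trans.ta = y * Fi23Trans.ta * y⁻¹ := by
  haveI := finiteFi
  haveI : Fact (Nat.Prime 2) := ⟨Nat.prime_two⟩
  set d := φ Fi23Trans.ta with hd
  let C : Subgroup Fi := Fi23Cert.H.map φ.toMonoidHom
  have hC : ∀ t ∈ C, t * d = d * t := by
    rintro t ⟨k, hk, rfl⟩
    show φ k * φ Fi23Trans.ta = φ Fi23Trans.ta * φ k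
    rw [← map_mul, ← map_mul, Fi23Trans.ta_comm hk]
  have hcard : Nat.card C = 129123503308800 := by
    have h := Fi23Cert.H.card_mul_index
    rw [Fi23Cert.cert.index_eq, show Fi23Cert.cert.n = 31671 from rfl,
      Fi23Ord.injective_card.2] at h
    rw [Subgroup.card_map_of_injective φ.injective]
    exact Nat.eq_of_mul_eq_mul_right (show 0 < 31671 by norm_num) (h.trans (by norm_num))
  have hdC : d ∈ C := ⟨Fi23Trans.ta, Fi23Trans.ta_mem, rfl⟩
  have hd2 : d * d = 1 := by rw [hd, ← map_mul, Fi23Trans.ta_sq, map_one]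
  have hP : IsPGroup 2 (Subgroup.zpowers (⟨d, hdC⟩ : C)) := by
    rw [IsPGroup.iff_card]
    refine ⟨1, ?_⟩
    rw [Nat.card_zpowers]
    refine orderOf_eq_prime (Subtype.ext ?_) fun h => ?_
    · show d ^ 2 = 1
      rw [pow_two, hd2]
    · exact Fi23Trans.ta_ne_one (φ.injective (by rw [map_one]; exact congrArg Subtype.val h))
  obtain ⟨P, hle⟩ := hP.exists_le_sylow
  have hPc : Nat.card ((P : Subgroup C).map C.subtype) = 2 ^ 18 := by
    rw [Subgroup.card_map_of_injective C.subtype_injective, P.card_eq_multiplicity, hcard,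
      show (129123503308800 : ℕ) = 2 ^ 18 * 492567075 by norm_num,
      Nat.factorization_mul (by norm_num) (by norm_num), Finsupp.add_apply,
      Nat.Prime.factorization_pow Nat.prime_two, Nat.factorization_eq_zero_of_not_dvd (by norm_num)]
    simp
  let S1 := Sylow.ofCard (p := 2) ((P : Subgroup C).map C.subtype) (by rw [hPc, card_Fi_fact])
  let S0' := Sylow.ofCard (p := 2) T0 (by rw [card_T0, card_Fi_fact])
  obtain ⟨c, hc⟩ := MulAction.exists_smul_eq Fi S1 S0'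
  have hmem : ∀ t, t ∈ T0 ↔ c⁻¹ * t * c ∈ (P : Subgroup C).map C.subtype := by
    intro t
    have h := SetLike.ext_iff.1 (congrArg (fun S : Sylow 2 Fi => (S : Subgroup Fi)) hc) t
    rw [show (↑(c • S1) : Subgroup Fi) = ((P : Subgroup C).map C.subtype).map
      (MulAut.conj c).toMonoidHom from rfl, Subgroup.mem_map_equiv, MulAut.conj_symm_apply] at h
    exact h.symm
  have hzT : c * d * c⁻¹ ∈ T0 := by
    rw [hmem, show c⁻¹ * (c * d * c⁻¹) * c = d by group]
    exact ⟨⟨d, hdC⟩, hle (Subgroup.mem_zpowers _), rfl⟩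
  obtain ⟨y, hy⟩ := central_class hzT (fun t ht => by
      obtain ⟨k, -, hk⟩ := (hmem t).1 ht
      have h := hC _ k.2
      rw [show (k : Fi) = c⁻¹ * t * c from hk] at h
      calc t * (c * d * c⁻¹) = c * (c⁻¹ * t * c * d) * c⁻¹ := by group
        _ = c * (d * (c⁻¹ * t * c)) * c⁻¹ := by rw [h]
        _ = c * d * c⁻¹ * t := by group)
    (by rw [show c * d * c⁻¹ * (c * d * c⁻¹) = c * (d * d) * c⁻¹ by group, hd2]; group)
    (fun h => Fi23Trans.ta_ne_one (φ.injective (by rw [map_one]; exact conj_eq_one_iff.1 h)))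
    (fun w => by
      set u := φ.symm (c⁻¹ * w * c) with hu
      have e : ∀ n : ℕ, (c * d * c⁻¹ * (w * (c * d * c⁻¹) * w⁻¹)) ^ n =
          c * φ ((Fi23Trans.ta * (u * Fi23Trans.ta * u⁻¹)) ^ n) * c⁻¹ := fun n => by
        rw [map_pow, map_mul, map_mul, map_mul, map_inv, hu, MulEquiv.apply_symm_apply, ← hd,
          ← conj_pow]
        congr 1
        group
      rcases Fi23Trans.transposition_pair u with h | h
      · exact Or.inl (by rw [e, h, map_one]; group)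
      · exact Or.inr (by rw [e, h, map_one]; group))
  exact ⟨c⁻¹ * y, by rw [show d = c⁻¹ * (c * d * c⁻¹) * c by group, hy]; group⟩

theorem inner (φ : Fi ≃* Fi) : ∃ c : Fi, φ = MulAut.conj c := by
  obtain ⟨y, hy⟩ := class_fixed φ
  have hD : ∀ t : Fi, ∃ z : Fi, φ (t * Fi23Trans.ta * t⁻¹) = z * Fi23Trans.ta * z⁻¹ := fun t =>
    ⟨φ t * y, by rw [map_mul, map_mul, map_inv, hy]; group⟩
  have hfirst : first < 10 := by decide +kernel
  obtain ⟨gf, -, -⟩ := gen_spec hfirst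
  obtain ⟨z, hz⟩ := hD (U first)
  rw [gf] at hz
  obtain ⟨w, hw⟩ := hD (U second)
  have hso := second_ok
  simp only [Bool.and_eq_true, Nat.blt_eq, Bool.not_eq_true', beq_eq_false_iff_ne] at hso
  obtain ⟨⟨-, hsec⟩, hmove⟩ := hso
  obtain ⟨gs, ps', pslt⟩ := gen_spec hsec
  rw [gs] at hw
  set v := U first with hv
  have hnc : ¬ Commute (Fi23Cert.g first) (Fi23Cert.g second) := by
    intro e
    apply hmove
    rw [← ap_g _ pslt, ← ps', fix_iff, gs]
    exact e
  have n1 : ¬ Commute Fi23Trans.ta (v⁻¹ * U second * Fi23Trans.ta * (v⁻¹ * U second)⁻¹) := by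
    intro e
    apply hnc
    have := e.map (MulAut.conj v).toMonoidHom
    simp only [MulEquiv.coe_toMonoidHom, MulAut.conj_apply] at this
    rwa [gf, show v * (v⁻¹ * U second * Fi23Trans.ta * (v⁻¹ * U second)⁻¹) * v⁻¹ =
      U second * Fi23Trans.ta * (U second)⁻¹ by group, gs] at this
  have n2 : ¬ Commute Fi23Trans.ta (z⁻¹ * w * Fi23Trans.ta * (z⁻¹ * w)⁻¹) := by
    intro e
    apply hnc
    have := (e.map (MulAut.conj z).toMonoidHom).map φ.symm
    simp only [MulEquiv.coe_toMonoidHom, MulAut.conj_apply] at this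
    rwa [← hz, show z * (z⁻¹ * w * Fi23Trans.ta * (z⁻¹ * w)⁻¹) * z⁻¹ = w * Fi23Trans.ta * w⁻¹ by group, ← hw,
      MulEquiv.symm_apply_apply, MulEquiv.symm_apply_apply] at this
  obtain ⟨h1, hh1, e1⟩ := far_point n1
  obtain ⟨h2, hh2, e2⟩ := far_point n2
  set f := W Fi23Trans.farW * Fi23Trans.ta * (W Fi23Trans.farW)⁻¹
  set a := z * h2 * h1⁻¹ * v⁻¹ with ha
  have hn : Near φ (φ.trans (MulAut.conj a⁻¹)) := ⟨a, fun t => by
    show φ t = a * (a⁻¹ * φ t * a⁻¹⁻¹) * a⁻¹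
    group⟩
  obtain ⟨b, hb⟩ := climb steps [first, second] (fun st hst => ⟨hst, by
      simp only [steps, List.mem_cons, List.not_mem_nil, or_false] at hst
      rcases hst with rfl | rfl | rfl | rfl | rfl | rfl | rfl | rfl
      exacts [⟨reach2, cover2⟩, ⟨reach3, cover3⟩, ⟨reach4, cover4⟩, ⟨reach5, cover5⟩,
        ⟨reach6, cover6⟩, ⟨reach7, cover7⟩, ⟨reach8, cover8⟩, ⟨reach9, cover9⟩]⟩)
    follows_ok _ (near_class hn hD) (fun i hi => by
      show a⁻¹ * φ (Fi23Cert.g i) * a⁻¹⁻¹ = Fi23Cert.g i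
      simp only [List.mem_cons, List.not_mem_nil, or_false] at hi
      rcases hi with rfl | rfl
      · rw [hz, ← gf]
        have hcm : ∀ k ∈ Fi23Cert.H, k * Fi23Trans.ta * k⁻¹ = Fi23Trans.ta := fun k hk => by
          rw [← Fi23Trans.ta_comm hk, mul_inv_cancel_right]
        calc a⁻¹ * (z * Fi23Trans.ta * z⁻¹) * a⁻¹⁻¹
            = v * (h1 * (h2⁻¹ * Fi23Trans.ta * h2⁻¹⁻¹) * h1⁻¹) * v⁻¹ := by rw [ha]; group
          _ = v * Fi23Trans.ta * v⁻¹ := by rw [hcm _ (inv_mem hh2), hcm _ hh1]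
      · rw [hw, ← gs]
        calc a⁻¹ * (w * Fi23Trans.ta * w⁻¹) * a⁻¹⁻¹
            = v * h1 * h2⁻¹ * (z⁻¹ * w * Fi23Trans.ta * (z⁻¹ * w)⁻¹) * (v * h1 * h2⁻¹)⁻¹ := by rw [ha]; group
          _ = v * (h1 * f * h1⁻¹) * v⁻¹ := by rw [e2]; group
          _ = U second * Fi23Trans.ta * (U second)⁻¹ := by rw [← e1]; group)
  obtain ⟨a', ha'⟩ := hn
  refine ⟨a' * b, MulEquiv.ext fun t => ?_⟩
  rw [ha', hb, MulAut.conj_apply, MulAut.conj_apply]
  group

theorem card_out : Nat.card (Cfsg.Out Fi) = 1 := by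
  rw [Nat.card_eq_one_iff_unique]
  refine ⟨⟨fun a b => ?_⟩, ⟨1⟩⟩
  have h : ∀ x : Cfsg.Out Fi, x = 1 := fun x => by
    obtain ⟨φ, rfl⟩ := QuotientGroup.mk_surjective x
    obtain ⟨c, hc⟩ := inner φ
    exact (QuotientGroup.eq_one_iff φ).2 ⟨c, hc.symm⟩
  rw [h a, h b]

end H29.CosetCert.Fi23Aut
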