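import Cfsg.Agent.H29.CosetCert.Fi23.Closed0
import Cfsg.Agent.H29.CosetCert.Fi23.Closed1
import Cfsg.Agent.H29.CosetCert.Fi23.Closed2
import Cfsg.Agent.H29.CosetCert.Fi23.Closed3
import Cfsg.Agent.H29.CosetCert.Fi23.Closed4
import Cfsg.Agent.H29.CosetCert.Fi23.Closed5
import Cfsg.Agent.H29.CosetCert.Fi23.Closed6
import Cfsg.Agent.H29.CosetCert.Fi23.Closed7
import Cfsg.Agent.H29.CosetCert.Fi23.Closed8
import Cfsg.Agent.H29.CosetCert.Fi23.Closed9
import Cfsg.Agent.H29.CosetCert.Fi23.Closed10
import Cfsg.Agent.H29.CosetCert.Fi23.Closed11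
import Cfsg.Agent.H29.CosetCert.Fi23.Closed12
import Cfsg.Agent.H29.CosetCert.Fi23.Closed13
import Cfsg.Agent.H29.CosetCert.Fi23.Closed14
import Cfsg.Agent.H29.CosetCert.Fi23.Closed15
import Cfsg.Agent.H29.CosetCert.Fi23.Closed16
import Cfsg.Agent.H29.CosetCert.Fi23.Closed17

/-! Certificate data for Fi23, produced by a coset enumeration outside Lean and checked here. -/

set_option autoImplicit false
set_option maxRecDepth 16000
set_option Elab.async false

namespace H29.CosetCert.Fi23Data

open H29.CosetCert

theorem closed : allIn (fun c => allIn (fun x => Nat.blt (edge x c / 2) N &&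
    let' (F (edge x c / 2)) == x && oStart F (edge x c) == nodeOf c &&
    oEnd F (edge x c) == nodeOf (T x c)) 0 10) 0 31671 = true := by
  rw [allIn_iff]
  intro c _ hc
  by_cases h0 : c < 300
  · exact ((allIn_iff _ _ _).1 closed0_ok c (by omega) (by omega))
  by_cases h1 : c < 600
  · exact ((allIn_iff _ _ _).1 closed1_ok c (by omega) (by omega))
  by_cases h2 : c < 900
  · exact ((allIn_iff _ _ _).1 closed2_ok c (by omega) (by omega))
  by_cases h3 : c < 1200
  · exact ((allIn_iff _ _ _).1 closed3_ok c (by omega) (by omega))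
  by_cases h4 : c < 1500
  · exact ((allIn_iff _ _ _).1 closed4_ok c (by omega) (by omega))
  by_cases h5 : c < 1800
  · exact ((allIn_iff _ _ _).1 closed5_ok c (by omega) (by omega))
  by_cases h6 : c < 2100
  · exact ((allIn_iff _ _ _).1 closed6_ok c (by omega) (by omega))
  by_cases h7 : c < 2400
  · exact ((allIn_iff _ _ _).1 closed7_ok c (by omega) (by omega))
  by_cases h8 : c < 2700
  · exact ((allIn_iff _ _ _).1 closed8_ok c (by omega) (by omega))
  by_cases h9 : c < 3000
  · exact ((allIn_iff _ _ _).1 closed9_ok c (by omega) (by omega))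
  by_cases h10 : c < 3300
  · exact ((allIn_iff _ _ _).1 closed10_ok c (by omega) (by omega))
  by_cases h11 : c < 3600
  · exact ((allIn_iff _ _ _).1 closed11_ok c (by omega) (by omega))
  by_cases h12 : c < 3900
  · exact ((allIn_iff _ _ _).1 closed12_ok c (by omega) (by omega))
  by_cases h13 : c < 4200
  · exact ((allIn_iff _ _ _).1 closed13_ok c (by omega) (by omega))
  by_cases h14 : c < 4500
  · exact ((allIn_iff _ _ _).1 closed14_ok c (by omega) (by omega))
  by_cases h15 : c < 4800
  · exact ((allIn_iff _ _ _).1 closed15_ok c (by omega) (by omega))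
  by_cases h16 : c < 5100
  · exact ((allIn_iff _ _ _).1 closed16_ok c (by omega) (by omega))
  by_cases h17 : c < 5400
  · exact ((allIn_iff _ _ _).1 closed17_ok c (by omega) (by omega))
  by_cases h18 : c < 5700
  · exact ((allIn_iff _ _ _).1 closed18_ok c (by omega) (by omega))
  by_cases h19 : c < 6000
  · exact ((allIn_iff _ _ _).1 closed19_ok c (by omega) (by omega))
  by_cases h20 : c < 6300
  · exact ((allIn_iff _ _ _).1 closed20_ok c (by omega) (by omega))
  by_cases h21 : c < 6600
  · exact ((allIn_iff _ _ _).1 closed21_ok c (by omega) (by omega))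
  by_cases h22 : c < 6900
  · exact ((allIn_iff _ _ _).1 closed22_ok c (by omega) (by omega))
  by_cases h23 : c < 7200
  · exact ((allIn_iff _ _ _).1 closed23_ok c (by omega) (by omega))
  by_cases h24 : c < 7500
  · exact ((allIn_iff _ _ _).1 closed24_ok c (by omega) (by omega))
  by_cases h25 : c < 7800
  · exact ((allIn_iff _ _ _).1 closed25_ok c (by omega) (by omega))
  by_cases h26 : c < 8100
  · exact ((allIn_iff _ _ _).1 closed26_ok c (by omega) (by omega))
  by_cases h27 : c < 8400
  · exact ((allIn_iff _ _ _).1 closed27_ok c (by omega) (by omega))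
  by_cases h28 : c < 8700
  · exact ((allIn_iff _ _ _).1 closed28_ok c (by omega) (by omega))
  by_cases h29 : c < 9000
  · exact ((allIn_iff _ _ _).1 closed29_ok c (by omega) (by omega))
  by_cases h30 : c < 9300
  · exact ((allIn_iff _ _ _).1 closed30_ok c (by omega) (by omega))
  by_cases h31 : c < 9600
  · exact ((allIn_iff _ _ _).1 closed31_ok c (by omega) (by omega))
  by_cases h32 : c < 9900
  · exact ((allIn_iff _ _ _).1 closed32_ok c (by omega) (by omega))
  by_cases h33 : c < 10200
  · exact ((allIn_iff _ _ _).1 closed33_ok c (by omega) (by omega))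
  by_cases h34 : c < 10500
  · exact ((allIn_iff _ _ _).1 closed34_ok c (by omega) (by omega))
  by_cases h35 : c < 10800
  · exact ((allIn_iff _ _ _).1 closed35_ok c (by omega) (by omega))
  by_cases h36 : c < 11100
  · exact ((allIn_iff _ _ _).1 closed36_ok c (by omega) (by omega))
  by_cases h37 : c < 11400
  · exact ((allIn_iff _ _ _).1 closed37_ok c (by omega) (by omega))
  by_cases h38 : c < 11700
  · exact ((allIn_iff _ _ _).1 closed38_ok c (by omega) (by omega))
  by_cases h39 : c < 12000
  · exact ((allIn_iff _ _ _).1 closed39_ok c (by omega) (by omega))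
  by_cases h40 : c < 12300
  · exact ((allIn_iff _ _ _).1 closed40_ok c (by omega) (by omega))
  by_cases h41 : c < 12600
  · exact ((allIn_iff _ _ _).1 closed41_ok c (by omega) (by omega))
  by_cases h42 : c < 12900
  · exact ((allIn_iff _ _ _).1 closed42_ok c (by omega) (by omega))
  by_cases h43 : c < 13200
  · exact ((allIn_iff _ _ _).1 closed43_ok c (by omega) (by omega))
  by_cases h44 : c < 13500
  · exact ((allIn_iff _ _ _).1 closed44_ok c (by omega) (by omega))
  by_cases h45 : c < 13800
  · exact ((allIn_iff _ _ _).1 closed45_ok c (by omega) (by omega))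
  by_cases h46 : c < 14100
  · exact ((allIn_iff _ _ _).1 closed46_ok c (by omega) (by omega))
  by_cases h47 : c < 14400
  · exact ((allIn_iff _ _ _).1 closed47_ok c (by omega) (by omega))
  by_cases h48 : c < 14700
  · exact ((allIn_iff _ _ _).1 closed48_ok c (by omega) (by omega))
  by_cases h49 : c < 15000
  · exact ((allIn_iff _ _ _).1 closed49_ok c (by omega) (by omega))
  by_cases h50 : c < 15300
  · exact ((allIn_iff _ _ _).1 closed50_ok c (by omega) (by omega))
  by_cases h51 : c < 15600
  · exact ((allIn_iff _ _ _).1 closed51_ok c (by omega) (by omega))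
  by_cases h52 : c < 15900
  · exact ((allIn_iff _ _ _).1 closed52_ok c (by omega) (by omega))
  by_cases h53 : c < 16200
  · exact ((allIn_iff _ _ _).1 closed53_ok c (by omega) (by omega))
  by_cases h54 : c < 16500
  · exact ((allIn_iff _ _ _).1 closed54_ok c (by omega) (by omega))
  by_cases h55 : c < 16800
  · exact ((allIn_iff _ _ _).1 closed55_ok c (by omega) (by omega))
  by_cases h56 : c < 17100
  · exact ((allIn_iff _ _ _).1 closed56_ok c (by omega) (by omega))
  by_cases h57 : c < 17400
  · exact ((allIn_iff _ _ _).1 closed57_ok c (by omega) (by omega))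
  by_cases h58 : c < 17700
  · exact ((allIn_iff _ _ _).1 closed58_ok c (by omega) (by omega))
  by_cases h59 : c < 18000
  · exact ((allIn_iff _ _ _).1 closed59_ok c (by omega) (by omega))
  by_cases h60 : c < 18300
  · exact ((allIn_iff _ _ _).1 closed60_ok c (by omega) (by omega))
  by_cases h61 : c < 18600
  · exact ((allIn_iff _ _ _).1 closed61_ok c (by omega) (by omega))
  by_cases h62 : c < 18900
  · exact ((allIn_iff _ _ _).1 closed62_ok c (by omega) (by omega))
  by_cases h63 : c < 19200
  · exact ((allIn_iff _ _ _).1 closed63_ok c (by omega) (by omega))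
  by_cases h64 : c < 19500
  · exact ((allIn_iff _ _ _).1 closed64_ok c (by omega) (by omega))
  by_cases h65 : c < 19800
  · exact ((allIn_iff _ _ _).1 closed65_ok c (by omega) (by omega))
  by_cases h66 : c < 20100
  · exact ((allIn_iff _ _ _).1 closed66_ok c (by omega) (by omega))
  by_cases h67 : c < 20400
  · exact ((allIn_iff _ _ _).1 closed67_ok c (by omega) (by omega))
  by_cases h68 : c < 20700
  · exact ((allIn_iff _ _ _).1 closed68_ok c (by omega) (by omega))
  by_cases h69 : c < 21000
  · exact ((allIn_iff _ _ _).1 closed69_ok c (by omega) (by omega))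
  by_cases h70 : c < 21300
  · exact ((allIn_iff _ _ _).1 closed70_ok c (by omega) (by omega))
  by_cases h71 : c < 21600
  · exact ((allIn_iff _ _ _).1 closed71_ok c (by omega) (by omega))
  by_cases h72 : c < 21900
  · exact ((allIn_iff _ _ _).1 closed72_ok c (by omega) (by omega))
  by_cases h73 : c < 22200
  · exact ((allIn_iff _ _ _).1 closed73_ok c (by omega) (by omega))
  by_cases h74 : c < 22500
  · exact ((allIn_iff _ _ _).1 closed74_ok c (by omega) (by omega))
  by_cases h75 : c < 22800
  · exact ((allIn_iff _ _ _).1 closed75_ok c (by omega) (by omega))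
  by_cases h76 : c < 23100
  · exact ((allIn_iff _ _ _).1 closed76_ok c (by omega) (by omega))
  by_cases h77 : c < 23400
  · exact ((allIn_iff _ _ _).1 closed77_ok c (by omega) (by omega))
  by_cases h78 : c < 23700
  · exact ((allIn_iff _ _ _).1 closed78_ok c (by omega) (by omega))
  by_cases h79 : c < 24000
  · exact ((allIn_iff _ _ _).1 closed79_ok c (by omega) (by omega))
  by_cases h80 : c < 24300
  · exact ((allIn_iff _ _ _).1 closed80_ok c (by omega) (by omega))
  by_cases h81 : c < 24600
  · exact ((allIn_iff _ _ _).1 closed81_ok c (by omega) (by omega))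
  by_cases h82 : c < 24900
  · exact ((allIn_iff _ _ _).1 closed82_ok c (by omega) (by omega))
  by_cases h83 : c < 25200
  · exact ((allIn_iff _ _ _).1 closed83_ok c (by omega) (by omega))
  by_cases h84 : c < 25500
  · exact ((allIn_iff _ _ _).1 closed84_ok c (by omega) (by omega))
  by_cases h85 : c < 25800
  · exact ((allIn_iff _ _ _).1 closed85_ok c (by omega) (by omega))
  by_cases h86 : c < 26100
  · exact ((allIn_iff _ _ _).1 closed86_ok c (by omega) (by omega))
  by_cases h87 : c < 26400
  · exact ((allIn_iff _ _ _).1 closed87_ok c (by omega) (by omega))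
  by_cases h88 : c < 26700
  · exact ((allIn_iff _ _ _).1 closed88_ok c (by omega) (by omega))
  by_cases h89 : c < 27000
  · exact ((allIn_iff _ _ _).1 closed89_ok c (by omega) (by omega))
  by_cases h90 : c < 27300
  · exact ((allIn_iff _ _ _).1 closed90_ok c (by omega) (by omega))
  by_cases h91 : c < 27600
  · exact ((allIn_iff _ _ _).1 closed91_ok c (by omega) (by omega))
  by_cases h92 : c < 27900
  · exact ((allIn_iff _ _ _).1 closed92_ok c (by omega) (by omega))
  by_cases h93 : c < 28200
  · exact ((allIn_iff _ _ _).1 closed93_ok c (by omega) (by omega))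
  by_cases h94 : c < 28500
  · exact ((allIn_iff _ _ _).1 closed94_ok c (by omega) (by omega))
  by_cases h95 : c < 28800
  · exact ((allIn_iff _ _ _).1 closed95_ok c (by omega) (by omega))
  by_cases h96 : c < 29100
  · exact ((allIn_iff _ _ _).1 closed96_ok c (by omega) (by omega))
  by_cases h97 : c < 29400
  · exact ((allIn_iff _ _ _).1 closed97_ok c (by omega) (by omega))
  by_cases h98 : c < 29700
  · exact ((allIn_iff _ _ _).1 closed98_ok c (by omega) (by omega))
  by_cases h99 : c < 30000
  · exact ((allIn_iff _ _ _).1 closed99_ok c (by omega) (by omega))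
  by_cases h100 : c < 30300
  · exact ((allIn_iff _ _ _).1 closed100_ok c (by omega) (by omega))
  by_cases h101 : c < 30600
  · exact ((allIn_iff _ _ _).1 closed101_ok c (by omega) (by omega))
  by_cases h102 : c < 30900
  · exact ((allIn_iff _ _ _).1 closed102_ok c (by omega) (by omega))
  by_cases h103 : c < 31200
  · exact ((allIn_iff _ _ _).1 closed103_ok c (by omega) (by omega))
  by_cases h104 : c < 31500
  · exact ((allIn_iff _ _ _).1 closed104_ok c (by omega) (by omega))
  by_cases h105 : c < 31671
  · exact ((allIn_iff _ _ _).1 closed105_ok c (by omega) (by omega))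
  omega

end H29.CosetCert.Fi23Data
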