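import Cfsg.Agent.H29.CosetCert.Fi23.Steps0
import Cfsg.Agent.H29.CosetCert.Fi23.Steps1
import Cfsg.Agent.H29.CosetCert.Fi23.Steps2
import Cfsg.Agent.H29.CosetCert.Fi23.Steps3
import Cfsg.Agent.H29.CosetCert.Fi23.Steps4
import Cfsg.Agent.H29.CosetCert.Fi23.Steps5
import Cfsg.Agent.H29.CosetCert.Fi23.Steps6
import Cfsg.Agent.H29.CosetCert.Fi23.Steps7
import Cfsg.Agent.H29.CosetCert.Fi23.Steps8
import Cfsg.Agent.H29.CosetCert.Fi23.Steps9
import Cfsg.Agent.H29.CosetCert.Fi23.Steps10
import Cfsg.Agent.H29.CosetCert.Fi23.Steps11
import Cfsg.Agent.H29.CosetCert.Fi23.Steps12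
import Cfsg.Agent.H29.CosetCert.Fi23.Steps13
import Cfsg.Agent.H29.CosetCert.Fi23.Steps14
import Cfsg.Agent.H29.CosetCert.Fi23.Steps15
import Cfsg.Agent.H29.CosetCert.Fi23.Steps16
import Cfsg.Agent.H29.CosetCert.Fi23.Steps17
import Cfsg.Agent.H29.CosetCert.Fi23.Steps18
import Cfsg.Agent.H29.CosetCert.Fi23.Steps19
import Cfsg.Agent.H29.CosetCert.Fi23.Steps20
import Cfsg.Agent.H29.CosetCert.Fi23.Steps21
import Cfsg.Agent.H29.CosetCert.Fi23.Steps22
import Cfsg.Agent.H29.CosetCert.Fi23.Steps23
import Cfsg.Agent.H29.CosetCert.Fi23.Steps24
import Cfsg.Agent.H29.CosetCert.Fi23.Steps25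
import Cfsg.Agent.H29.CosetCert.Fi23.Steps26
import Cfsg.Agent.H29.CosetCert.Fi23.Steps27
import Cfsg.Agent.H29.CosetCert.Fi23.Steps28
import Cfsg.Agent.H29.CosetCert.Fi23.Steps29
import Cfsg.Agent.H29.CosetCert.Fi23.Steps30
import Cfsg.Agent.H29.CosetCert.Fi23.Steps31
import Cfsg.Agent.H29.CosetCert.Fi23.Steps32
import Cfsg.Agent.H29.CosetCert.Fi23.Steps33
import Cfsg.Agent.H29.CosetCert.Fi23.Steps34
import Cfsg.Agent.H29.CosetCert.Fi23.Steps35
import Cfsg.Agent.H29.CosetCert.Fi23.Steps36
import Cfsg.Agent.H29.CosetCert.Fi23.Steps37
import Cfsg.Agent.H29.CosetCert.Fi23.Steps38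
import Cfsg.Agent.H29.CosetCert.Fi23.Steps39
import Cfsg.Agent.H29.CosetCert.Fi23.Steps40
import Cfsg.Agent.H29.CosetCert.Fi23.Steps41
import Cfsg.Agent.H29.CosetCert.Fi23.Steps42
import Cfsg.Agent.H29.CosetCert.Fi23.Steps43
import Cfsg.Agent.H29.CosetCert.Fi23.Steps44
import Cfsg.Agent.H29.CosetCert.Fi23.Steps45
import Cfsg.Agent.H29.CosetCert.Fi23.Steps46
import Cfsg.Agent.H29.CosetCert.Fi23.Steps47
import Cfsg.Agent.H29.CosetCert.Fi23.Steps48
import Cfsg.Agent.H29.CosetCert.Fi23.Steps49
import Cfsg.Agent.H29.CosetCert.Fi23.Steps50
import Cfsg.Agent.H29.CosetCert.Sound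

/-! Certificate data for Fi23, produced by a coset enumeration outside Lean and checked here. -/

set_option autoImplicit false
set_option maxRecDepth 16000
set_option Elab.async false

namespace H29.CosetCert.Fi23Data

open H29.CosetCert

theorem deds : ∀ k, nd ≤ k → k < N → ∃ s, chkDed F R S k s = true := by
  intro k h1 h2
  unfold nd at h1
  unfold N at h2
  by_cases c0 : k < 56342
  · exact chkList_get F R S st0 56086 st0_ok.1 k (by omega) (by rw [st0_ok.2]; omega)
  by_cases c1 : k < 56598
  · exact chkList_get F R S st1 56342 st1_ok.1 k (by omega) (by rw [st1_ok.2]; omega)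
  by_cases c2 : k < 56854
  · exact chkList_get F R S st2 56598 st2_ok.1 k (by omega) (by rw [st2_ok.2]; omega)
  by_cases c3 : k < 57110
  · exact chkList_get F R S st3 56854 st3_ok.1 k (by omega) (by rw [st3_ok.2]; omega)
  by_cases c4 : k < 57366
  · exact chkList_get F R S st4 57110 st4_ok.1 k (by omega) (by rw [st4_ok.2]; omega)
  by_cases c5 : k < 57622
  · exact chkList_get F R S st5 57366 st5_ok.1 k (by omega) (by rw [st5_ok.2]; omega)
  by_cases c6 : k < 57878
  · exact chkList_get F R S st6 57622 st6_ok.1 k (by omega) (by rw [st6_ok.2]; omega)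
  by_cases c7 : k < 58134
  · exact chkList_get F R S st7 57878 st7_ok.1 k (by omega) (by rw [st7_ok.2]; omega)
  by_cases c8 : k < 58390
  · exact chkList_get F R S st8 58134 st8_ok.1 k (by omega) (by rw [st8_ok.2]; omega)
  by_cases c9 : k < 58646
  · exact chkList_get F R S st9 58390 st9_ok.1 k (by omega) (by rw [st9_ok.2]; omega)
  by_cases c10 : k < 58902
  · exact chkList_get F R S st10 58646 st10_ok.1 k (by omega) (by rw [st10_ok.2]; omega)
  by_cases c11 : k < 59158
  · exact chkList_get F R S st11 58902 st11_ok.1 k (by omega) (by rw [st11_ok.2]; omega)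
  by_cases c12 : k < 59414
  · exact chkList_get F R S st12 59158 st12_ok.1 k (by omega) (by rw [st12_ok.2]; omega)
  by_cases c13 : k < 59670
  · exact chkList_get F R S st13 59414 st13_ok.1 k (by omega) (by rw [st13_ok.2]; omega)
  by_cases c14 : k < 59926
  · exact chkList_get F R S st14 59670 st14_ok.1 k (by omega) (by rw [st14_ok.2]; omega)
  by_cases c15 : k < 60182
  · exact chkList_get F R S st15 59926 st15_ok.1 k (by omega) (by rw [st15_ok.2]; omega)
  by_cases c16 : k < 60438
  · exact chkList_get F R S st16 60182 st16_ok.1 k (by omega) (by rw [st16_ok.2]; omega)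
  by_cases c17 : k < 60694
  · exact chkList_get F R S st17 60438 st17_ok.1 k (by omega) (by rw [st17_ok.2]; omega)
  by_cases c18 : k < 60950
  · exact chkList_get F R S st18 60694 st18_ok.1 k (by omega) (by rw [st18_ok.2]; omega)
  by_cases c19 : k < 61206
  · exact chkList_get F R S st19 60950 st19_ok.1 k (by omega) (by rw [st19_ok.2]; omega)
  by_cases c20 : k < 61462
  · exact chkList_get F R S st20 61206 st20_ok.1 k (by omega) (by rw [st20_ok.2]; omega)
  by_cases c21 : k < 61718
  · exact chkList_get F R S st21 61462 st21_ok.1 k (by omega) (by rw [st21_ok.2]; omega)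
  by_cases c22 : k < 61974
  · exact chkList_get F R S st22 61718 st22_ok.1 k (by omega) (by rw [st22_ok.2]; omega)
  by_cases c23 : k < 62230
  · exact chkList_get F R S st23 61974 st23_ok.1 k (by omega) (by rw [st23_ok.2]; omega)
  by_cases c24 : k < 62486
  · exact chkList_get F R S st24 62230 st24_ok.1 k (by omega) (by rw [st24_ok.2]; omega)
  by_cases c25 : k < 62742
  · exact chkList_get F R S st25 62486 st25_ok.1 k (by omega) (by rw [st25_ok.2]; omega)
  by_cases c26 : k < 62998
  · exact chkList_get F R S st26 62742 st26_ok.1 k (by omega) (by rw [st26_ok.2]; omega)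
  by_cases c27 : k < 63254
  · exact chkList_get F R S st27 62998 st27_ok.1 k (by omega) (by rw [st27_ok.2]; omega)
  by_cases c28 : k < 63510
  · exact chkList_get F R S st28 63254 st28_ok.1 k (by omega) (by rw [st28_ok.2]; omega)
  by_cases c29 : k < 63766
  · exact chkList_get F R S st29 63510 st29_ok.1 k (by omega) (by rw [st29_ok.2]; omega)
  by_cases c30 : k < 64022
  · exact chkList_get F R S st30 63766 st30_ok.1 k (by omega) (by rw [st30_ok.2]; omega)
  by_cases c31 : k < 64278
  · exact chkList_get F R S st31 64022 st31_ok.1 k (by omega) (by rw [st31_ok.2]; omega)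
  by_cases c32 : k < 64534
  · exact chkList_get F R S st32 64278 st32_ok.1 k (by omega) (by rw [st32_ok.2]; omega)
  by_cases c33 : k < 64790
  · exact chkList_get F R S st33 64534 st33_ok.1 k (by omega) (by rw [st33_ok.2]; omega)
  by_cases c34 : k < 65046
  · exact chkList_get F R S st34 64790 st34_ok.1 k (by omega) (by rw [st34_ok.2]; omega)
  by_cases c35 : k < 65302
  · exact chkList_get F R S st35 65046 st35_ok.1 k (by omega) (by rw [st35_ok.2]; omega)
  by_cases c36 : k < 65558
  · exact chkList_get F R S st36 65302 st36_ok.1 k (by omega) (by rw [st36_ok.2]; omega)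
  by_cases c37 : k < 65814
  · exact chkList_get F R S st37 65558 st37_ok.1 k (by omega) (by rw [st37_ok.2]; omega)
  by_cases c38 : k < 66070
  · exact chkList_get F R S st38 65814 st38_ok.1 k (by omega) (by rw [st38_ok.2]; omega)
  by_cases c39 : k < 66326
  · exact chkList_get F R S st39 66070 st39_ok.1 k (by omega) (by rw [st39_ok.2]; omega)
  by_cases c40 : k < 66582
  · exact chkList_get F R S st40 66326 st40_ok.1 k (by omega) (by rw [st40_ok.2]; omega)
  by_cases c41 : k < 66838
  · exact chkList_get F R S st41 66582 st41_ok.1 k (by omega) (by rw [st41_ok.2]; omega)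
  by_cases c42 : k < 67094
  · exact chkList_get F R S st42 66838 st42_ok.1 k (by omega) (by rw [st42_ok.2]; omega)
  by_cases c43 : k < 67350
  · exact chkList_get F R S st43 67094 st43_ok.1 k (by omega) (by rw [st43_ok.2]; omega)
  by_cases c44 : k < 67606
  · exact chkList_get F R S st44 67350 st44_ok.1 k (by omega) (by rw [st44_ok.2]; omega)
  by_cases c45 : k < 67862
  · exact chkList_get F R S st45 67606 st45_ok.1 k (by omega) (by rw [st45_ok.2]; omega)
  by_cases c46 : k < 68118
  · exact chkList_get F R S st46 67862 st46_ok.1 k (by omega) (by rw [st46_ok.2]; omega)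
  by_cases c47 : k < 68374
  · exact chkList_get F R S st47 68118 st47_ok.1 k (by omega) (by rw [st47_ok.2]; omega)
  by_cases c48 : k < 68630
  · exact chkList_get F R S st48 68374 st48_ok.1 k (by omega) (by rw [st48_ok.2]; omega)
  by_cases c49 : k < 68886
  · exact chkList_get F R S st49 68630 st49_ok.1 k (by omega) (by rw [st49_ok.2]; omega)
  by_cases c50 : k < 69142
  · exact chkList_get F R S st50 68886 st50_ok.1 k (by omega) (by rw [st50_ok.2]; omega)
  by_cases c51 : k < 69398
  · exact chkList_get F R S st51 69142 st51_ok.1 k (by omega) (by rw [st51_ok.2]; omega)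
  by_cases c52 : k < 69654
  · exact chkList_get F R S st52 69398 st52_ok.1 k (by omega) (by rw [st52_ok.2]; omega)
  by_cases c53 : k < 69910
  · exact chkList_get F R S st53 69654 st53_ok.1 k (by omega) (by rw [st53_ok.2]; omega)
  by_cases c54 : k < 70166
  · exact chkList_get F R S st54 69910 st54_ok.1 k (by omega) (by rw [st54_ok.2]; omega)
  by_cases c55 : k < 70422
  · exact chkList_get F R S st55 70166 st55_ok.1 k (by omega) (by rw [st55_ok.2]; omega)
  by_cases c56 : k < 70678
  · exact chkList_get F R S st56 70422 st56_ok.1 k (by omega) (by rw [st56_ok.2]; omega)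
  by_cases c57 : k < 70934
  · exact chkList_get F R S st57 70678 st57_ok.1 k (by omega) (by rw [st57_ok.2]; omega)
  by_cases c58 : k < 71190
  · exact chkList_get F R S st58 70934 st58_ok.1 k (by omega) (by rw [st58_ok.2]; omega)
  by_cases c59 : k < 71446
  · exact chkList_get F R S st59 71190 st59_ok.1 k (by omega) (by rw [st59_ok.2]; omega)
  by_cases c60 : k < 71702
  · exact chkList_get F R S st60 71446 st60_ok.1 k (by omega) (by rw [st60_ok.2]; omega)
  by_cases c61 : k < 71958
  · exact chkList_get F R S st61 71702 st61_ok.1 k (by omega) (by rw [st61_ok.2]; omega)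
  by_cases c62 : k < 72214
  · exact chkList_get F R S st62 71958 st62_ok.1 k (by omega) (by rw [st62_ok.2]; omega)
  by_cases c63 : k < 72470
  · exact chkList_get F R S st63 72214 st63_ok.1 k (by omega) (by rw [st63_ok.2]; omega)
  by_cases c64 : k < 72726
  · exact chkList_get F R S st64 72470 st64_ok.1 k (by omega) (by rw [st64_ok.2]; omega)
  by_cases c65 : k < 72982
  · exact chkList_get F R S st65 72726 st65_ok.1 k (by omega) (by rw [st65_ok.2]; omega)
  by_cases c66 : k < 73238
  · exact chkList_get F R S st66 72982 st66_ok.1 k (by omega) (by rw [st66_ok.2]; omega)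
  by_cases c67 : k < 73494
  · exact chkList_get F R S st67 73238 st67_ok.1 k (by omega) (by rw [st67_ok.2]; omega)
  by_cases c68 : k < 73750
  · exact chkList_get F R S st68 73494 st68_ok.1 k (by omega) (by rw [st68_ok.2]; omega)
  by_cases c69 : k < 74006
  · exact chkList_get F R S st69 73750 st69_ok.1 k (by omega) (by rw [st69_ok.2]; omega)
  by_cases c70 : k < 74262
  · exact chkList_get F R S st70 74006 st70_ok.1 k (by omega) (by rw [st70_ok.2]; omega)
  by_cases c71 : k < 74518
  · exact chkList_get F R S st71 74262 st71_ok.1 k (by omega) (by rw [st71_ok.2]; omega)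
  by_cases c72 : k < 74774
  · exact chkList_get F R S st72 74518 st72_ok.1 k (by omega) (by rw [st72_ok.2]; omega)
  by_cases c73 : k < 75030
  · exact chkList_get F R S st73 74774 st73_ok.1 k (by omega) (by rw [st73_ok.2]; omega)
  by_cases c74 : k < 75286
  · exact chkList_get F R S st74 75030 st74_ok.1 k (by omega) (by rw [st74_ok.2]; omega)
  by_cases c75 : k < 75542
  · exact chkList_get F R S st75 75286 st75_ok.1 k (by omega) (by rw [st75_ok.2]; omega)
  by_cases c76 : k < 75798
  · exact chkList_get F R S st76 75542 st76_ok.1 k (by omega) (by rw [st76_ok.2]; omega)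
  by_cases c77 : k < 76054
  · exact chkList_get F R S st77 75798 st77_ok.1 k (by omega) (by rw [st77_ok.2]; omega)
  by_cases c78 : k < 76310
  · exact chkList_get F R S st78 76054 st78_ok.1 k (by omega) (by rw [st78_ok.2]; omega)
  by_cases c79 : k < 76566
  · exact chkList_get F R S st79 76310 st79_ok.1 k (by omega) (by rw [st79_ok.2]; omega)
  by_cases c80 : k < 76822
  · exact chkList_get F R S st80 76566 st80_ok.1 k (by omega) (by rw [st80_ok.2]; omega)
  by_cases c81 : k < 77078
  · exact chkList_get F R S st81 76822 st81_ok.1 k (by omega) (by rw [st81_ok.2]; omega)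
  by_cases c82 : k < 77334
  · exact chkList_get F R S st82 77078 st82_ok.1 k (by omega) (by rw [st82_ok.2]; omega)
  by_cases c83 : k < 77590
  · exact chkList_get F R S st83 77334 st83_ok.1 k (by omega) (by rw [st83_ok.2]; omega)
  by_cases c84 : k < 77846
  · exact chkList_get F R S st84 77590 st84_ok.1 k (by omega) (by rw [st84_ok.2]; omega)
  by_cases c85 : k < 78102
  · exact chkList_get F R S st85 77846 st85_ok.1 k (by omega) (by rw [st85_ok.2]; omega)
  by_cases c86 : k < 78358
  · exact chkList_get F R S st86 78102 st86_ok.1 k (by omega) (by rw [st86_ok.2]; omega)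
  by_cases c87 : k < 78614
  · exact chkList_get F R S st87 78358 st87_ok.1 k (by omega) (by rw [st87_ok.2]; omega)
  by_cases c88 : k < 78870
  · exact chkList_get F R S st88 78614 st88_ok.1 k (by omega) (by rw [st88_ok.2]; omega)
  by_cases c89 : k < 79126
  · exact chkList_get F R S st89 78870 st89_ok.1 k (by omega) (by rw [st89_ok.2]; omega)
  by_cases c90 : k < 79382
  · exact chkList_get F R S st90 79126 st90_ok.1 k (by omega) (by rw [st90_ok.2]; omega)
  by_cases c91 : k < 79638
  · exact chkList_get F R S st91 79382 st91_ok.1 k (by omega) (by rw [st91_ok.2]; omega)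
  by_cases c92 : k < 79894
  · exact chkList_get F R S st92 79638 st92_ok.1 k (by omega) (by rw [st92_ok.2]; omega)
  by_cases c93 : k < 80150
  · exact chkList_get F R S st93 79894 st93_ok.1 k (by omega) (by rw [st93_ok.2]; omega)
  by_cases c94 : k < 80406
  · exact chkList_get F R S st94 80150 st94_ok.1 k (by omega) (by rw [st94_ok.2]; omega)
  by_cases c95 : k < 80662
  · exact chkList_get F R S st95 80406 st95_ok.1 k (by omega) (by rw [st95_ok.2]; omega)
  by_cases c96 : k < 80918
  · exact chkList_get F R S st96 80662 st96_ok.1 k (by omega) (by rw [st96_ok.2]; omega)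
  by_cases c97 : k < 81174
  · exact chkList_get F R S st97 80918 st97_ok.1 k (by omega) (by rw [st97_ok.2]; omega)
  by_cases c98 : k < 81430
  · exact chkList_get F R S st98 81174 st98_ok.1 k (by omega) (by rw [st98_ok.2]; omega)
  by_cases c99 : k < 81686
  · exact chkList_get F R S st99 81430 st99_ok.1 k (by omega) (by rw [st99_ok.2]; omega)
  by_cases c100 : k < 81942
  · exact chkList_get F R S st100 81686 st100_ok.1 k (by omega) (by rw [st100_ok.2]; omega)
  by_cases c101 : k < 82198
  · exact chkList_get F R S st101 81942 st101_ok.1 k (by omega) (by rw [st101_ok.2]; omega)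
  by_cases c102 : k < 82454
  · exact chkList_get F R S st102 82198 st102_ok.1 k (by omega) (by rw [st102_ok.2]; omega)
  by_cases c103 : k < 82710
  · exact chkList_get F R S st103 82454 st103_ok.1 k (by omega) (by rw [st103_ok.2]; omega)
  by_cases c104 : k < 82966
  · exact chkList_get F R S st104 82710 st104_ok.1 k (by omega) (by rw [st104_ok.2]; omega)
  by_cases c105 : k < 83222
  · exact chkList_get F R S st105 82966 st105_ok.1 k (by omega) (by rw [st105_ok.2]; omega)
  by_cases c106 : k < 83478
  · exact chkList_get F R S st106 83222 st106_ok.1 k (by omega) (by rw [st106_ok.2]; omega)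
  by_cases c107 : k < 83734
  · exact chkList_get F R S st107 83478 st107_ok.1 k (by omega) (by rw [st107_ok.2]; omega)
  by_cases c108 : k < 83990
  · exact chkList_get F R S st108 83734 st108_ok.1 k (by omega) (by rw [st108_ok.2]; omega)
  by_cases c109 : k < 84246
  · exact chkList_get F R S st109 83990 st109_ok.1 k (by omega) (by rw [st109_ok.2]; omega)
  by_cases c110 : k < 84502
  · exact chkList_get F R S st110 84246 st110_ok.1 k (by omega) (by rw [st110_ok.2]; omega)
  by_cases c111 : k < 84758
  · exact chkList_get F R S st111 84502 st111_ok.1 k (by omega) (by rw [st111_ok.2]; omega)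
  by_cases c112 : k < 85014
  · exact chkList_get F R S st112 84758 st112_ok.1 k (by omega) (by rw [st112_ok.2]; omega)
  by_cases c113 : k < 85270
  · exact chkList_get F R S st113 85014 st113_ok.1 k (by omega) (by rw [st113_ok.2]; omega)
  by_cases c114 : k < 85526
  · exact chkList_get F R S st114 85270 st114_ok.1 k (by omega) (by rw [st114_ok.2]; omega)
  by_cases c115 : k < 85782
  · exact chkList_get F R S st115 85526 st115_ok.1 k (by omega) (by rw [st115_ok.2]; omega)
  by_cases c116 : k < 86038
  · exact chkList_get F R S st116 85782 st116_ok.1 k (by omega) (by rw [st116_ok.2]; omega)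
  by_cases c117 : k < 86294
  · exact chkList_get F R S st117 86038 st117_ok.1 k (by omega) (by rw [st117_ok.2]; omega)
  by_cases c118 : k < 86550
  · exact chkList_get F R S st118 86294 st118_ok.1 k (by omega) (by rw [st118_ok.2]; omega)
  by_cases c119 : k < 86806
  · exact chkList_get F R S st119 86550 st119_ok.1 k (by omega) (by rw [st119_ok.2]; omega)
  by_cases c120 : k < 87062
  · exact chkList_get F R S st120 86806 st120_ok.1 k (by omega) (by rw [st120_ok.2]; omega)
  by_cases c121 : k < 87318
  · exact chkList_get F R S st121 87062 st121_ok.1 k (by omega) (by rw [st121_ok.2]; omega)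
  by_cases c122 : k < 87574
  · exact chkList_get F R S st122 87318 st122_ok.1 k (by omega) (by rw [st122_ok.2]; omega)
  by_cases c123 : k < 87830
  · exact chkList_get F R S st123 87574 st123_ok.1 k (by omega) (by rw [st123_ok.2]; omega)
  by_cases c124 : k < 88086
  · exact chkList_get F R S st124 87830 st124_ok.1 k (by omega) (by rw [st124_ok.2]; omega)
  by_cases c125 : k < 88342
  · exact chkList_get F R S st125 88086 st125_ok.1 k (by omega) (by rw [st125_ok.2]; omega)
  by_cases c126 : k < 88598
  · exact chkList_get F R S st126 88342 st126_ok.1 k (by omega) (by rw [st126_ok.2]; omega)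
  by_cases c127 : k < 88854
  · exact chkList_get F R S st127 88598 st127_ok.1 k (by omega) (by rw [st127_ok.2]; omega)
  by_cases c128 : k < 89110
  · exact chkList_get F R S st128 88854 st128_ok.1 k (by omega) (by rw [st128_ok.2]; omega)
  by_cases c129 : k < 89366
  · exact chkList_get F R S st129 89110 st129_ok.1 k (by omega) (by rw [st129_ok.2]; omega)
  by_cases c130 : k < 89622
  · exact chkList_get F R S st130 89366 st130_ok.1 k (by omega) (by rw [st130_ok.2]; omega)
  by_cases c131 : k < 89878
  · exact chkList_get F R S st131 89622 st131_ok.1 k (by omega) (by rw [st131_ok.2]; omega)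
  by_cases c132 : k < 90134
  · exact chkList_get F R S st132 89878 st132_ok.1 k (by omega) (by rw [st132_ok.2]; omega)
  by_cases c133 : k < 90390
  · exact chkList_get F R S st133 90134 st133_ok.1 k (by omega) (by rw [st133_ok.2]; omega)
  by_cases c134 : k < 90646
  · exact chkList_get F R S st134 90390 st134_ok.1 k (by omega) (by rw [st134_ok.2]; omega)
  by_cases c135 : k < 90902
  · exact chkList_get F R S st135 90646 st135_ok.1 k (by omega) (by rw [st135_ok.2]; omega)
  by_cases c136 : k < 91158
  · exact chkList_get F R S st136 90902 st136_ok.1 k (by omega) (by rw [st136_ok.2]; omega)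
  by_cases c137 : k < 91414
  · exact chkList_get F R S st137 91158 st137_ok.1 k (by omega) (by rw [st137_ok.2]; omega)
  by_cases c138 : k < 91670
  · exact chkList_get F R S st138 91414 st138_ok.1 k (by omega) (by rw [st138_ok.2]; omega)
  by_cases c139 : k < 91926
  · exact chkList_get F R S st139 91670 st139_ok.1 k (by omega) (by rw [st139_ok.2]; omega)
  by_cases c140 : k < 92182
  · exact chkList_get F R S st140 91926 st140_ok.1 k (by omega) (by rw [st140_ok.2]; omega)
  by_cases c141 : k < 92438
  · exact chkList_get F R S st141 92182 st141_ok.1 k (by omega) (by rw [st141_ok.2]; omega)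
  by_cases c142 : k < 92694
  · exact chkList_get F R S st142 92438 st142_ok.1 k (by omega) (by rw [st142_ok.2]; omega)
  by_cases c143 : k < 92950
  · exact chkList_get F R S st143 92694 st143_ok.1 k (by omega) (by rw [st143_ok.2]; omega)
  by_cases c144 : k < 93206
  · exact chkList_get F R S st144 92950 st144_ok.1 k (by omega) (by rw [st144_ok.2]; omega)
  by_cases c145 : k < 93462
  · exact chkList_get F R S st145 93206 st145_ok.1 k (by omega) (by rw [st145_ok.2]; omega)
  by_cases c146 : k < 93718
  · exact chkList_get F R S st146 93462 st146_ok.1 k (by omega) (by rw [st146_ok.2]; omega)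
  by_cases c147 : k < 93974
  · exact chkList_get F R S st147 93718 st147_ok.1 k (by omega) (by rw [st147_ok.2]; omega)
  by_cases c148 : k < 94230
  · exact chkList_get F R S st148 93974 st148_ok.1 k (by omega) (by rw [st148_ok.2]; omega)
  by_cases c149 : k < 94486
  · exact chkList_get F R S st149 94230 st149_ok.1 k (by omega) (by rw [st149_ok.2]; omega)
  by_cases c150 : k < 94742
  · exact chkList_get F R S st150 94486 st150_ok.1 k (by omega) (by rw [st150_ok.2]; omega)
  by_cases c151 : k < 94998
  · exact chkList_get F R S st151 94742 st151_ok.1 k (by omega) (by rw [st151_ok.2]; omega)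
  by_cases c152 : k < 95254
  · exact chkList_get F R S st152 94998 st152_ok.1 k (by omega) (by rw [st152_ok.2]; omega)
  by_cases c153 : k < 95510
  · exact chkList_get F R S st153 95254 st153_ok.1 k (by omega) (by rw [st153_ok.2]; omega)
  by_cases c154 : k < 95766
  · exact chkList_get F R S st154 95510 st154_ok.1 k (by omega) (by rw [st154_ok.2]; omega)
  by_cases c155 : k < 96022
  · exact chkList_get F R S st155 95766 st155_ok.1 k (by omega) (by rw [st155_ok.2]; omega)
  by_cases c156 : k < 96278
  · exact chkList_get F R S st156 96022 st156_ok.1 k (by omega) (by rw [st156_ok.2]; omega)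
  by_cases c157 : k < 96534
  · exact chkList_get F R S st157 96278 st157_ok.1 k (by omega) (by rw [st157_ok.2]; omega)
  by_cases c158 : k < 96790
  · exact chkList_get F R S st158 96534 st158_ok.1 k (by omega) (by rw [st158_ok.2]; omega)
  by_cases c159 : k < 97046
  · exact chkList_get F R S st159 96790 st159_ok.1 k (by omega) (by rw [st159_ok.2]; omega)
  by_cases c160 : k < 97302
  · exact chkList_get F R S st160 97046 st160_ok.1 k (by omega) (by rw [st160_ok.2]; omega)
  by_cases c161 : k < 97558
  · exact chkList_get F R S st161 97302 st161_ok.1 k (by omega) (by rw [st161_ok.2]; omega)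
  by_cases c162 : k < 97814
  · exact chkList_get F R S st162 97558 st162_ok.1 k (by omega) (by rw [st162_ok.2]; omega)
  by_cases c163 : k < 98070
  · exact chkList_get F R S st163 97814 st163_ok.1 k (by omega) (by rw [st163_ok.2]; omega)
  by_cases c164 : k < 98326
  · exact chkList_get F R S st164 98070 st164_ok.1 k (by omega) (by rw [st164_ok.2]; omega)
  by_cases c165 : k < 98582
  · exact chkList_get F R S st165 98326 st165_ok.1 k (by omega) (by rw [st165_ok.2]; omega)
  by_cases c166 : k < 98838
  · exact chkList_get F R S st166 98582 st166_ok.1 k (by omega) (by rw [st166_ok.2]; omega)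
  by_cases c167 : k < 99094
  · exact chkList_get F R S st167 98838 st167_ok.1 k (by omega) (by rw [st167_ok.2]; omega)
  by_cases c168 : k < 99350
  · exact chkList_get F R S st168 99094 st168_ok.1 k (by omega) (by rw [st168_ok.2]; omega)
  by_cases c169 : k < 99606
  · exact chkList_get F R S st169 99350 st169_ok.1 k (by omega) (by rw [st169_ok.2]; omega)
  by_cases c170 : k < 99862
  · exact chkList_get F R S st170 99606 st170_ok.1 k (by omega) (by rw [st170_ok.2]; omega)
  by_cases c171 : k < 100118
  · exact chkList_get F R S st171 99862 st171_ok.1 k (by omega) (by rw [st171_ok.2]; omega)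
  by_cases c172 : k < 100374
  · exact chkList_get F R S st172 100118 st172_ok.1 k (by omega) (by rw [st172_ok.2]; omega)
  by_cases c173 : k < 100630
  · exact chkList_get F R S st173 100374 st173_ok.1 k (by omega) (by rw [st173_ok.2]; omega)
  by_cases c174 : k < 100886
  · exact chkList_get F R S st174 100630 st174_ok.1 k (by omega) (by rw [st174_ok.2]; omega)
  by_cases c175 : k < 101142
  · exact chkList_get F R S st175 100886 st175_ok.1 k (by omega) (by rw [st175_ok.2]; omega)
  by_cases c176 : k < 101398
  · exact chkList_get F R S st176 101142 st176_ok.1 k (by omega) (by rw [st176_ok.2]; omega)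
  by_cases c177 : k < 101654
  · exact chkList_get F R S st177 101398 st177_ok.1 k (by omega) (by rw [st177_ok.2]; omega)
  by_cases c178 : k < 101910
  · exact chkList_get F R S st178 101654 st178_ok.1 k (by omega) (by rw [st178_ok.2]; omega)
  by_cases c179 : k < 102166
  · exact chkList_get F R S st179 101910 st179_ok.1 k (by omega) (by rw [st179_ok.2]; omega)
  by_cases c180 : k < 102422
  · exact chkList_get F R S st180 102166 st180_ok.1 k (by omega) (by rw [st180_ok.2]; omega)
  by_cases c181 : k < 102678
  · exact chkList_get F R S st181 102422 st181_ok.1 k (by omega) (by rw [st181_ok.2]; omega)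
  by_cases c182 : k < 102934
  · exact chkList_get F R S st182 102678 st182_ok.1 k (by omega) (by rw [st182_ok.2]; omega)
  by_cases c183 : k < 103190
  · exact chkList_get F R S st183 102934 st183_ok.1 k (by omega) (by rw [st183_ok.2]; omega)
  by_cases c184 : k < 103446
  · exact chkList_get F R S st184 103190 st184_ok.1 k (by omega) (by rw [st184_ok.2]; omega)
  by_cases c185 : k < 103702
  · exact chkList_get F R S st185 103446 st185_ok.1 k (by omega) (by rw [st185_ok.2]; omega)
  by_cases c186 : k < 103958
  · exact chkList_get F R S st186 103702 st186_ok.1 k (by omega) (by rw [st186_ok.2]; omega)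
  by_cases c187 : k < 104214
  · exact chkList_get F R S st187 103958 st187_ok.1 k (by omega) (by rw [st187_ok.2]; omega)
  by_cases c188 : k < 104470
  · exact chkList_get F R S st188 104214 st188_ok.1 k (by omega) (by rw [st188_ok.2]; omega)
  by_cases c189 : k < 104726
  · exact chkList_get F R S st189 104470 st189_ok.1 k (by omega) (by rw [st189_ok.2]; omega)
  by_cases c190 : k < 104982
  · exact chkList_get F R S st190 104726 st190_ok.1 k (by omega) (by rw [st190_ok.2]; omega)
  by_cases c191 : k < 105238
  · exact chkList_get F R S st191 104982 st191_ok.1 k (by omega) (by rw [st191_ok.2]; omega)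
  by_cases c192 : k < 105494
  · exact chkList_get F R S st192 105238 st192_ok.1 k (by omega) (by rw [st192_ok.2]; omega)
  by_cases c193 : k < 105750
  · exact chkList_get F R S st193 105494 st193_ok.1 k (by omega) (by rw [st193_ok.2]; omega)
  by_cases c194 : k < 106006
  · exact chkList_get F R S st194 105750 st194_ok.1 k (by omega) (by rw [st194_ok.2]; omega)
  by_cases c195 : k < 106262
  · exact chkList_get F R S st195 106006 st195_ok.1 k (by omega) (by rw [st195_ok.2]; omega)
  by_cases c196 : k < 106518
  · exact chkList_get F R S st196 106262 st196_ok.1 k (by omega) (by rw [st196_ok.2]; omega)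
  by_cases c197 : k < 106774
  · exact chkList_get F R S st197 106518 st197_ok.1 k (by omega) (by rw [st197_ok.2]; omega)
  by_cases c198 : k < 107030
  · exact chkList_get F R S st198 106774 st198_ok.1 k (by omega) (by rw [st198_ok.2]; omega)
  by_cases c199 : k < 107286
  · exact chkList_get F R S st199 107030 st199_ok.1 k (by omega) (by rw [st199_ok.2]; omega)
  by_cases c200 : k < 107542
  · exact chkList_get F R S st200 107286 st200_ok.1 k (by omega) (by rw [st200_ok.2]; omega)
  by_cases c201 : k < 107798
  · exact chkList_get F R S st201 107542 st201_ok.1 k (by omega) (by rw [st201_ok.2]; omega)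
  by_cases c202 : k < 108054
  · exact chkList_get F R S st202 107798 st202_ok.1 k (by omega) (by rw [st202_ok.2]; omega)
  by_cases c203 : k < 108310
  · exact chkList_get F R S st203 108054 st203_ok.1 k (by omega) (by rw [st203_ok.2]; omega)
  by_cases c204 : k < 108566
  · exact chkList_get F R S st204 108310 st204_ok.1 k (by omega) (by rw [st204_ok.2]; omega)
  by_cases c205 : k < 108822
  · exact chkList_get F R S st205 108566 st205_ok.1 k (by omega) (by rw [st205_ok.2]; omega)
  by_cases c206 : k < 109078
  · exact chkList_get F R S st206 108822 st206_ok.1 k (by omega) (by rw [st206_ok.2]; omega)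
  by_cases c207 : k < 109334
  · exact chkList_get F R S st207 109078 st207_ok.1 k (by omega) (by rw [st207_ok.2]; omega)
  by_cases c208 : k < 109590
  · exact chkList_get F R S st208 109334 st208_ok.1 k (by omega) (by rw [st208_ok.2]; omega)
  by_cases c209 : k < 109846
  · exact chkList_get F R S st209 109590 st209_ok.1 k (by omega) (by rw [st209_ok.2]; omega)
  by_cases c210 : k < 110102
  · exact chkList_get F R S st210 109846 st210_ok.1 k (by omega) (by rw [st210_ok.2]; omega)
  by_cases c211 : k < 110358
  · exact chkList_get F R S st211 110102 st211_ok.1 k (by omega) (by rw [st211_ok.2]; omega)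
  by_cases c212 : k < 110614
  · exact chkList_get F R S st212 110358 st212_ok.1 k (by omega) (by rw [st212_ok.2]; omega)
  by_cases c213 : k < 110870
  · exact chkList_get F R S st213 110614 st213_ok.1 k (by omega) (by rw [st213_ok.2]; omega)
  by_cases c214 : k < 111126
  · exact chkList_get F R S st214 110870 st214_ok.1 k (by omega) (by rw [st214_ok.2]; omega)
  by_cases c215 : k < 111382
  · exact chkList_get F R S st215 111126 st215_ok.1 k (by omega) (by rw [st215_ok.2]; omega)
  by_cases c216 : k < 111638
  · exact chkList_get F R S st216 111382 st216_ok.1 k (by omega) (by rw [st216_ok.2]; omega)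
  by_cases c217 : k < 111894
  · exact chkList_get F R S st217 111638 st217_ok.1 k (by omega) (by rw [st217_ok.2]; omega)
  by_cases c218 : k < 112150
  · exact chkList_get F R S st218 111894 st218_ok.1 k (by omega) (by rw [st218_ok.2]; omega)
  by_cases c219 : k < 112406
  · exact chkList_get F R S st219 112150 st219_ok.1 k (by omega) (by rw [st219_ok.2]; omega)
  by_cases c220 : k < 112662
  · exact chkList_get F R S st220 112406 st220_ok.1 k (by omega) (by rw [st220_ok.2]; omega)
  by_cases c221 : k < 112918
  · exact chkList_get F R S st221 112662 st221_ok.1 k (by omega) (by rw [st221_ok.2]; omega)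
  by_cases c222 : k < 113174
  · exact chkList_get F R S st222 112918 st222_ok.1 k (by omega) (by rw [st222_ok.2]; omega)
  by_cases c223 : k < 113430
  · exact chkList_get F R S st223 113174 st223_ok.1 k (by omega) (by rw [st223_ok.2]; omega)
  by_cases c224 : k < 113686
  · exact chkList_get F R S st224 113430 st224_ok.1 k (by omega) (by rw [st224_ok.2]; omega)
  by_cases c225 : k < 113942
  · exact chkList_get F R S st225 113686 st225_ok.1 k (by omega) (by rw [st225_ok.2]; omega)
  by_cases c226 : k < 114198
  · exact chkList_get F R S st226 113942 st226_ok.1 k (by omega) (by rw [st226_ok.2]; omega)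
  by_cases c227 : k < 114454
  · exact chkList_get F R S st227 114198 st227_ok.1 k (by omega) (by rw [st227_ok.2]; omega)
  by_cases c228 : k < 114710
  · exact chkList_get F R S st228 114454 st228_ok.1 k (by omega) (by rw [st228_ok.2]; omega)
  by_cases c229 : k < 114966
  · exact chkList_get F R S st229 114710 st229_ok.1 k (by omega) (by rw [st229_ok.2]; omega)
  by_cases c230 : k < 115222
  · exact chkList_get F R S st230 114966 st230_ok.1 k (by omega) (by rw [st230_ok.2]; omega)
  by_cases c231 : k < 115478
  · exact chkList_get F R S st231 115222 st231_ok.1 k (by omega) (by rw [st231_ok.2]; omega)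
  by_cases c232 : k < 115734
  · exact chkList_get F R S st232 115478 st232_ok.1 k (by omega) (by rw [st232_ok.2]; omega)
  by_cases c233 : k < 115990
  · exact chkList_get F R S st233 115734 st233_ok.1 k (by omega) (by rw [st233_ok.2]; omega)
  by_cases c234 : k < 116246
  · exact chkList_get F R S st234 115990 st234_ok.1 k (by omega) (by rw [st234_ok.2]; omega)
  by_cases c235 : k < 116502
  · exact chkList_get F R S st235 116246 st235_ok.1 k (by omega) (by rw [st235_ok.2]; omega)
  by_cases c236 : k < 116758
  · exact chkList_get F R S st236 116502 st236_ok.1 k (by omega) (by rw [st236_ok.2]; omega)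
  by_cases c237 : k < 117014
  · exact chkList_get F R S st237 116758 st237_ok.1 k (by omega) (by rw [st237_ok.2]; omega)
  by_cases c238 : k < 117270
  · exact chkList_get F R S st238 117014 st238_ok.1 k (by omega) (by rw [st238_ok.2]; omega)
  by_cases c239 : k < 117526
  · exact chkList_get F R S st239 117270 st239_ok.1 k (by omega) (by rw [st239_ok.2]; omega)
  by_cases c240 : k < 117782
  · exact chkList_get F R S st240 117526 st240_ok.1 k (by omega) (by rw [st240_ok.2]; omega)
  by_cases c241 : k < 118038
  · exact chkList_get F R S st241 117782 st241_ok.1 k (by omega) (by rw [st241_ok.2]; omega)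
  by_cases c242 : k < 118294
  · exact chkList_get F R S st242 118038 st242_ok.1 k (by omega) (by rw [st242_ok.2]; omega)
  by_cases c243 : k < 118550
  · exact chkList_get F R S st243 118294 st243_ok.1 k (by omega) (by rw [st243_ok.2]; omega)
  by_cases c244 : k < 118806
  · exact chkList_get F R S st244 118550 st244_ok.1 k (by omega) (by rw [st244_ok.2]; omega)
  by_cases c245 : k < 119062
  · exact chkList_get F R S st245 118806 st245_ok.1 k (by omega) (by rw [st245_ok.2]; omega)
  by_cases c246 : k < 119318
  · exact chkList_get F R S st246 119062 st246_ok.1 k (by omega) (by rw [st246_ok.2]; omega)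
  by_cases c247 : k < 119574
  · exact chkList_get F R S st247 119318 st247_ok.1 k (by omega) (by rw [st247_ok.2]; omega)
  by_cases c248 : k < 119830
  · exact chkList_get F R S st248 119574 st248_ok.1 k (by omega) (by rw [st248_ok.2]; omega)
  by_cases c249 : k < 120086
  · exact chkList_get F R S st249 119830 st249_ok.1 k (by omega) (by rw [st249_ok.2]; omega)
  by_cases c250 : k < 120342
  · exact chkList_get F R S st250 120086 st250_ok.1 k (by omega) (by rw [st250_ok.2]; omega)
  by_cases c251 : k < 120598
  · exact chkList_get F R S st251 120342 st251_ok.1 k (by omega) (by rw [st251_ok.2]; omega)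
  by_cases c252 : k < 120854
  · exact chkList_get F R S st252 120598 st252_ok.1 k (by omega) (by rw [st252_ok.2]; omega)
  by_cases c253 : k < 121110
  · exact chkList_get F R S st253 120854 st253_ok.1 k (by omega) (by rw [st253_ok.2]; omega)
  by_cases c254 : k < 121366
  · exact chkList_get F R S st254 121110 st254_ok.1 k (by omega) (by rw [st254_ok.2]; omega)
  by_cases c255 : k < 121622
  · exact chkList_get F R S st255 121366 st255_ok.1 k (by omega) (by rw [st255_ok.2]; omega)
  by_cases c256 : k < 121878
  · exact chkList_get F R S st256 121622 st256_ok.1 k (by omega) (by rw [st256_ok.2]; omega)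
  by_cases c257 : k < 122134
  · exact chkList_get F R S st257 121878 st257_ok.1 k (by omega) (by rw [st257_ok.2]; omega)
  by_cases c258 : k < 122390
  · exact chkList_get F R S st258 122134 st258_ok.1 k (by omega) (by rw [st258_ok.2]; omega)
  by_cases c259 : k < 122646
  · exact chkList_get F R S st259 122390 st259_ok.1 k (by omega) (by rw [st259_ok.2]; omega)
  by_cases c260 : k < 122902
  · exact chkList_get F R S st260 122646 st260_ok.1 k (by omega) (by rw [st260_ok.2]; omega)
  by_cases c261 : k < 123158
  · exact chkList_get F R S st261 122902 st261_ok.1 k (by omega) (by rw [st261_ok.2]; omega)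
  by_cases c262 : k < 123414
  · exact chkList_get F R S st262 123158 st262_ok.1 k (by omega) (by rw [st262_ok.2]; omega)
  by_cases c263 : k < 123670
  · exact chkList_get F R S st263 123414 st263_ok.1 k (by omega) (by rw [st263_ok.2]; omega)
  by_cases c264 : k < 123926
  · exact chkList_get F R S st264 123670 st264_ok.1 k (by omega) (by rw [st264_ok.2]; omega)
  by_cases c265 : k < 124182
  · exact chkList_get F R S st265 123926 st265_ok.1 k (by omega) (by rw [st265_ok.2]; omega)
  by_cases c266 : k < 124438
  · exact chkList_get F R S st266 124182 st266_ok.1 k (by omega) (by rw [st266_ok.2]; omega)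
  by_cases c267 : k < 124694
  · exact chkList_get F R S st267 124438 st267_ok.1 k (by omega) (by rw [st267_ok.2]; omega)
  by_cases c268 : k < 124950
  · exact chkList_get F R S st268 124694 st268_ok.1 k (by omega) (by rw [st268_ok.2]; omega)
  by_cases c269 : k < 125206
  · exact chkList_get F R S st269 124950 st269_ok.1 k (by omega) (by rw [st269_ok.2]; omega)
  by_cases c270 : k < 125462
  · exact chkList_get F R S st270 125206 st270_ok.1 k (by omega) (by rw [st270_ok.2]; omega)
  by_cases c271 : k < 125718
  · exact chkList_get F R S st271 125462 st271_ok.1 k (by omega) (by rw [st271_ok.2]; omega)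
  by_cases c272 : k < 125974
  · exact chkList_get F R S st272 125718 st272_ok.1 k (by omega) (by rw [st272_ok.2]; omega)
  by_cases c273 : k < 126230
  · exact chkList_get F R S st273 125974 st273_ok.1 k (by omega) (by rw [st273_ok.2]; omega)
  by_cases c274 : k < 126486
  · exact chkList_get F R S st274 126230 st274_ok.1 k (by omega) (by rw [st274_ok.2]; omega)
  by_cases c275 : k < 126742
  · exact chkList_get F R S st275 126486 st275_ok.1 k (by omega) (by rw [st275_ok.2]; omega)
  by_cases c276 : k < 126998
  · exact chkList_get F R S st276 126742 st276_ok.1 k (by omega) (by rw [st276_ok.2]; omega)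
  by_cases c277 : k < 127254
  · exact chkList_get F R S st277 126998 st277_ok.1 k (by omega) (by rw [st277_ok.2]; omega)
  by_cases c278 : k < 127510
  · exact chkList_get F R S st278 127254 st278_ok.1 k (by omega) (by rw [st278_ok.2]; omega)
  by_cases c279 : k < 127766
  · exact chkList_get F R S st279 127510 st279_ok.1 k (by omega) (by rw [st279_ok.2]; omega)
  by_cases c280 : k < 128022
  · exact chkList_get F R S st280 127766 st280_ok.1 k (by omega) (by rw [st280_ok.2]; omega)
  by_cases c281 : k < 128278
  · exact chkList_get F R S st281 128022 st281_ok.1 k (by omega) (by rw [st281_ok.2]; omega)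
  by_cases c282 : k < 128534
  · exact chkList_get F R S st282 128278 st282_ok.1 k (by omega) (by rw [st282_ok.2]; omega)
  by_cases c283 : k < 128790
  · exact chkList_get F R S st283 128534 st283_ok.1 k (by omega) (by rw [st283_ok.2]; omega)
  by_cases c284 : k < 129046
  · exact chkList_get F R S st284 128790 st284_ok.1 k (by omega) (by rw [st284_ok.2]; omega)
  by_cases c285 : k < 129302
  · exact chkList_get F R S st285 129046 st285_ok.1 k (by omega) (by rw [st285_ok.2]; omega)
  by_cases c286 : k < 129558
  · exact chkList_get F R S st286 129302 st286_ok.1 k (by omega) (by rw [st286_ok.2]; omega)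
  by_cases c287 : k < 129814
  · exact chkList_get F R S st287 129558 st287_ok.1 k (by omega) (by rw [st287_ok.2]; omega)
  by_cases c288 : k < 130070
  · exact chkList_get F R S st288 129814 st288_ok.1 k (by omega) (by rw [st288_ok.2]; omega)
  by_cases c289 : k < 130326
  · exact chkList_get F R S st289 130070 st289_ok.1 k (by omega) (by rw [st289_ok.2]; omega)
  by_cases c290 : k < 130582
  · exact chkList_get F R S st290 130326 st290_ok.1 k (by omega) (by rw [st290_ok.2]; omega)
  by_cases c291 : k < 130838
  · exact chkList_get F R S st291 130582 st291_ok.1 k (by omega) (by rw [st291_ok.2]; omega)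
  by_cases c292 : k < 131094
  · exact chkList_get F R S st292 130838 st292_ok.1 k (by omega) (by rw [st292_ok.2]; omega)
  by_cases c293 : k < 131350
  · exact chkList_get F R S st293 131094 st293_ok.1 k (by omega) (by rw [st293_ok.2]; omega)
  by_cases c294 : k < 131606
  · exact chkList_get F R S st294 131350 st294_ok.1 k (by omega) (by rw [st294_ok.2]; omega)
  by_cases c295 : k < 131862
  · exact chkList_get F R S st295 131606 st295_ok.1 k (by omega) (by rw [st295_ok.2]; omega)
  by_cases c296 : k < 132118
  · exact chkList_get F R S st296 131862 st296_ok.1 k (by omega) (by rw [st296_ok.2]; omega)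
  by_cases c297 : k < 132374
  · exact chkList_get F R S st297 132118 st297_ok.1 k (by omega) (by rw [st297_ok.2]; omega)
  by_cases c298 : k < 132630
  · exact chkList_get F R S st298 132374 st298_ok.1 k (by omega) (by rw [st298_ok.2]; omega)
  by_cases c299 : k < 132886
  · exact chkList_get F R S st299 132630 st299_ok.1 k (by omega) (by rw [st299_ok.2]; omega)
  by_cases c300 : k < 133142
  · exact chkList_get F R S st300 132886 st300_ok.1 k (by omega) (by rw [st300_ok.2]; omega)
  by_cases c301 : k < 133398
  · exact chkList_get F R S st301 133142 st301_ok.1 k (by omega) (by rw [st301_ok.2]; omega)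
  by_cases c302 : k < 133654
  · exact chkList_get F R S st302 133398 st302_ok.1 k (by omega) (by rw [st302_ok.2]; omega)
  by_cases c303 : k < 133910
  · exact chkList_get F R S st303 133654 st303_ok.1 k (by omega) (by rw [st303_ok.2]; omega)
  by_cases c304 : k < 134166
  · exact chkList_get F R S st304 133910 st304_ok.1 k (by omega) (by rw [st304_ok.2]; omega)
  by_cases c305 : k < 134422
  · exact chkList_get F R S st305 134166 st305_ok.1 k (by omega) (by rw [st305_ok.2]; omega)
  by_cases c306 : k < 134678
  · exact chkList_get F R S st306 134422 st306_ok.1 k (by omega) (by rw [st306_ok.2]; omega)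
  by_cases c307 : k < 134934
  · exact chkList_get F R S st307 134678 st307_ok.1 k (by omega) (by rw [st307_ok.2]; omega)
  by_cases c308 : k < 135190
  · exact chkList_get F R S st308 134934 st308_ok.1 k (by omega) (by rw [st308_ok.2]; omega)
  by_cases c309 : k < 135446
  · exact chkList_get F R S st309 135190 st309_ok.1 k (by omega) (by rw [st309_ok.2]; omega)
  by_cases c310 : k < 135702
  · exact chkList_get F R S st310 135446 st310_ok.1 k (by omega) (by rw [st310_ok.2]; omega)
  by_cases c311 : k < 135958
  · exact chkList_get F R S st311 135702 st311_ok.1 k (by omega) (by rw [st311_ok.2]; omega)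
  by_cases c312 : k < 136214
  · exact chkList_get F R S st312 135958 st312_ok.1 k (by omega) (by rw [st312_ok.2]; omega)
  by_cases c313 : k < 136470
  · exact chkList_get F R S st313 136214 st313_ok.1 k (by omega) (by rw [st313_ok.2]; omega)
  by_cases c314 : k < 136726
  · exact chkList_get F R S st314 136470 st314_ok.1 k (by omega) (by rw [st314_ok.2]; omega)
  by_cases c315 : k < 136982
  · exact chkList_get F R S st315 136726 st315_ok.1 k (by omega) (by rw [st315_ok.2]; omega)
  by_cases c316 : k < 137238
  · exact chkList_get F R S st316 136982 st316_ok.1 k (by omega) (by rw [st316_ok.2]; omega)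
  by_cases c317 : k < 137494
  · exact chkList_get F R S st317 137238 st317_ok.1 k (by omega) (by rw [st317_ok.2]; omega)
  by_cases c318 : k < 137750
  · exact chkList_get F R S st318 137494 st318_ok.1 k (by omega) (by rw [st318_ok.2]; omega)
  by_cases c319 : k < 138006
  · exact chkList_get F R S st319 137750 st319_ok.1 k (by omega) (by rw [st319_ok.2]; omega)
  by_cases c320 : k < 138262
  · exact chkList_get F R S st320 138006 st320_ok.1 k (by omega) (by rw [st320_ok.2]; omega)
  by_cases c321 : k < 138518
  · exact chkList_get F R S st321 138262 st321_ok.1 k (by omega) (by rw [st321_ok.2]; omega)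
  by_cases c322 : k < 138774
  · exact chkList_get F R S st322 138518 st322_ok.1 k (by omega) (by rw [st322_ok.2]; omega)
  by_cases c323 : k < 139030
  · exact chkList_get F R S st323 138774 st323_ok.1 k (by omega) (by rw [st323_ok.2]; omega)
  by_cases c324 : k < 139286
  · exact chkList_get F R S st324 139030 st324_ok.1 k (by omega) (by rw [st324_ok.2]; omega)
  by_cases c325 : k < 139542
  · exact chkList_get F R S st325 139286 st325_ok.1 k (by omega) (by rw [st325_ok.2]; omega)
  by_cases c326 : k < 139798
  · exact chkList_get F R S st326 139542 st326_ok.1 k (by omega) (by rw [st326_ok.2]; omega)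
  by_cases c327 : k < 140054
  · exact chkList_get F R S st327 139798 st327_ok.1 k (by omega) (by rw [st327_ok.2]; omega)
  by_cases c328 : k < 140310
  · exact chkList_get F R S st328 140054 st328_ok.1 k (by omega) (by rw [st328_ok.2]; omega)
  by_cases c329 : k < 140566
  · exact chkList_get F R S st329 140310 st329_ok.1 k (by omega) (by rw [st329_ok.2]; omega)
  by_cases c330 : k < 140822
  · exact chkList_get F R S st330 140566 st330_ok.1 k (by omega) (by rw [st330_ok.2]; omega)
  by_cases c331 : k < 141078
  · exact chkList_get F R S st331 140822 st331_ok.1 k (by omega) (by rw [st331_ok.2]; omega)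
  by_cases c332 : k < 141334
  · exact chkList_get F R S st332 141078 st332_ok.1 k (by omega) (by rw [st332_ok.2]; omega)
  by_cases c333 : k < 141590
  · exact chkList_get F R S st333 141334 st333_ok.1 k (by omega) (by rw [st333_ok.2]; omega)
  by_cases c334 : k < 141846
  · exact chkList_get F R S st334 141590 st334_ok.1 k (by omega) (by rw [st334_ok.2]; omega)
  by_cases c335 : k < 142102
  · exact chkList_get F R S st335 141846 st335_ok.1 k (by omega) (by rw [st335_ok.2]; omega)
  by_cases c336 : k < 142358
  · exact chkList_get F R S st336 142102 st336_ok.1 k (by omega) (by rw [st336_ok.2]; omega)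
  by_cases c337 : k < 142614
  · exact chkList_get F R S st337 142358 st337_ok.1 k (by omega) (by rw [st337_ok.2]; omega)
  by_cases c338 : k < 142870
  · exact chkList_get F R S st338 142614 st338_ok.1 k (by omega) (by rw [st338_ok.2]; omega)
  by_cases c339 : k < 143126
  · exact chkList_get F R S st339 142870 st339_ok.1 k (by omega) (by rw [st339_ok.2]; omega)
  by_cases c340 : k < 143382
  · exact chkList_get F R S st340 143126 st340_ok.1 k (by omega) (by rw [st340_ok.2]; omega)
  by_cases c341 : k < 143638
  · exact chkList_get F R S st341 143382 st341_ok.1 k (by omega) (by rw [st341_ok.2]; omega)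
  by_cases c342 : k < 143894
  · exact chkList_get F R S st342 143638 st342_ok.1 k (by omega) (by rw [st342_ok.2]; omega)
  by_cases c343 : k < 144150
  · exact chkList_get F R S st343 143894 st343_ok.1 k (by omega) (by rw [st343_ok.2]; omega)
  by_cases c344 : k < 144406
  · exact chkList_get F R S st344 144150 st344_ok.1 k (by omega) (by rw [st344_ok.2]; omega)
  by_cases c345 : k < 144662
  · exact chkList_get F R S st345 144406 st345_ok.1 k (by omega) (by rw [st345_ok.2]; omega)
  by_cases c346 : k < 144918
  · exact chkList_get F R S st346 144662 st346_ok.1 k (by omega) (by rw [st346_ok.2]; omega)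
  by_cases c347 : k < 145174
  · exact chkList_get F R S st347 144918 st347_ok.1 k (by omega) (by rw [st347_ok.2]; omega)
  by_cases c348 : k < 145430
  · exact chkList_get F R S st348 145174 st348_ok.1 k (by omega) (by rw [st348_ok.2]; omega)
  by_cases c349 : k < 145686
  · exact chkList_get F R S st349 145430 st349_ok.1 k (by omega) (by rw [st349_ok.2]; omega)
  by_cases c350 : k < 145942
  · exact chkList_get F R S st350 145686 st350_ok.1 k (by omega) (by rw [st350_ok.2]; omega)
  by_cases c351 : k < 146198
  · exact chkList_get F R S st351 145942 st351_ok.1 k (by omega) (by rw [st351_ok.2]; omega)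
  by_cases c352 : k < 146454
  · exact chkList_get F R S st352 146198 st352_ok.1 k (by omega) (by rw [st352_ok.2]; omega)
  by_cases c353 : k < 146710
  · exact chkList_get F R S st353 146454 st353_ok.1 k (by omega) (by rw [st353_ok.2]; omega)
  by_cases c354 : k < 146966
  · exact chkList_get F R S st354 146710 st354_ok.1 k (by omega) (by rw [st354_ok.2]; omega)
  by_cases c355 : k < 147222
  · exact chkList_get F R S st355 146966 st355_ok.1 k (by omega) (by rw [st355_ok.2]; omega)
  by_cases c356 : k < 147478
  · exact chkList_get F R S st356 147222 st356_ok.1 k (by omega) (by rw [st356_ok.2]; omega)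
  by_cases c357 : k < 147734
  · exact chkList_get F R S st357 147478 st357_ok.1 k (by omega) (by rw [st357_ok.2]; omega)
  by_cases c358 : k < 147990
  · exact chkList_get F R S st358 147734 st358_ok.1 k (by omega) (by rw [st358_ok.2]; omega)
  by_cases c359 : k < 148246
  · exact chkList_get F R S st359 147990 st359_ok.1 k (by omega) (by rw [st359_ok.2]; omega)
  by_cases c360 : k < 148502
  · exact chkList_get F R S st360 148246 st360_ok.1 k (by omega) (by rw [st360_ok.2]; omega)
  by_cases c361 : k < 148758
  · exact chkList_get F R S st361 148502 st361_ok.1 k (by omega) (by rw [st361_ok.2]; omega)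
  by_cases c362 : k < 149014
  · exact chkList_get F R S st362 148758 st362_ok.1 k (by omega) (by rw [st362_ok.2]; omega)
  by_cases c363 : k < 149270
  · exact chkList_get F R S st363 149014 st363_ok.1 k (by omega) (by rw [st363_ok.2]; omega)
  by_cases c364 : k < 149526
  · exact chkList_get F R S st364 149270 st364_ok.1 k (by omega) (by rw [st364_ok.2]; omega)
  by_cases c365 : k < 149782
  · exact chkList_get F R S st365 149526 st365_ok.1 k (by omega) (by rw [st365_ok.2]; omega)
  by_cases c366 : k < 150038
  · exact chkList_get F R S st366 149782 st366_ok.1 k (by omega) (by rw [st366_ok.2]; omega)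
  by_cases c367 : k < 150294
  · exact chkList_get F R S st367 150038 st367_ok.1 k (by omega) (by rw [st367_ok.2]; omega)
  by_cases c368 : k < 150550
  · exact chkList_get F R S st368 150294 st368_ok.1 k (by omega) (by rw [st368_ok.2]; omega)
  by_cases c369 : k < 150806
  · exact chkList_get F R S st369 150550 st369_ok.1 k (by omega) (by rw [st369_ok.2]; omega)
  by_cases c370 : k < 151062
  · exact chkList_get F R S st370 150806 st370_ok.1 k (by omega) (by rw [st370_ok.2]; omega)
  by_cases c371 : k < 151318
  · exact chkList_get F R S st371 151062 st371_ok.1 k (by omega) (by rw [st371_ok.2]; omega)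
  by_cases c372 : k < 151574
  · exact chkList_get F R S st372 151318 st372_ok.1 k (by omega) (by rw [st372_ok.2]; omega)
  by_cases c373 : k < 151830
  · exact chkList_get F R S st373 151574 st373_ok.1 k (by omega) (by rw [st373_ok.2]; omega)
  by_cases c374 : k < 152086
  · exact chkList_get F R S st374 151830 st374_ok.1 k (by omega) (by rw [st374_ok.2]; omega)
  by_cases c375 : k < 152342
  · exact chkList_get F R S st375 152086 st375_ok.1 k (by omega) (by rw [st375_ok.2]; omega)
  by_cases c376 : k < 152598
  · exact chkList_get F R S st376 152342 st376_ok.1 k (by omega) (by rw [st376_ok.2]; omega)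
  by_cases c377 : k < 152854
  · exact chkList_get F R S st377 152598 st377_ok.1 k (by omega) (by rw [st377_ok.2]; omega)
  by_cases c378 : k < 153110
  · exact chkList_get F R S st378 152854 st378_ok.1 k (by omega) (by rw [st378_ok.2]; omega)
  by_cases c379 : k < 153366
  · exact chkList_get F R S st379 153110 st379_ok.1 k (by omega) (by rw [st379_ok.2]; omega)
  by_cases c380 : k < 153622
  · exact chkList_get F R S st380 153366 st380_ok.1 k (by omega) (by rw [st380_ok.2]; omega)
  by_cases c381 : k < 153878
  · exact chkList_get F R S st381 153622 st381_ok.1 k (by omega) (by rw [st381_ok.2]; omega)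
  by_cases c382 : k < 154134
  · exact chkList_get F R S st382 153878 st382_ok.1 k (by omega) (by rw [st382_ok.2]; omega)
  by_cases c383 : k < 154390
  · exact chkList_get F R S st383 154134 st383_ok.1 k (by omega) (by rw [st383_ok.2]; omega)
  by_cases c384 : k < 154646
  · exact chkList_get F R S st384 154390 st384_ok.1 k (by omega) (by rw [st384_ok.2]; omega)
  by_cases c385 : k < 154902
  · exact chkList_get F R S st385 154646 st385_ok.1 k (by omega) (by rw [st385_ok.2]; omega)
  by_cases c386 : k < 155158
  · exact chkList_get F R S st386 154902 st386_ok.1 k (by omega) (by rw [st386_ok.2]; omega)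
  by_cases c387 : k < 155414
  · exact chkList_get F R S st387 155158 st387_ok.1 k (by omega) (by rw [st387_ok.2]; omega)
  by_cases c388 : k < 155670
  · exact chkList_get F R S st388 155414 st388_ok.1 k (by omega) (by rw [st388_ok.2]; omega)
  by_cases c389 : k < 155926
  · exact chkList_get F R S st389 155670 st389_ok.1 k (by omega) (by rw [st389_ok.2]; omega)
  by_cases c390 : k < 156182
  · exact chkList_get F R S st390 155926 st390_ok.1 k (by omega) (by rw [st390_ok.2]; omega)
  by_cases c391 : k < 156438
  · exact chkList_get F R S st391 156182 st391_ok.1 k (by omega) (by rw [st391_ok.2]; omega)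
  by_cases c392 : k < 156694
  · exact chkList_get F R S st392 156438 st392_ok.1 k (by omega) (by rw [st392_ok.2]; omega)
  by_cases c393 : k < 156950
  · exact chkList_get F R S st393 156694 st393_ok.1 k (by omega) (by rw [st393_ok.2]; omega)
  by_cases c394 : k < 157206
  · exact chkList_get F R S st394 156950 st394_ok.1 k (by omega) (by rw [st394_ok.2]; omega)
  by_cases c395 : k < 157462
  · exact chkList_get F R S st395 157206 st395_ok.1 k (by omega) (by rw [st395_ok.2]; omega)
  by_cases c396 : k < 157718
  · exact chkList_get F R S st396 157462 st396_ok.1 k (by omega) (by rw [st396_ok.2]; omega)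
  by_cases c397 : k < 157974
  · exact chkList_get F R S st397 157718 st397_ok.1 k (by omega) (by rw [st397_ok.2]; omega)
  by_cases c398 : k < 158230
  · exact chkList_get F R S st398 157974 st398_ok.1 k (by omega) (by rw [st398_ok.2]; omega)
  by_cases c399 : k < 158486
  · exact chkList_get F R S st399 158230 st399_ok.1 k (by omega) (by rw [st399_ok.2]; omega)
  by_cases c400 : k < 158742
  · exact chkList_get F R S st400 158486 st400_ok.1 k (by omega) (by rw [st400_ok.2]; omega)
  by_cases c401 : k < 158998
  · exact chkList_get F R S st401 158742 st401_ok.1 k (by omega) (by rw [st401_ok.2]; omega)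
  by_cases c402 : k < 159254
  · exact chkList_get F R S st402 158998 st402_ok.1 k (by omega) (by rw [st402_ok.2]; omega)
  by_cases c403 : k < 159510
  · exact chkList_get F R S st403 159254 st403_ok.1 k (by omega) (by rw [st403_ok.2]; omega)
  by_cases c404 : k < 159766
  · exact chkList_get F R S st404 159510 st404_ok.1 k (by omega) (by rw [st404_ok.2]; omega)
  by_cases c405 : k < 160022
  · exact chkList_get F R S st405 159766 st405_ok.1 k (by omega) (by rw [st405_ok.2]; omega)
  by_cases c406 : k < 160278
  · exact chkList_get F R S st406 160022 st406_ok.1 k (by omega) (by rw [st406_ok.2]; omega)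
  by_cases c407 : k < 160534
  · exact chkList_get F R S st407 160278 st407_ok.1 k (by omega) (by rw [st407_ok.2]; omega)
  by_cases c408 : k < 160790
  · exact chkList_get F R S st408 160534 st408_ok.1 k (by omega) (by rw [st408_ok.2]; omega)
  by_cases c409 : k < 161046
  · exact chkList_get F R S st409 160790 st409_ok.1 k (by omega) (by rw [st409_ok.2]; omega)
  by_cases c410 : k < 161302
  · exact chkList_get F R S st410 161046 st410_ok.1 k (by omega) (by rw [st410_ok.2]; omega)
  by_cases c411 : k < 161558
  · exact chkList_get F R S st411 161302 st411_ok.1 k (by omega) (by rw [st411_ok.2]; omega)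
  by_cases c412 : k < 161814
  · exact chkList_get F R S st412 161558 st412_ok.1 k (by omega) (by rw [st412_ok.2]; omega)
  by_cases c413 : k < 162070
  · exact chkList_get F R S st413 161814 st413_ok.1 k (by omega) (by rw [st413_ok.2]; omega)
  by_cases c414 : k < 162326
  · exact chkList_get F R S st414 162070 st414_ok.1 k (by omega) (by rw [st414_ok.2]; omega)
  by_cases c415 : k < 162582
  · exact chkList_get F R S st415 162326 st415_ok.1 k (by omega) (by rw [st415_ok.2]; omega)
  by_cases c416 : k < 162838
  · exact chkList_get F R S st416 162582 st416_ok.1 k (by omega) (by rw [st416_ok.2]; omega)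
  by_cases c417 : k < 163094
  · exact chkList_get F R S st417 162838 st417_ok.1 k (by omega) (by rw [st417_ok.2]; omega)
  by_cases c418 : k < 163350
  · exact chkList_get F R S st418 163094 st418_ok.1 k (by omega) (by rw [st418_ok.2]; omega)
  by_cases c419 : k < 163606
  · exact chkList_get F R S st419 163350 st419_ok.1 k (by omega) (by rw [st419_ok.2]; omega)
  by_cases c420 : k < 163862
  · exact chkList_get F R S st420 163606 st420_ok.1 k (by omega) (by rw [st420_ok.2]; omega)
  by_cases c421 : k < 164118
  · exact chkList_get F R S st421 163862 st421_ok.1 k (by omega) (by rw [st421_ok.2]; omega)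
  by_cases c422 : k < 164374
  · exact chkList_get F R S st422 164118 st422_ok.1 k (by omega) (by rw [st422_ok.2]; omega)
  by_cases c423 : k < 164630
  · exact chkList_get F R S st423 164374 st423_ok.1 k (by omega) (by rw [st423_ok.2]; omega)
  by_cases c424 : k < 164886
  · exact chkList_get F R S st424 164630 st424_ok.1 k (by omega) (by rw [st424_ok.2]; omega)
  by_cases c425 : k < 165142
  · exact chkList_get F R S st425 164886 st425_ok.1 k (by omega) (by rw [st425_ok.2]; omega)
  by_cases c426 : k < 165398
  · exact chkList_get F R S st426 165142 st426_ok.1 k (by omega) (by rw [st426_ok.2]; omega)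
  by_cases c427 : k < 165654
  · exact chkList_get F R S st427 165398 st427_ok.1 k (by omega) (by rw [st427_ok.2]; omega)
  by_cases c428 : k < 165910
  · exact chkList_get F R S st428 165654 st428_ok.1 k (by omega) (by rw [st428_ok.2]; omega)
  by_cases c429 : k < 166166
  · exact chkList_get F R S st429 165910 st429_ok.1 k (by omega) (by rw [st429_ok.2]; omega)
  by_cases c430 : k < 166422
  · exact chkList_get F R S st430 166166 st430_ok.1 k (by omega) (by rw [st430_ok.2]; omega)
  by_cases c431 : k < 166678
  · exact chkList_get F R S st431 166422 st431_ok.1 k (by omega) (by rw [st431_ok.2]; omega)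
  by_cases c432 : k < 166934
  · exact chkList_get F R S st432 166678 st432_ok.1 k (by omega) (by rw [st432_ok.2]; omega)
  by_cases c433 : k < 167190
  · exact chkList_get F R S st433 166934 st433_ok.1 k (by omega) (by rw [st433_ok.2]; omega)
  by_cases c434 : k < 167446
  · exact chkList_get F R S st434 167190 st434_ok.1 k (by omega) (by rw [st434_ok.2]; omega)
  by_cases c435 : k < 167702
  · exact chkList_get F R S st435 167446 st435_ok.1 k (by omega) (by rw [st435_ok.2]; omega)
  by_cases c436 : k < 167958
  · exact chkList_get F R S st436 167702 st436_ok.1 k (by omega) (by rw [st436_ok.2]; omega)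
  by_cases c437 : k < 168214
  · exact chkList_get F R S st437 167958 st437_ok.1 k (by omega) (by rw [st437_ok.2]; omega)
  by_cases c438 : k < 168470
  · exact chkList_get F R S st438 168214 st438_ok.1 k (by omega) (by rw [st438_ok.2]; omega)
  by_cases c439 : k < 168726
  · exact chkList_get F R S st439 168470 st439_ok.1 k (by omega) (by rw [st439_ok.2]; omega)
  by_cases c440 : k < 168982
  · exact chkList_get F R S st440 168726 st440_ok.1 k (by omega) (by rw [st440_ok.2]; omega)
  by_cases c441 : k < 169238
  · exact chkList_get F R S st441 168982 st441_ok.1 k (by omega) (by rw [st441_ok.2]; omega)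
  by_cases c442 : k < 169494
  · exact chkList_get F R S st442 169238 st442_ok.1 k (by omega) (by rw [st442_ok.2]; omega)
  by_cases c443 : k < 169750
  · exact chkList_get F R S st443 169494 st443_ok.1 k (by omega) (by rw [st443_ok.2]; omega)
  by_cases c444 : k < 170006
  · exact chkList_get F R S st444 169750 st444_ok.1 k (by omega) (by rw [st444_ok.2]; omega)
  by_cases c445 : k < 170262
  · exact chkList_get F R S st445 170006 st445_ok.1 k (by omega) (by rw [st445_ok.2]; omega)
  by_cases c446 : k < 170518
  · exact chkList_get F R S st446 170262 st446_ok.1 k (by omega) (by rw [st446_ok.2]; omega)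
  by_cases c447 : k < 170774
  · exact chkList_get F R S st447 170518 st447_ok.1 k (by omega) (by rw [st447_ok.2]; omega)
  by_cases c448 : k < 171030
  · exact chkList_get F R S st448 170774 st448_ok.1 k (by omega) (by rw [st448_ok.2]; omega)
  by_cases c449 : k < 171286
  · exact chkList_get F R S st449 171030 st449_ok.1 k (by omega) (by rw [st449_ok.2]; omega)
  by_cases c450 : k < 171542
  · exact chkList_get F R S st450 171286 st450_ok.1 k (by omega) (by rw [st450_ok.2]; omega)
  by_cases c451 : k < 171798
  · exact chkList_get F R S st451 171542 st451_ok.1 k (by omega) (by rw [st451_ok.2]; omega)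
  by_cases c452 : k < 172054
  · exact chkList_get F R S st452 171798 st452_ok.1 k (by omega) (by rw [st452_ok.2]; omega)
  by_cases c453 : k < 172310
  · exact chkList_get F R S st453 172054 st453_ok.1 k (by omega) (by rw [st453_ok.2]; omega)
  by_cases c454 : k < 172566
  · exact chkList_get F R S st454 172310 st454_ok.1 k (by omega) (by rw [st454_ok.2]; omega)
  by_cases c455 : k < 172822
  · exact chkList_get F R S st455 172566 st455_ok.1 k (by omega) (by rw [st455_ok.2]; omega)
  by_cases c456 : k < 173078
  · exact chkList_get F R S st456 172822 st456_ok.1 k (by omega) (by rw [st456_ok.2]; omega)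
  by_cases c457 : k < 173334
  · exact chkList_get F R S st457 173078 st457_ok.1 k (by omega) (by rw [st457_ok.2]; omega)
  by_cases c458 : k < 173590
  · exact chkList_get F R S st458 173334 st458_ok.1 k (by omega) (by rw [st458_ok.2]; omega)
  by_cases c459 : k < 173846
  · exact chkList_get F R S st459 173590 st459_ok.1 k (by omega) (by rw [st459_ok.2]; omega)
  by_cases c460 : k < 174102
  · exact chkList_get F R S st460 173846 st460_ok.1 k (by omega) (by rw [st460_ok.2]; omega)
  by_cases c461 : k < 174358
  · exact chkList_get F R S st461 174102 st461_ok.1 k (by omega) (by rw [st461_ok.2]; omega)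
  by_cases c462 : k < 174614
  · exact chkList_get F R S st462 174358 st462_ok.1 k (by omega) (by rw [st462_ok.2]; omega)
  by_cases c463 : k < 174870
  · exact chkList_get F R S st463 174614 st463_ok.1 k (by omega) (by rw [st463_ok.2]; omega)
  by_cases c464 : k < 175126
  · exact chkList_get F R S st464 174870 st464_ok.1 k (by omega) (by rw [st464_ok.2]; omega)
  by_cases c465 : k < 175382
  · exact chkList_get F R S st465 175126 st465_ok.1 k (by omega) (by rw [st465_ok.2]; omega)
  by_cases c466 : k < 175638
  · exact chkList_get F R S st466 175382 st466_ok.1 k (by omega) (by rw [st466_ok.2]; omega)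
  by_cases c467 : k < 175894
  · exact chkList_get F R S st467 175638 st467_ok.1 k (by omega) (by rw [st467_ok.2]; omega)
  by_cases c468 : k < 176150
  · exact chkList_get F R S st468 175894 st468_ok.1 k (by omega) (by rw [st468_ok.2]; omega)
  by_cases c469 : k < 176406
  · exact chkList_get F R S st469 176150 st469_ok.1 k (by omega) (by rw [st469_ok.2]; omega)
  by_cases c470 : k < 176662
  · exact chkList_get F R S st470 176406 st470_ok.1 k (by omega) (by rw [st470_ok.2]; omega)
  by_cases c471 : k < 176918
  · exact chkList_get F R S st471 176662 st471_ok.1 k (by omega) (by rw [st471_ok.2]; omega)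
  by_cases c472 : k < 177174
  · exact chkList_get F R S st472 176918 st472_ok.1 k (by omega) (by rw [st472_ok.2]; omega)
  by_cases c473 : k < 177430
  · exact chkList_get F R S st473 177174 st473_ok.1 k (by omega) (by rw [st473_ok.2]; omega)
  by_cases c474 : k < 177686
  · exact chkList_get F R S st474 177430 st474_ok.1 k (by omega) (by rw [st474_ok.2]; omega)
  by_cases c475 : k < 177942
  · exact chkList_get F R S st475 177686 st475_ok.1 k (by omega) (by rw [st475_ok.2]; omega)
  by_cases c476 : k < 178198
  · exact chkList_get F R S st476 177942 st476_ok.1 k (by omega) (by rw [st476_ok.2]; omega)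
  by_cases c477 : k < 178454
  · exact chkList_get F R S st477 178198 st477_ok.1 k (by omega) (by rw [st477_ok.2]; omega)
  by_cases c478 : k < 178710
  · exact chkList_get F R S st478 178454 st478_ok.1 k (by omega) (by rw [st478_ok.2]; omega)
  by_cases c479 : k < 178966
  · exact chkList_get F R S st479 178710 st479_ok.1 k (by omega) (by rw [st479_ok.2]; omega)
  by_cases c480 : k < 179222
  · exact chkList_get F R S st480 178966 st480_ok.1 k (by omega) (by rw [st480_ok.2]; omega)
  by_cases c481 : k < 179478
  · exact chkList_get F R S st481 179222 st481_ok.1 k (by omega) (by rw [st481_ok.2]; omega)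
  by_cases c482 : k < 179734
  · exact chkList_get F R S st482 179478 st482_ok.1 k (by omega) (by rw [st482_ok.2]; omega)
  by_cases c483 : k < 179990
  · exact chkList_get F R S st483 179734 st483_ok.1 k (by omega) (by rw [st483_ok.2]; omega)
  by_cases c484 : k < 180246
  · exact chkList_get F R S st484 179990 st484_ok.1 k (by omega) (by rw [st484_ok.2]; omega)
  by_cases c485 : k < 180502
  · exact chkList_get F R S st485 180246 st485_ok.1 k (by omega) (by rw [st485_ok.2]; omega)
  by_cases c486 : k < 180758
  · exact chkList_get F R S st486 180502 st486_ok.1 k (by omega) (by rw [st486_ok.2]; omega)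
  by_cases c487 : k < 181014
  · exact chkList_get F R S st487 180758 st487_ok.1 k (by omega) (by rw [st487_ok.2]; omega)
  by_cases c488 : k < 181270
  · exact chkList_get F R S st488 181014 st488_ok.1 k (by omega) (by rw [st488_ok.2]; omega)
  by_cases c489 : k < 181526
  · exact chkList_get F R S st489 181270 st489_ok.1 k (by omega) (by rw [st489_ok.2]; omega)
  by_cases c490 : k < 181782
  · exact chkList_get F R S st490 181526 st490_ok.1 k (by omega) (by rw [st490_ok.2]; omega)
  by_cases c491 : k < 182038
  · exact chkList_get F R S st491 181782 st491_ok.1 k (by omega) (by rw [st491_ok.2]; omega)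
  by_cases c492 : k < 182294
  · exact chkList_get F R S st492 182038 st492_ok.1 k (by omega) (by rw [st492_ok.2]; omega)
  by_cases c493 : k < 182550
  · exact chkList_get F R S st493 182294 st493_ok.1 k (by omega) (by rw [st493_ok.2]; omega)
  by_cases c494 : k < 182806
  · exact chkList_get F R S st494 182550 st494_ok.1 k (by omega) (by rw [st494_ok.2]; omega)
  by_cases c495 : k < 183062
  · exact chkList_get F R S st495 182806 st495_ok.1 k (by omega) (by rw [st495_ok.2]; omega)
  by_cases c496 : k < 183318
  · exact chkList_get F R S st496 183062 st496_ok.1 k (by omega) (by rw [st496_ok.2]; omega)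
  by_cases c497 : k < 183574
  · exact chkList_get F R S st497 183318 st497_ok.1 k (by omega) (by rw [st497_ok.2]; omega)
  by_cases c498 : k < 183830
  · exact chkList_get F R S st498 183574 st498_ok.1 k (by omega) (by rw [st498_ok.2]; omega)
  by_cases c499 : k < 184086
  · exact chkList_get F R S st499 183830 st499_ok.1 k (by omega) (by rw [st499_ok.2]; omega)
  by_cases c500 : k < 184342
  · exact chkList_get F R S st500 184086 st500_ok.1 k (by omega) (by rw [st500_ok.2]; omega)
  by_cases c501 : k < 184598
  · exact chkList_get F R S st501 184342 st501_ok.1 k (by omega) (by rw [st501_ok.2]; omega)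
  by_cases c502 : k < 184854
  · exact chkList_get F R S st502 184598 st502_ok.1 k (by omega) (by rw [st502_ok.2]; omega)
  by_cases c503 : k < 185110
  · exact chkList_get F R S st503 184854 st503_ok.1 k (by omega) (by rw [st503_ok.2]; omega)
  by_cases c504 : k < 185366
  · exact chkList_get F R S st504 185110 st504_ok.1 k (by omega) (by rw [st504_ok.2]; omega)
  by_cases c505 : k < 185622
  · exact chkList_get F R S st505 185366 st505_ok.1 k (by omega) (by rw [st505_ok.2]; omega)
  by_cases c506 : k < 185878
  · exact chkList_get F R S st506 185622 st506_ok.1 k (by omega) (by rw [st506_ok.2]; omega)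
  by_cases c507 : k < 186134
  · exact chkList_get F R S st507 185878 st507_ok.1 k (by omega) (by rw [st507_ok.2]; omega)
  by_cases c508 : k < 186390
  · exact chkList_get F R S st508 186134 st508_ok.1 k (by omega) (by rw [st508_ok.2]; omega)
  by_cases c509 : k < 186646
  · exact chkList_get F R S st509 186390 st509_ok.1 k (by omega) (by rw [st509_ok.2]; omega)
  by_cases c510 : k < 186902
  · exact chkList_get F R S st510 186646 st510_ok.1 k (by omega) (by rw [st510_ok.2]; omega)
  by_cases c511 : k < 187158
  · exact chkList_get F R S st511 186902 st511_ok.1 k (by omega) (by rw [st511_ok.2]; omega)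
  by_cases c512 : k < 187414
  · exact chkList_get F R S st512 187158 st512_ok.1 k (by omega) (by rw [st512_ok.2]; omega)
  by_cases c513 : k < 187670
  · exact chkList_get F R S st513 187414 st513_ok.1 k (by omega) (by rw [st513_ok.2]; omega)
  by_cases c514 : k < 187926
  · exact chkList_get F R S st514 187670 st514_ok.1 k (by omega) (by rw [st514_ok.2]; omega)
  by_cases c515 : k < 188182
  · exact chkList_get F R S st515 187926 st515_ok.1 k (by omega) (by rw [st515_ok.2]; omega)
  by_cases c516 : k < 188438
  · exact chkList_get F R S st516 188182 st516_ok.1 k (by omega) (by rw [st516_ok.2]; omega)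
  by_cases c517 : k < 188694
  · exact chkList_get F R S st517 188438 st517_ok.1 k (by omega) (by rw [st517_ok.2]; omega)
  by_cases c518 : k < 188950
  · exact chkList_get F R S st518 188694 st518_ok.1 k (by omega) (by rw [st518_ok.2]; omega)
  by_cases c519 : k < 189206
  · exact chkList_get F R S st519 188950 st519_ok.1 k (by omega) (by rw [st519_ok.2]; omega)
  by_cases c520 : k < 189462
  · exact chkList_get F R S st520 189206 st520_ok.1 k (by omega) (by rw [st520_ok.2]; omega)
  by_cases c521 : k < 189718
  · exact chkList_get F R S st521 189462 st521_ok.1 k (by omega) (by rw [st521_ok.2]; omega)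
  by_cases c522 : k < 189974
  · exact chkList_get F R S st522 189718 st522_ok.1 k (by omega) (by rw [st522_ok.2]; omega)
  by_cases c523 : k < 190230
  · exact chkList_get F R S st523 189974 st523_ok.1 k (by omega) (by rw [st523_ok.2]; omega)
  by_cases c524 : k < 190486
  · exact chkList_get F R S st524 190230 st524_ok.1 k (by omega) (by rw [st524_ok.2]; omega)
  by_cases c525 : k < 190742
  · exact chkList_get F R S st525 190486 st525_ok.1 k (by omega) (by rw [st525_ok.2]; omega)
  by_cases c526 : k < 190998
  · exact chkList_get F R S st526 190742 st526_ok.1 k (by omega) (by rw [st526_ok.2]; omega)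
  by_cases c527 : k < 191254
  · exact chkList_get F R S st527 190998 st527_ok.1 k (by omega) (by rw [st527_ok.2]; omega)
  by_cases c528 : k < 191510
  · exact chkList_get F R S st528 191254 st528_ok.1 k (by omega) (by rw [st528_ok.2]; omega)
  by_cases c529 : k < 191766
  · exact chkList_get F R S st529 191510 st529_ok.1 k (by omega) (by rw [st529_ok.2]; omega)
  by_cases c530 : k < 192022
  · exact chkList_get F R S st530 191766 st530_ok.1 k (by omega) (by rw [st530_ok.2]; omega)
  by_cases c531 : k < 192278
  · exact chkList_get F R S st531 192022 st531_ok.1 k (by omega) (by rw [st531_ok.2]; omega)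
  by_cases c532 : k < 192534
  · exact chkList_get F R S st532 192278 st532_ok.1 k (by omega) (by rw [st532_ok.2]; omega)
  by_cases c533 : k < 192790
  · exact chkList_get F R S st533 192534 st533_ok.1 k (by omega) (by rw [st533_ok.2]; omega)
  by_cases c534 : k < 193046
  · exact chkList_get F R S st534 192790 st534_ok.1 k (by omega) (by rw [st534_ok.2]; omega)
  by_cases c535 : k < 193302
  · exact chkList_get F R S st535 193046 st535_ok.1 k (by omega) (by rw [st535_ok.2]; omega)
  by_cases c536 : k < 193558
  · exact chkList_get F R S st536 193302 st536_ok.1 k (by omega) (by rw [st536_ok.2]; omega)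
  by_cases c537 : k < 193814
  · exact chkList_get F R S st537 193558 st537_ok.1 k (by omega) (by rw [st537_ok.2]; omega)
  by_cases c538 : k < 194070
  · exact chkList_get F R S st538 193814 st538_ok.1 k (by omega) (by rw [st538_ok.2]; omega)
  by_cases c539 : k < 194326
  · exact chkList_get F R S st539 194070 st539_ok.1 k (by omega) (by rw [st539_ok.2]; omega)
  by_cases c540 : k < 194582
  · exact chkList_get F R S st540 194326 st540_ok.1 k (by omega) (by rw [st540_ok.2]; omega)
  by_cases c541 : k < 194838
  · exact chkList_get F R S st541 194582 st541_ok.1 k (by omega) (by rw [st541_ok.2]; omega)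
  by_cases c542 : k < 195094
  · exact chkList_get F R S st542 194838 st542_ok.1 k (by omega) (by rw [st542_ok.2]; omega)
  by_cases c543 : k < 195350
  · exact chkList_get F R S st543 195094 st543_ok.1 k (by omega) (by rw [st543_ok.2]; omega)
  by_cases c544 : k < 195606
  · exact chkList_get F R S st544 195350 st544_ok.1 k (by omega) (by rw [st544_ok.2]; omega)
  by_cases c545 : k < 195862
  · exact chkList_get F R S st545 195606 st545_ok.1 k (by omega) (by rw [st545_ok.2]; omega)
  by_cases c546 : k < 196118
  · exact chkList_get F R S st546 195862 st546_ok.1 k (by omega) (by rw [st546_ok.2]; omega)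
  by_cases c547 : k < 196374
  · exact chkList_get F R S st547 196118 st547_ok.1 k (by omega) (by rw [st547_ok.2]; omega)
  by_cases c548 : k < 196630
  · exact chkList_get F R S st548 196374 st548_ok.1 k (by omega) (by rw [st548_ok.2]; omega)
  by_cases c549 : k < 196886
  · exact chkList_get F R S st549 196630 st549_ok.1 k (by omega) (by rw [st549_ok.2]; omega)
  by_cases c550 : k < 197142
  · exact chkList_get F R S st550 196886 st550_ok.1 k (by omega) (by rw [st550_ok.2]; omega)
  by_cases c551 : k < 197398
  · exact chkList_get F R S st551 197142 st551_ok.1 k (by omega) (by rw [st551_ok.2]; omega)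
  by_cases c552 : k < 197654
  · exact chkList_get F R S st552 197398 st552_ok.1 k (by omega) (by rw [st552_ok.2]; omega)
  by_cases c553 : k < 197910
  · exact chkList_get F R S st553 197654 st553_ok.1 k (by omega) (by rw [st553_ok.2]; omega)
  by_cases c554 : k < 198166
  · exact chkList_get F R S st554 197910 st554_ok.1 k (by omega) (by rw [st554_ok.2]; omega)
  by_cases c555 : k < 198422
  · exact chkList_get F R S st555 198166 st555_ok.1 k (by omega) (by rw [st555_ok.2]; omega)
  by_cases c556 : k < 198678
  · exact chkList_get F R S st556 198422 st556_ok.1 k (by omega) (by rw [st556_ok.2]; omega)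
  by_cases c557 : k < 198934
  · exact chkList_get F R S st557 198678 st557_ok.1 k (by omega) (by rw [st557_ok.2]; omega)
  by_cases c558 : k < 199190
  · exact chkList_get F R S st558 198934 st558_ok.1 k (by omega) (by rw [st558_ok.2]; omega)
  by_cases c559 : k < 199446
  · exact chkList_get F R S st559 199190 st559_ok.1 k (by omega) (by rw [st559_ok.2]; omega)
  by_cases c560 : k < 199702
  · exact chkList_get F R S st560 199446 st560_ok.1 k (by omega) (by rw [st560_ok.2]; omega)
  by_cases c561 : k < 199958
  · exact chkList_get F R S st561 199702 st561_ok.1 k (by omega) (by rw [st561_ok.2]; omega)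
  by_cases c562 : k < 200214
  · exact chkList_get F R S st562 199958 st562_ok.1 k (by omega) (by rw [st562_ok.2]; omega)
  by_cases c563 : k < 200470
  · exact chkList_get F R S st563 200214 st563_ok.1 k (by omega) (by rw [st563_ok.2]; omega)
  by_cases c564 : k < 200726
  · exact chkList_get F R S st564 200470 st564_ok.1 k (by omega) (by rw [st564_ok.2]; omega)
  by_cases c565 : k < 200982
  · exact chkList_get F R S st565 200726 st565_ok.1 k (by omega) (by rw [st565_ok.2]; omega)
  by_cases c566 : k < 201238
  · exact chkList_get F R S st566 200982 st566_ok.1 k (by omega) (by rw [st566_ok.2]; omega)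
  by_cases c567 : k < 201494
  · exact chkList_get F R S st567 201238 st567_ok.1 k (by omega) (by rw [st567_ok.2]; omega)
  by_cases c568 : k < 201750
  · exact chkList_get F R S st568 201494 st568_ok.1 k (by omega) (by rw [st568_ok.2]; omega)
  by_cases c569 : k < 202006
  · exact chkList_get F R S st569 201750 st569_ok.1 k (by omega) (by rw [st569_ok.2]; omega)
  by_cases c570 : k < 202262
  · exact chkList_get F R S st570 202006 st570_ok.1 k (by omega) (by rw [st570_ok.2]; omega)
  by_cases c571 : k < 202518
  · exact chkList_get F R S st571 202262 st571_ok.1 k (by omega) (by rw [st571_ok.2]; omega)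
  by_cases c572 : k < 202774
  · exact chkList_get F R S st572 202518 st572_ok.1 k (by omega) (by rw [st572_ok.2]; omega)
  by_cases c573 : k < 203030
  · exact chkList_get F R S st573 202774 st573_ok.1 k (by omega) (by rw [st573_ok.2]; omega)
  by_cases c574 : k < 203286
  · exact chkList_get F R S st574 203030 st574_ok.1 k (by omega) (by rw [st574_ok.2]; omega)
  by_cases c575 : k < 203542
  · exact chkList_get F R S st575 203286 st575_ok.1 k (by omega) (by rw [st575_ok.2]; omega)
  by_cases c576 : k < 203798
  · exact chkList_get F R S st576 203542 st576_ok.1 k (by omega) (by rw [st576_ok.2]; omega)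
  by_cases c577 : k < 204054
  · exact chkList_get F R S st577 203798 st577_ok.1 k (by omega) (by rw [st577_ok.2]; omega)
  by_cases c578 : k < 204310
  · exact chkList_get F R S st578 204054 st578_ok.1 k (by omega) (by rw [st578_ok.2]; omega)
  by_cases c579 : k < 204566
  · exact chkList_get F R S st579 204310 st579_ok.1 k (by omega) (by rw [st579_ok.2]; omega)
  by_cases c580 : k < 204822
  · exact chkList_get F R S st580 204566 st580_ok.1 k (by omega) (by rw [st580_ok.2]; omega)
  by_cases c581 : k < 205078
  · exact chkList_get F R S st581 204822 st581_ok.1 k (by omega) (by rw [st581_ok.2]; omega)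
  by_cases c582 : k < 205334
  · exact chkList_get F R S st582 205078 st582_ok.1 k (by omega) (by rw [st582_ok.2]; omega)
  by_cases c583 : k < 205590
  · exact chkList_get F R S st583 205334 st583_ok.1 k (by omega) (by rw [st583_ok.2]; omega)
  by_cases c584 : k < 205846
  · exact chkList_get F R S st584 205590 st584_ok.1 k (by omega) (by rw [st584_ok.2]; omega)
  by_cases c585 : k < 206102
  · exact chkList_get F R S st585 205846 st585_ok.1 k (by omega) (by rw [st585_ok.2]; omega)
  by_cases c586 : k < 206358
  · exact chkList_get F R S st586 206102 st586_ok.1 k (by omega) (by rw [st586_ok.2]; omega)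
  by_cases c587 : k < 206614
  · exact chkList_get F R S st587 206358 st587_ok.1 k (by omega) (by rw [st587_ok.2]; omega)
  by_cases c588 : k < 206870
  · exact chkList_get F R S st588 206614 st588_ok.1 k (by omega) (by rw [st588_ok.2]; omega)
  by_cases c589 : k < 207126
  · exact chkList_get F R S st589 206870 st589_ok.1 k (by omega) (by rw [st589_ok.2]; omega)
  by_cases c590 : k < 207382
  · exact chkList_get F R S st590 207126 st590_ok.1 k (by omega) (by rw [st590_ok.2]; omega)
  by_cases c591 : k < 207638
  · exact chkList_get F R S st591 207382 st591_ok.1 k (by omega) (by rw [st591_ok.2]; omega)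
  by_cases c592 : k < 207894
  · exact chkList_get F R S st592 207638 st592_ok.1 k (by omega) (by rw [st592_ok.2]; omega)
  by_cases c593 : k < 208150
  · exact chkList_get F R S st593 207894 st593_ok.1 k (by omega) (by rw [st593_ok.2]; omega)
  by_cases c594 : k < 208406
  · exact chkList_get F R S st594 208150 st594_ok.1 k (by omega) (by rw [st594_ok.2]; omega)
  by_cases c595 : k < 208662
  · exact chkList_get F R S st595 208406 st595_ok.1 k (by omega) (by rw [st595_ok.2]; omega)
  by_cases c596 : k < 208918
  · exact chkList_get F R S st596 208662 st596_ok.1 k (by omega) (by rw [st596_ok.2]; omega)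
  by_cases c597 : k < 209174
  · exact chkList_get F R S st597 208918 st597_ok.1 k (by omega) (by rw [st597_ok.2]; omega)
  by_cases c598 : k < 209430
  · exact chkList_get F R S st598 209174 st598_ok.1 k (by omega) (by rw [st598_ok.2]; omega)
  by_cases c599 : k < 209686
  · exact chkList_get F R S st599 209430 st599_ok.1 k (by omega) (by rw [st599_ok.2]; omega)
  by_cases c600 : k < 209942
  · exact chkList_get F R S st600 209686 st600_ok.1 k (by omega) (by rw [st600_ok.2]; omega)
  by_cases c601 : k < 210198
  · exact chkList_get F R S st601 209942 st601_ok.1 k (by omega) (by rw [st601_ok.2]; omega)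
  by_cases c602 : k < 210454
  · exact chkList_get F R S st602 210198 st602_ok.1 k (by omega) (by rw [st602_ok.2]; omega)
  by_cases c603 : k < 210710
  · exact chkList_get F R S st603 210454 st603_ok.1 k (by omega) (by rw [st603_ok.2]; omega)
  by_cases c604 : k < 210966
  · exact chkList_get F R S st604 210710 st604_ok.1 k (by omega) (by rw [st604_ok.2]; omega)
  by_cases c605 : k < 211222
  · exact chkList_get F R S st605 210966 st605_ok.1 k (by omega) (by rw [st605_ok.2]; omega)
  by_cases c606 : k < 211478
  · exact chkList_get F R S st606 211222 st606_ok.1 k (by omega) (by rw [st606_ok.2]; omega)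
  by_cases c607 : k < 211734
  · exact chkList_get F R S st607 211478 st607_ok.1 k (by omega) (by rw [st607_ok.2]; omega)
  by_cases c608 : k < 211990
  · exact chkList_get F R S st608 211734 st608_ok.1 k (by omega) (by rw [st608_ok.2]; omega)
  by_cases c609 : k < 212246
  · exact chkList_get F R S st609 211990 st609_ok.1 k (by omega) (by rw [st609_ok.2]; omega)
  by_cases c610 : k < 212502
  · exact chkList_get F R S st610 212246 st610_ok.1 k (by omega) (by rw [st610_ok.2]; omega)
  by_cases c611 : k < 212758
  · exact chkList_get F R S st611 212502 st611_ok.1 k (by omega) (by rw [st611_ok.2]; omega)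
  by_cases c612 : k < 213014
  · exact chkList_get F R S st612 212758 st612_ok.1 k (by omega) (by rw [st612_ok.2]; omega)
  by_cases c613 : k < 213270
  · exact chkList_get F R S st613 213014 st613_ok.1 k (by omega) (by rw [st613_ok.2]; omega)
  by_cases c614 : k < 213526
  · exact chkList_get F R S st614 213270 st614_ok.1 k (by omega) (by rw [st614_ok.2]; omega)
  by_cases c615 : k < 213782
  · exact chkList_get F R S st615 213526 st615_ok.1 k (by omega) (by rw [st615_ok.2]; omega)
  by_cases c616 : k < 214038
  · exact chkList_get F R S st616 213782 st616_ok.1 k (by omega) (by rw [st616_ok.2]; omega)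
  by_cases c617 : k < 214294
  · exact chkList_get F R S st617 214038 st617_ok.1 k (by omega) (by rw [st617_ok.2]; omega)
  by_cases c618 : k < 214550
  · exact chkList_get F R S st618 214294 st618_ok.1 k (by omega) (by rw [st618_ok.2]; omega)
  by_cases c619 : k < 214806
  · exact chkList_get F R S st619 214550 st619_ok.1 k (by omega) (by rw [st619_ok.2]; omega)
  by_cases c620 : k < 215062
  · exact chkList_get F R S st620 214806 st620_ok.1 k (by omega) (by rw [st620_ok.2]; omega)
  by_cases c621 : k < 215318
  · exact chkList_get F R S st621 215062 st621_ok.1 k (by omega) (by rw [st621_ok.2]; omega)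
  by_cases c622 : k < 215574
  · exact chkList_get F R S st622 215318 st622_ok.1 k (by omega) (by rw [st622_ok.2]; omega)
  by_cases c623 : k < 215830
  · exact chkList_get F R S st623 215574 st623_ok.1 k (by omega) (by rw [st623_ok.2]; omega)
  by_cases c624 : k < 216086
  · exact chkList_get F R S st624 215830 st624_ok.1 k (by omega) (by rw [st624_ok.2]; omega)
  by_cases c625 : k < 216342
  · exact chkList_get F R S st625 216086 st625_ok.1 k (by omega) (by rw [st625_ok.2]; omega)
  by_cases c626 : k < 216598
  · exact chkList_get F R S st626 216342 st626_ok.1 k (by omega) (by rw [st626_ok.2]; omega)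
  by_cases c627 : k < 216854
  · exact chkList_get F R S st627 216598 st627_ok.1 k (by omega) (by rw [st627_ok.2]; omega)
  by_cases c628 : k < 217110
  · exact chkList_get F R S st628 216854 st628_ok.1 k (by omega) (by rw [st628_ok.2]; omega)
  by_cases c629 : k < 217366
  · exact chkList_get F R S st629 217110 st629_ok.1 k (by omega) (by rw [st629_ok.2]; omega)
  by_cases c630 : k < 217622
  · exact chkList_get F R S st630 217366 st630_ok.1 k (by omega) (by rw [st630_ok.2]; omega)
  by_cases c631 : k < 217878
  · exact chkList_get F R S st631 217622 st631_ok.1 k (by omega) (by rw [st631_ok.2]; omega)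
  by_cases c632 : k < 218134
  · exact chkList_get F R S st632 217878 st632_ok.1 k (by omega) (by rw [st632_ok.2]; omega)
  by_cases c633 : k < 218390
  · exact chkList_get F R S st633 218134 st633_ok.1 k (by omega) (by rw [st633_ok.2]; omega)
  by_cases c634 : k < 218646
  · exact chkList_get F R S st634 218390 st634_ok.1 k (by omega) (by rw [st634_ok.2]; omega)
  by_cases c635 : k < 218902
  · exact chkList_get F R S st635 218646 st635_ok.1 k (by omega) (by rw [st635_ok.2]; omega)
  by_cases c636 : k < 219158
  · exact chkList_get F R S st636 218902 st636_ok.1 k (by omega) (by rw [st636_ok.2]; omega)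
  by_cases c637 : k < 219414
  · exact chkList_get F R S st637 219158 st637_ok.1 k (by omega) (by rw [st637_ok.2]; omega)
  by_cases c638 : k < 219670
  · exact chkList_get F R S st638 219414 st638_ok.1 k (by omega) (by rw [st638_ok.2]; omega)
  by_cases c639 : k < 219926
  · exact chkList_get F R S st639 219670 st639_ok.1 k (by omega) (by rw [st639_ok.2]; omega)
  by_cases c640 : k < 220182
  · exact chkList_get F R S st640 219926 st640_ok.1 k (by omega) (by rw [st640_ok.2]; omega)
  by_cases c641 : k < 220438
  · exact chkList_get F R S st641 220182 st641_ok.1 k (by omega) (by rw [st641_ok.2]; omega)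
  by_cases c642 : k < 220694
  · exact chkList_get F R S st642 220438 st642_ok.1 k (by omega) (by rw [st642_ok.2]; omega)
  by_cases c643 : k < 220950
  · exact chkList_get F R S st643 220694 st643_ok.1 k (by omega) (by rw [st643_ok.2]; omega)
  by_cases c644 : k < 221206
  · exact chkList_get F R S st644 220950 st644_ok.1 k (by omega) (by rw [st644_ok.2]; omega)
  by_cases c645 : k < 221462
  · exact chkList_get F R S st645 221206 st645_ok.1 k (by omega) (by rw [st645_ok.2]; omega)
  by_cases c646 : k < 221718
  · exact chkList_get F R S st646 221462 st646_ok.1 k (by omega) (by rw [st646_ok.2]; omega)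
  by_cases c647 : k < 221974
  · exact chkList_get F R S st647 221718 st647_ok.1 k (by omega) (by rw [st647_ok.2]; omega)
  by_cases c648 : k < 222230
  · exact chkList_get F R S st648 221974 st648_ok.1 k (by omega) (by rw [st648_ok.2]; omega)
  by_cases c649 : k < 222486
  · exact chkList_get F R S st649 222230 st649_ok.1 k (by omega) (by rw [st649_ok.2]; omega)
  by_cases c650 : k < 222742
  · exact chkList_get F R S st650 222486 st650_ok.1 k (by omega) (by rw [st650_ok.2]; omega)
  by_cases c651 : k < 222998
  · exact chkList_get F R S st651 222742 st651_ok.1 k (by omega) (by rw [st651_ok.2]; omega)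
  by_cases c652 : k < 223254
  · exact chkList_get F R S st652 222998 st652_ok.1 k (by omega) (by rw [st652_ok.2]; omega)
  by_cases c653 : k < 223510
  · exact chkList_get F R S st653 223254 st653_ok.1 k (by omega) (by rw [st653_ok.2]; omega)
  by_cases c654 : k < 223766
  · exact chkList_get F R S st654 223510 st654_ok.1 k (by omega) (by rw [st654_ok.2]; omega)
  by_cases c655 : k < 224022
  · exact chkList_get F R S st655 223766 st655_ok.1 k (by omega) (by rw [st655_ok.2]; omega)
  by_cases c656 : k < 224278
  · exact chkList_get F R S st656 224022 st656_ok.1 k (by omega) (by rw [st656_ok.2]; omega)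
  by_cases c657 : k < 224534
  · exact chkList_get F R S st657 224278 st657_ok.1 k (by omega) (by rw [st657_ok.2]; omega)
  by_cases c658 : k < 224790
  · exact chkList_get F R S st658 224534 st658_ok.1 k (by omega) (by rw [st658_ok.2]; omega)
  by_cases c659 : k < 225046
  · exact chkList_get F R S st659 224790 st659_ok.1 k (by omega) (by rw [st659_ok.2]; omega)
  by_cases c660 : k < 225302
  · exact chkList_get F R S st660 225046 st660_ok.1 k (by omega) (by rw [st660_ok.2]; omega)
  by_cases c661 : k < 225558
  · exact chkList_get F R S st661 225302 st661_ok.1 k (by omega) (by rw [st661_ok.2]; omega)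
  by_cases c662 : k < 225814
  · exact chkList_get F R S st662 225558 st662_ok.1 k (by omega) (by rw [st662_ok.2]; omega)
  by_cases c663 : k < 226070
  · exact chkList_get F R S st663 225814 st663_ok.1 k (by omega) (by rw [st663_ok.2]; omega)
  by_cases c664 : k < 226326
  · exact chkList_get F R S st664 226070 st664_ok.1 k (by omega) (by rw [st664_ok.2]; omega)
  by_cases c665 : k < 226582
  · exact chkList_get F R S st665 226326 st665_ok.1 k (by omega) (by rw [st665_ok.2]; omega)
  by_cases c666 : k < 226838
  · exact chkList_get F R S st666 226582 st666_ok.1 k (by omega) (by rw [st666_ok.2]; omega)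
  by_cases c667 : k < 227094
  · exact chkList_get F R S st667 226838 st667_ok.1 k (by omega) (by rw [st667_ok.2]; omega)
  by_cases c668 : k < 227350
  · exact chkList_get F R S st668 227094 st668_ok.1 k (by omega) (by rw [st668_ok.2]; omega)
  by_cases c669 : k < 227606
  · exact chkList_get F R S st669 227350 st669_ok.1 k (by omega) (by rw [st669_ok.2]; omega)
  by_cases c670 : k < 227862
  · exact chkList_get F R S st670 227606 st670_ok.1 k (by omega) (by rw [st670_ok.2]; omega)
  by_cases c671 : k < 228118
  · exact chkList_get F R S st671 227862 st671_ok.1 k (by omega) (by rw [st671_ok.2]; omega)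
  by_cases c672 : k < 228374
  · exact chkList_get F R S st672 228118 st672_ok.1 k (by omega) (by rw [st672_ok.2]; omega)
  by_cases c673 : k < 228630
  · exact chkList_get F R S st673 228374 st673_ok.1 k (by omega) (by rw [st673_ok.2]; omega)
  by_cases c674 : k < 228886
  · exact chkList_get F R S st674 228630 st674_ok.1 k (by omega) (by rw [st674_ok.2]; omega)
  by_cases c675 : k < 229142
  · exact chkList_get F R S st675 228886 st675_ok.1 k (by omega) (by rw [st675_ok.2]; omega)
  by_cases c676 : k < 229398
  · exact chkList_get F R S st676 229142 st676_ok.1 k (by omega) (by rw [st676_ok.2]; omega)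
  by_cases c677 : k < 229654
  · exact chkList_get F R S st677 229398 st677_ok.1 k (by omega) (by rw [st677_ok.2]; omega)
  by_cases c678 : k < 229910
  · exact chkList_get F R S st678 229654 st678_ok.1 k (by omega) (by rw [st678_ok.2]; omega)
  by_cases c679 : k < 230166
  · exact chkList_get F R S st679 229910 st679_ok.1 k (by omega) (by rw [st679_ok.2]; omega)
  by_cases c680 : k < 230422
  · exact chkList_get F R S st680 230166 st680_ok.1 k (by omega) (by rw [st680_ok.2]; omega)
  by_cases c681 : k < 230678
  · exact chkList_get F R S st681 230422 st681_ok.1 k (by omega) (by rw [st681_ok.2]; omega)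
  by_cases c682 : k < 230934
  · exact chkList_get F R S st682 230678 st682_ok.1 k (by omega) (by rw [st682_ok.2]; omega)
  by_cases c683 : k < 231190
  · exact chkList_get F R S st683 230934 st683_ok.1 k (by omega) (by rw [st683_ok.2]; omega)
  by_cases c684 : k < 231446
  · exact chkList_get F R S st684 231190 st684_ok.1 k (by omega) (by rw [st684_ok.2]; omega)
  by_cases c685 : k < 231702
  · exact chkList_get F R S st685 231446 st685_ok.1 k (by omega) (by rw [st685_ok.2]; omega)
  by_cases c686 : k < 231958
  · exact chkList_get F R S st686 231702 st686_ok.1 k (by omega) (by rw [st686_ok.2]; omega)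
  by_cases c687 : k < 232214
  · exact chkList_get F R S st687 231958 st687_ok.1 k (by omega) (by rw [st687_ok.2]; omega)
  by_cases c688 : k < 232470
  · exact chkList_get F R S st688 232214 st688_ok.1 k (by omega) (by rw [st688_ok.2]; omega)
  by_cases c689 : k < 232726
  · exact chkList_get F R S st689 232470 st689_ok.1 k (by omega) (by rw [st689_ok.2]; omega)
  by_cases c690 : k < 232982
  · exact chkList_get F R S st690 232726 st690_ok.1 k (by omega) (by rw [st690_ok.2]; omega)
  by_cases c691 : k < 233238
  · exact chkList_get F R S st691 232982 st691_ok.1 k (by omega) (by rw [st691_ok.2]; omega)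
  by_cases c692 : k < 233494
  · exact chkList_get F R S st692 233238 st692_ok.1 k (by omega) (by rw [st692_ok.2]; omega)
  by_cases c693 : k < 233750
  · exact chkList_get F R S st693 233494 st693_ok.1 k (by omega) (by rw [st693_ok.2]; omega)
  by_cases c694 : k < 234006
  · exact chkList_get F R S st694 233750 st694_ok.1 k (by omega) (by rw [st694_ok.2]; omega)
  by_cases c695 : k < 234262
  · exact chkList_get F R S st695 234006 st695_ok.1 k (by omega) (by rw [st695_ok.2]; omega)
  by_cases c696 : k < 234518
  · exact chkList_get F R S st696 234262 st696_ok.1 k (by omega) (by rw [st696_ok.2]; omega)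
  by_cases c697 : k < 234774
  · exact chkList_get F R S st697 234518 st697_ok.1 k (by omega) (by rw [st697_ok.2]; omega)
  by_cases c698 : k < 235030
  · exact chkList_get F R S st698 234774 st698_ok.1 k (by omega) (by rw [st698_ok.2]; omega)
  by_cases c699 : k < 235286
  · exact chkList_get F R S st699 235030 st699_ok.1 k (by omega) (by rw [st699_ok.2]; omega)
  by_cases c700 : k < 235542
  · exact chkList_get F R S st700 235286 st700_ok.1 k (by omega) (by rw [st700_ok.2]; omega)
  by_cases c701 : k < 235798
  · exact chkList_get F R S st701 235542 st701_ok.1 k (by omega) (by rw [st701_ok.2]; omega)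
  by_cases c702 : k < 236054
  · exact chkList_get F R S st702 235798 st702_ok.1 k (by omega) (by rw [st702_ok.2]; omega)
  by_cases c703 : k < 236310
  · exact chkList_get F R S st703 236054 st703_ok.1 k (by omega) (by rw [st703_ok.2]; omega)
  by_cases c704 : k < 236566
  · exact chkList_get F R S st704 236310 st704_ok.1 k (by omega) (by rw [st704_ok.2]; omega)
  by_cases c705 : k < 236822
  · exact chkList_get F R S st705 236566 st705_ok.1 k (by omega) (by rw [st705_ok.2]; omega)
  by_cases c706 : k < 237078
  · exact chkList_get F R S st706 236822 st706_ok.1 k (by omega) (by rw [st706_ok.2]; omega)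
  by_cases c707 : k < 237334
  · exact chkList_get F R S st707 237078 st707_ok.1 k (by omega) (by rw [st707_ok.2]; omega)
  by_cases c708 : k < 237590
  · exact chkList_get F R S st708 237334 st708_ok.1 k (by omega) (by rw [st708_ok.2]; omega)
  by_cases c709 : k < 237846
  · exact chkList_get F R S st709 237590 st709_ok.1 k (by omega) (by rw [st709_ok.2]; omega)
  by_cases c710 : k < 238102
  · exact chkList_get F R S st710 237846 st710_ok.1 k (by omega) (by rw [st710_ok.2]; omega)
  by_cases c711 : k < 238358
  · exact chkList_get F R S st711 238102 st711_ok.1 k (by omega) (by rw [st711_ok.2]; omega)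
  by_cases c712 : k < 238614
  · exact chkList_get F R S st712 238358 st712_ok.1 k (by omega) (by rw [st712_ok.2]; omega)
  by_cases c713 : k < 238870
  · exact chkList_get F R S st713 238614 st713_ok.1 k (by omega) (by rw [st713_ok.2]; omega)
  by_cases c714 : k < 239126
  · exact chkList_get F R S st714 238870 st714_ok.1 k (by omega) (by rw [st714_ok.2]; omega)
  by_cases c715 : k < 239382
  · exact chkList_get F R S st715 239126 st715_ok.1 k (by omega) (by rw [st715_ok.2]; omega)
  by_cases c716 : k < 239638
  · exact chkList_get F R S st716 239382 st716_ok.1 k (by omega) (by rw [st716_ok.2]; omega)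
  by_cases c717 : k < 239894
  · exact chkList_get F R S st717 239638 st717_ok.1 k (by omega) (by rw [st717_ok.2]; omega)
  by_cases c718 : k < 240150
  · exact chkList_get F R S st718 239894 st718_ok.1 k (by omega) (by rw [st718_ok.2]; omega)
  by_cases c719 : k < 240406
  · exact chkList_get F R S st719 240150 st719_ok.1 k (by omega) (by rw [st719_ok.2]; omega)
  by_cases c720 : k < 240662
  · exact chkList_get F R S st720 240406 st720_ok.1 k (by omega) (by rw [st720_ok.2]; omega)
  by_cases c721 : k < 240918
  · exact chkList_get F R S st721 240662 st721_ok.1 k (by omega) (by rw [st721_ok.2]; omega)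
  by_cases c722 : k < 241174
  · exact chkList_get F R S st722 240918 st722_ok.1 k (by omega) (by rw [st722_ok.2]; omega)
  by_cases c723 : k < 241430
  · exact chkList_get F R S st723 241174 st723_ok.1 k (by omega) (by rw [st723_ok.2]; omega)
  by_cases c724 : k < 241686
  · exact chkList_get F R S st724 241430 st724_ok.1 k (by omega) (by rw [st724_ok.2]; omega)
  by_cases c725 : k < 241942
  · exact chkList_get F R S st725 241686 st725_ok.1 k (by omega) (by rw [st725_ok.2]; omega)
  by_cases c726 : k < 242198
  · exact chkList_get F R S st726 241942 st726_ok.1 k (by omega) (by rw [st726_ok.2]; omega)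
  by_cases c727 : k < 242454
  · exact chkList_get F R S st727 242198 st727_ok.1 k (by omega) (by rw [st727_ok.2]; omega)
  by_cases c728 : k < 242710
  · exact chkList_get F R S st728 242454 st728_ok.1 k (by omega) (by rw [st728_ok.2]; omega)
  by_cases c729 : k < 242966
  · exact chkList_get F R S st729 242710 st729_ok.1 k (by omega) (by rw [st729_ok.2]; omega)
  by_cases c730 : k < 243222
  · exact chkList_get F R S st730 242966 st730_ok.1 k (by omega) (by rw [st730_ok.2]; omega)
  by_cases c731 : k < 243478
  · exact chkList_get F R S st731 243222 st731_ok.1 k (by omega) (by rw [st731_ok.2]; omega)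
  by_cases c732 : k < 243734
  · exact chkList_get F R S st732 243478 st732_ok.1 k (by omega) (by rw [st732_ok.2]; omega)
  by_cases c733 : k < 243990
  · exact chkList_get F R S st733 243734 st733_ok.1 k (by omega) (by rw [st733_ok.2]; omega)
  by_cases c734 : k < 244246
  · exact chkList_get F R S st734 243990 st734_ok.1 k (by omega) (by rw [st734_ok.2]; omega)
  by_cases c735 : k < 244502
  · exact chkList_get F R S st735 244246 st735_ok.1 k (by omega) (by rw [st735_ok.2]; omega)
  by_cases c736 : k < 244758
  · exact chkList_get F R S st736 244502 st736_ok.1 k (by omega) (by rw [st736_ok.2]; omega)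
  by_cases c737 : k < 245014
  · exact chkList_get F R S st737 244758 st737_ok.1 k (by omega) (by rw [st737_ok.2]; omega)
  by_cases c738 : k < 245270
  · exact chkList_get F R S st738 245014 st738_ok.1 k (by omega) (by rw [st738_ok.2]; omega)
  by_cases c739 : k < 245526
  · exact chkList_get F R S st739 245270 st739_ok.1 k (by omega) (by rw [st739_ok.2]; omega)
  by_cases c740 : k < 245782
  · exact chkList_get F R S st740 245526 st740_ok.1 k (by omega) (by rw [st740_ok.2]; omega)
  by_cases c741 : k < 246038
  · exact chkList_get F R S st741 245782 st741_ok.1 k (by omega) (by rw [st741_ok.2]; omega)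
  by_cases c742 : k < 246294
  · exact chkList_get F R S st742 246038 st742_ok.1 k (by omega) (by rw [st742_ok.2]; omega)
  by_cases c743 : k < 246550
  · exact chkList_get F R S st743 246294 st743_ok.1 k (by omega) (by rw [st743_ok.2]; omega)
  by_cases c744 : k < 246806
  · exact chkList_get F R S st744 246550 st744_ok.1 k (by omega) (by rw [st744_ok.2]; omega)
  by_cases c745 : k < 247062
  · exact chkList_get F R S st745 246806 st745_ok.1 k (by omega) (by rw [st745_ok.2]; omega)
  by_cases c746 : k < 247318
  · exact chkList_get F R S st746 247062 st746_ok.1 k (by omega) (by rw [st746_ok.2]; omega)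
  by_cases c747 : k < 247574
  · exact chkList_get F R S st747 247318 st747_ok.1 k (by omega) (by rw [st747_ok.2]; omega)
  by_cases c748 : k < 247830
  · exact chkList_get F R S st748 247574 st748_ok.1 k (by omega) (by rw [st748_ok.2]; omega)
  by_cases c749 : k < 248086
  · exact chkList_get F R S st749 247830 st749_ok.1 k (by omega) (by rw [st749_ok.2]; omega)
  by_cases c750 : k < 248342
  · exact chkList_get F R S st750 248086 st750_ok.1 k (by omega) (by rw [st750_ok.2]; omega)
  by_cases c751 : k < 248598
  · exact chkList_get F R S st751 248342 st751_ok.1 k (by omega) (by rw [st751_ok.2]; omega)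
  by_cases c752 : k < 248854
  · exact chkList_get F R S st752 248598 st752_ok.1 k (by omega) (by rw [st752_ok.2]; omega)
  by_cases c753 : k < 249110
  · exact chkList_get F R S st753 248854 st753_ok.1 k (by omega) (by rw [st753_ok.2]; omega)
  by_cases c754 : k < 249366
  · exact chkList_get F R S st754 249110 st754_ok.1 k (by omega) (by rw [st754_ok.2]; omega)
  by_cases c755 : k < 249622
  · exact chkList_get F R S st755 249366 st755_ok.1 k (by omega) (by rw [st755_ok.2]; omega)
  by_cases c756 : k < 249878
  · exact chkList_get F R S st756 249622 st756_ok.1 k (by omega) (by rw [st756_ok.2]; omega)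
  by_cases c757 : k < 250134
  · exact chkList_get F R S st757 249878 st757_ok.1 k (by omega) (by rw [st757_ok.2]; omega)
  by_cases c758 : k < 250390
  · exact chkList_get F R S st758 250134 st758_ok.1 k (by omega) (by rw [st758_ok.2]; omega)
  by_cases c759 : k < 250646
  · exact chkList_get F R S st759 250390 st759_ok.1 k (by omega) (by rw [st759_ok.2]; omega)
  by_cases c760 : k < 250902
  · exact chkList_get F R S st760 250646 st760_ok.1 k (by omega) (by rw [st760_ok.2]; omega)
  by_cases c761 : k < 251158
  · exact chkList_get F R S st761 250902 st761_ok.1 k (by omega) (by rw [st761_ok.2]; omega)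
  by_cases c762 : k < 251414
  · exact chkList_get F R S st762 251158 st762_ok.1 k (by omega) (by rw [st762_ok.2]; omega)
  by_cases c763 : k < 251670
  · exact chkList_get F R S st763 251414 st763_ok.1 k (by omega) (by rw [st763_ok.2]; omega)
  by_cases c764 : k < 251926
  · exact chkList_get F R S st764 251670 st764_ok.1 k (by omega) (by rw [st764_ok.2]; omega)
  by_cases c765 : k < 252182
  · exact chkList_get F R S st765 251926 st765_ok.1 k (by omega) (by rw [st765_ok.2]; omega)
  by_cases c766 : k < 252438
  · exact chkList_get F R S st766 252182 st766_ok.1 k (by omega) (by rw [st766_ok.2]; omega)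
  by_cases c767 : k < 252694
  · exact chkList_get F R S st767 252438 st767_ok.1 k (by omega) (by rw [st767_ok.2]; omega)
  by_cases c768 : k < 252950
  · exact chkList_get F R S st768 252694 st768_ok.1 k (by omega) (by rw [st768_ok.2]; omega)
  by_cases c769 : k < 253206
  · exact chkList_get F R S st769 252950 st769_ok.1 k (by omega) (by rw [st769_ok.2]; omega)
  by_cases c770 : k < 253462
  · exact chkList_get F R S st770 253206 st770_ok.1 k (by omega) (by rw [st770_ok.2]; omega)
  by_cases c771 : k < 253718
  · exact chkList_get F R S st771 253462 st771_ok.1 k (by omega) (by rw [st771_ok.2]; omega)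
  by_cases c772 : k < 253974
  · exact chkList_get F R S st772 253718 st772_ok.1 k (by omega) (by rw [st772_ok.2]; omega)
  by_cases c773 : k < 254230
  · exact chkList_get F R S st773 253974 st773_ok.1 k (by omega) (by rw [st773_ok.2]; omega)
  by_cases c774 : k < 254486
  · exact chkList_get F R S st774 254230 st774_ok.1 k (by omega) (by rw [st774_ok.2]; omega)
  by_cases c775 : k < 254742
  · exact chkList_get F R S st775 254486 st775_ok.1 k (by omega) (by rw [st775_ok.2]; omega)
  by_cases c776 : k < 254998
  · exact chkList_get F R S st776 254742 st776_ok.1 k (by omega) (by rw [st776_ok.2]; omega)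
  by_cases c777 : k < 255254
  · exact chkList_get F R S st777 254998 st777_ok.1 k (by omega) (by rw [st777_ok.2]; omega)
  by_cases c778 : k < 255510
  · exact chkList_get F R S st778 255254 st778_ok.1 k (by omega) (by rw [st778_ok.2]; omega)
  by_cases c779 : k < 255766
  · exact chkList_get F R S st779 255510 st779_ok.1 k (by omega) (by rw [st779_ok.2]; omega)
  by_cases c780 : k < 256022
  · exact chkList_get F R S st780 255766 st780_ok.1 k (by omega) (by rw [st780_ok.2]; omega)
  by_cases c781 : k < 256278
  · exact chkList_get F R S st781 256022 st781_ok.1 k (by omega) (by rw [st781_ok.2]; omega)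
  by_cases c782 : k < 256534
  · exact chkList_get F R S st782 256278 st782_ok.1 k (by omega) (by rw [st782_ok.2]; omega)
  by_cases c783 : k < 256790
  · exact chkList_get F R S st783 256534 st783_ok.1 k (by omega) (by rw [st783_ok.2]; omega)
  by_cases c784 : k < 257046
  · exact chkList_get F R S st784 256790 st784_ok.1 k (by omega) (by rw [st784_ok.2]; omega)
  by_cases c785 : k < 257302
  · exact chkList_get F R S st785 257046 st785_ok.1 k (by omega) (by rw [st785_ok.2]; omega)
  by_cases c786 : k < 257558
  · exact chkList_get F R S st786 257302 st786_ok.1 k (by omega) (by rw [st786_ok.2]; omega)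
  by_cases c787 : k < 257814
  · exact chkList_get F R S st787 257558 st787_ok.1 k (by omega) (by rw [st787_ok.2]; omega)
  by_cases c788 : k < 258070
  · exact chkList_get F R S st788 257814 st788_ok.1 k (by omega) (by rw [st788_ok.2]; omega)
  by_cases c789 : k < 258326
  · exact chkList_get F R S st789 258070 st789_ok.1 k (by omega) (by rw [st789_ok.2]; omega)
  by_cases c790 : k < 258582
  · exact chkList_get F R S st790 258326 st790_ok.1 k (by omega) (by rw [st790_ok.2]; omega)
  by_cases c791 : k < 258838
  · exact chkList_get F R S st791 258582 st791_ok.1 k (by omega) (by rw [st791_ok.2]; omega)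
  by_cases c792 : k < 259094
  · exact chkList_get F R S st792 258838 st792_ok.1 k (by omega) (by rw [st792_ok.2]; omega)
  by_cases c793 : k < 259350
  · exact chkList_get F R S st793 259094 st793_ok.1 k (by omega) (by rw [st793_ok.2]; omega)
  by_cases c794 : k < 259606
  · exact chkList_get F R S st794 259350 st794_ok.1 k (by omega) (by rw [st794_ok.2]; omega)
  by_cases c795 : k < 259862
  · exact chkList_get F R S st795 259606 st795_ok.1 k (by omega) (by rw [st795_ok.2]; omega)
  by_cases c796 : k < 260118
  · exact chkList_get F R S st796 259862 st796_ok.1 k (by omega) (by rw [st796_ok.2]; omega)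
  by_cases c797 : k < 260374
  · exact chkList_get F R S st797 260118 st797_ok.1 k (by omega) (by rw [st797_ok.2]; omega)
  by_cases c798 : k < 260630
  · exact chkList_get F R S st798 260374 st798_ok.1 k (by omega) (by rw [st798_ok.2]; omega)
  by_cases c799 : k < 260886
  · exact chkList_get F R S st799 260630 st799_ok.1 k (by omega) (by rw [st799_ok.2]; omega)
  by_cases c800 : k < 261142
  · exact chkList_get F R S st800 260886 st800_ok.1 k (by omega) (by rw [st800_ok.2]; omega)
  by_cases c801 : k < 261398
  · exact chkList_get F R S st801 261142 st801_ok.1 k (by omega) (by rw [st801_ok.2]; omega)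
  by_cases c802 : k < 261654
  · exact chkList_get F R S st802 261398 st802_ok.1 k (by omega) (by rw [st802_ok.2]; omega)
  by_cases c803 : k < 261910
  · exact chkList_get F R S st803 261654 st803_ok.1 k (by omega) (by rw [st803_ok.2]; omega)
  by_cases c804 : k < 262166
  · exact chkList_get F R S st804 261910 st804_ok.1 k (by omega) (by rw [st804_ok.2]; omega)
  by_cases c805 : k < 262422
  · exact chkList_get F R S st805 262166 st805_ok.1 k (by omega) (by rw [st805_ok.2]; omega)
  by_cases c806 : k < 262678
  · exact chkList_get F R S st806 262422 st806_ok.1 k (by omega) (by rw [st806_ok.2]; omega)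
  by_cases c807 : k < 262934
  · exact chkList_get F R S st807 262678 st807_ok.1 k (by omega) (by rw [st807_ok.2]; omega)
  by_cases c808 : k < 263134
  · exact chkList_get F R S st808 262934 st808_ok.1 k (by omega) (by rw [st808_ok.2]; omega)
  omega

end H29.CosetCert.Fi23Data
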