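import Cfsg.Agent.H29.CosetCert.Fi23.RelsBase

/-! Relator checks for Fi23, produced outside Lean and checked here. -/

set_option autoImplicit false
set_option maxRecDepth 16000
set_option Elab.async false

namespace H29.CosetCert.Fi23Data

open H29.CosetCert

theorem relsF14 : allF (fixF rowF relW) 2100 150 = true := by decide +kernel

theorem relsF15 : allF (fixF rowF relW) 2250 150 = true := by decide +kernel

theorem relsF16 : allF (fixF rowF relW) 2400 150 = true := by decide +kernel

theorem relsF17 : allF (fixF rowF relW) 2550 150 = true := by decide +kernel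

theorem relsF18 : allF (fixF rowF relW) 2700 150 = true := by decide +kernel

theorem relsF19 : allF (fixF rowF relW) 2850 150 = true := by decide +kernel

theorem relsF20 : allF (fixF rowF relW) 3000 150 = true := by decide +kernel

theorem relsF21 : allF (fixF rowF relW) 3150 150 = true := by decide +kernel

theorem relsF22 : allF (fixF rowF relW) 3300 150 = true := by decide +kernel

theorem relsF23 : allF (fixF rowF relW) 3450 150 = true := by decide +kernel

theorem relsF24 : allF (fixF rowF relW) 3600 150 = true := by decide +kernel

theorem relsF25 : allF (fixF rowF relW) 3750 150 = true := by decide +kernel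

theorem relsF26 : allF (fixF rowF relW) 3900 150 = true := by decide +kernel

theorem relsF27 : allF (fixF rowF relW) 4050 150 = true := by decide +kernel

theorem relsB1 (c : ℕ) (h0 : 2100 ≤ c) (h1 : c < 4200) : fixF rowF relW c = true := by
  by_cases h14 : c < 2250
  · exact allF_spec _ _ _ relsF14 c (by omega) (by omega)
  by_cases h15 : c < 2400
  · exact allF_spec _ _ _ relsF15 c (by omega) (by omega)
  by_cases h16 : c < 2550
  · exact allF_spec _ _ _ relsF16 c (by omega) (by omega)
  by_cases h17 : c < 2700
  · exact allF_spec _ _ _ relsF17 c (by omega) (by omega)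
  by_cases h18 : c < 2850
  · exact allF_spec _ _ _ relsF18 c (by omega) (by omega)
  by_cases h19 : c < 3000
  · exact allF_spec _ _ _ relsF19 c (by omega) (by omega)
  by_cases h20 : c < 3150
  · exact allF_spec _ _ _ relsF20 c (by omega) (by omega)
  by_cases h21 : c < 3300
  · exact allF_spec _ _ _ relsF21 c (by omega) (by omega)
  by_cases h22 : c < 3450
  · exact allF_spec _ _ _ relsF22 c (by omega) (by omega)
  by_cases h23 : c < 3600
  · exact allF_spec _ _ _ relsF23 c (by omega) (by omega)
  by_cases h24 : c < 3750
  · exact allF_spec _ _ _ relsF24 c (by omega) (by omega)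
  by_cases h25 : c < 3900
  · exact allF_spec _ _ _ relsF25 c (by omega) (by omega)
  by_cases h26 : c < 4050
  · exact allF_spec _ _ _ relsF26 c (by omega) (by omega)
  by_cases h27 : c < 4200
  · exact allF_spec _ _ _ relsF27 c (by omega) (by omega)
  omega

end H29.CosetCert.Fi23Data
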