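import Cfsg.Agent.H29.CosetCert.Fi23.RelsBase

/-! Relator checks for Fi23, produced outside Lean and checked here. -/

set_option autoImplicit false
set_option maxRecDepth 16000
set_option Elab.async false

namespace H29.CosetCert.Fi23Data

open H29.CosetCert

theorem relsF154 : allF (fixF rowF relW) 23100 150 = true := by decide +kernel

theorem relsF155 : allF (fixF rowF relW) 23250 150 = true := by decide +kernel

theorem relsF156 : allF (fixF rowF relW) 23400 150 = true := by decide +kernel

theorem relsF157 : allF (fixF rowF relW) 23550 150 = true := by decide +kernel

theorem relsF158 : allF (fixF rowF relW) 23700 150 = true := by decide +kernel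

theorem relsF159 : allF (fixF rowF relW) 23850 150 = true := by decide +kernel

theorem relsF160 : allF (fixF rowF relW) 24000 150 = true := by decide +kernel

theorem relsF161 : allF (fixF rowF relW) 24150 150 = true := by decide +kernel

theorem relsF162 : allF (fixF rowF relW) 24300 150 = true := by decide +kernel

theorem relsF163 : allF (fixF rowF relW) 24450 150 = true := by decide +kernel

theorem relsF164 : allF (fixF rowF relW) 24600 150 = true := by decide +kernel

theorem relsF165 : allF (fixF rowF relW) 24750 150 = true := by decide +kernel

theorem relsF166 : allF (fixF rowF relW) 24900 150 = true := by decide +kernel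

theorem relsF167 : allF (fixF rowF relW) 25050 150 = true := by decide +kernel

theorem relsB11 (c : ℕ) (h0 : 23100 ≤ c) (h1 : c < 25200) : fixF rowF relW c = true := by
  by_cases h154 : c < 23250
  · exact allF_spec _ _ _ relsF154 c (by omega) (by omega)
  by_cases h155 : c < 23400
  · exact allF_spec _ _ _ relsF155 c (by omega) (by omega)
  by_cases h156 : c < 23550
  · exact allF_spec _ _ _ relsF156 c (by omega) (by omega)
  by_cases h157 : c < 23700
  · exact allF_spec _ _ _ relsF157 c (by omega) (by omega)
  by_cases h158 : c < 23850
  · exact allF_spec _ _ _ relsF158 c (by omega) (by omega)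
  by_cases h159 : c < 24000
  · exact allF_spec _ _ _ relsF159 c (by omega) (by omega)
  by_cases h160 : c < 24150
  · exact allF_spec _ _ _ relsF160 c (by omega) (by omega)
  by_cases h161 : c < 24300
  · exact allF_spec _ _ _ relsF161 c (by omega) (by omega)
  by_cases h162 : c < 24450
  · exact allF_spec _ _ _ relsF162 c (by omega) (by omega)
  by_cases h163 : c < 24600
  · exact allF_spec _ _ _ relsF163 c (by omega) (by omega)
  by_cases h164 : c < 24750
  · exact allF_spec _ _ _ relsF164 c (by omega) (by omega)
  by_cases h165 : c < 24900
  · exact allF_spec _ _ _ relsF165 c (by omega) (by omega)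
  by_cases h166 : c < 25050
  · exact allF_spec _ _ _ relsF166 c (by omega) (by omega)
  by_cases h167 : c < 25200
  · exact allF_spec _ _ _ relsF167 c (by omega) (by omega)
  omega

end H29.CosetCert.Fi23Data
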