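import Cfsg.Agent.H29.CosetCert.Fi23.RelsBase

/-! Relator checks for Fi23, produced outside Lean and checked here. -/

set_option autoImplicit false
set_option maxRecDepth 16000
set_option Elab.async false

namespace H29.CosetCert.Fi23Data

open H29.CosetCert

theorem relsF182 : allF (fixF rowF relW) 27300 150 = true := by decide +kernel

theorem relsF183 : allF (fixF rowF relW) 27450 150 = true := by decide +kernel

theorem relsF184 : allF (fixF rowF relW) 27600 150 = true := by decide +kernel

theorem relsF185 : allF (fixF rowF relW) 27750 150 = true := by decide +kernel

theorem relsF186 : allF (fixF rowF relW) 27900 150 = true := by decide +kernel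

theorem relsF187 : allF (fixF rowF relW) 28050 150 = true := by decide +kernel

theorem relsF188 : allF (fixF rowF relW) 28200 150 = true := by decide +kernel

theorem relsF189 : allF (fixF rowF relW) 28350 150 = true := by decide +kernel

theorem relsF190 : allF (fixF rowF relW) 28500 150 = true := by decide +kernel

theorem relsF191 : allF (fixF rowF relW) 28650 150 = true := by decide +kernel

theorem relsF192 : allF (fixF rowF relW) 28800 150 = true := by decide +kernel

theorem relsF193 : allF (fixF rowF relW) 28950 150 = true := by decide +kernel

theorem relsF194 : allF (fixF rowF relW) 29100 150 = true := by decide +kernel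

theorem relsF195 : allF (fixF rowF relW) 29250 150 = true := by decide +kernel

theorem relsB13 (c : ℕ) (h0 : 27300 ≤ c) (h1 : c < 29400) : fixF rowF relW c = true := by
  by_cases h182 : c < 27450
  · exact allF_spec _ _ _ relsF182 c (by omega) (by omega)
  by_cases h183 : c < 27600
  · exact allF_spec _ _ _ relsF183 c (by omega) (by omega)
  by_cases h184 : c < 27750
  · exact allF_spec _ _ _ relsF184 c (by omega) (by omega)
  by_cases h185 : c < 27900
  · exact allF_spec _ _ _ relsF185 c (by omega) (by omega)
  by_cases h186 : c < 28050
  · exact allF_spec _ _ _ relsF186 c (by omega) (by omega)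
  by_cases h187 : c < 28200
  · exact allF_spec _ _ _ relsF187 c (by omega) (by omega)
  by_cases h188 : c < 28350
  · exact allF_spec _ _ _ relsF188 c (by omega) (by omega)
  by_cases h189 : c < 28500
  · exact allF_spec _ _ _ relsF189 c (by omega) (by omega)
  by_cases h190 : c < 28650
  · exact allF_spec _ _ _ relsF190 c (by omega) (by omega)
  by_cases h191 : c < 28800
  · exact allF_spec _ _ _ relsF191 c (by omega) (by omega)
  by_cases h192 : c < 28950
  · exact allF_spec _ _ _ relsF192 c (by omega) (by omega)
  by_cases h193 : c < 29100
  · exact allF_spec _ _ _ relsF193 c (by omega) (by omega)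
  by_cases h194 : c < 29250
  · exact allF_spec _ _ _ relsF194 c (by omega) (by omega)
  by_cases h195 : c < 29400
  · exact allF_spec _ _ _ relsF195 c (by omega) (by omega)
  omega

end H29.CosetCert.Fi23Data
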