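import Cfsg.Agent.H29.CosetCert.Fi23.RelsBase

/-! Relator checks for Fi23, produced outside Lean and checked here. -/

set_option autoImplicit false
set_option maxRecDepth 16000
set_option Elab.async false

namespace H29.CosetCert.Fi23Data

open H29.CosetCert

theorem relsF196 : allF (fixF rowF relW) 29400 150 = true := by decide +kernel

theorem relsF197 : allF (fixF rowF relW) 29550 150 = true := by decide +kernel

theorem relsF198 : allF (fixF rowF relW) 29700 150 = true := by decide +kernel

theorem relsF199 : allF (fixF rowF relW) 29850 150 = true := by decide +kernel

theorem relsF200 : allF (fixF rowF relW) 30000 150 = true := by decide +kernel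

theorem relsF201 : allF (fixF rowF relW) 30150 150 = true := by decide +kernel

theorem relsF202 : allF (fixF rowF relW) 30300 150 = true := by decide +kernel

theorem relsF203 : allF (fixF rowF relW) 30450 150 = true := by decide +kernel

theorem relsF204 : allF (fixF rowF relW) 30600 150 = true := by decide +kernel

theorem relsF205 : allF (fixF rowF relW) 30750 150 = true := by decide +kernel

theorem relsF206 : allF (fixF rowF relW) 30900 150 = true := by decide +kernel

theorem relsF207 : allF (fixF rowF relW) 31050 150 = true := by decide +kernel

theorem relsF208 : allF (fixF rowF relW) 31200 150 = true := by decide +kernel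

theorem relsF209 : allF (fixF rowF relW) 31350 150 = true := by decide +kernel

theorem relsB14 (c : ℕ) (h0 : 29400 ≤ c) (h1 : c < 31500) : fixF rowF relW c = true := by
  by_cases h196 : c < 29550
  · exact allF_spec _ _ _ relsF196 c (by omega) (by omega)
  by_cases h197 : c < 29700
  · exact allF_spec _ _ _ relsF197 c (by omega) (by omega)
  by_cases h198 : c < 29850
  · exact allF_spec _ _ _ relsF198 c (by omega) (by omega)
  by_cases h199 : c < 30000
  · exact allF_spec _ _ _ relsF199 c (by omega) (by omega)
  by_cases h200 : c < 30150
  · exact allF_spec _ _ _ relsF200 c (by omega) (by omega)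
  by_cases h201 : c < 30300
  · exact allF_spec _ _ _ relsF201 c (by omega) (by omega)
  by_cases h202 : c < 30450
  · exact allF_spec _ _ _ relsF202 c (by omega) (by omega)
  by_cases h203 : c < 30600
  · exact allF_spec _ _ _ relsF203 c (by omega) (by omega)
  by_cases h204 : c < 30750
  · exact allF_spec _ _ _ relsF204 c (by omega) (by omega)
  by_cases h205 : c < 30900
  · exact allF_spec _ _ _ relsF205 c (by omega) (by omega)
  by_cases h206 : c < 31050
  · exact allF_spec _ _ _ relsF206 c (by omega) (by omega)
  by_cases h207 : c < 31200
  · exact allF_spec _ _ _ relsF207 c (by omega) (by omega)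
  by_cases h208 : c < 31350
  · exact allF_spec _ _ _ relsF208 c (by omega) (by omega)
  by_cases h209 : c < 31500
  · exact allF_spec _ _ _ relsF209 c (by omega) (by omega)
  omega

end H29.CosetCert.Fi23Data
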