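import Cfsg.Agent.H29.CosetCert.Fi23.RelsBase

/-! Relator checks for Fi23, produced outside Lean and checked here. -/

set_option autoImplicit false
set_option maxRecDepth 16000
set_option Elab.async false

namespace H29.CosetCert.Fi23Data

open H29.CosetCert

theorem relsF210 : allF (fixF rowF relW) 31500 150 = true := by decide +kernel

theorem relsF211 : allF (fixF rowF relW) 31650 21 = true := by decide +kernel

theorem relsB15 (c : ℕ) (h0 : 31500 ≤ c) (h1 : c < 31671) : fixF rowF relW c = true := by
  by_cases h210 : c < 31650
  · exact allF_spec _ _ _ relsF210 c (by omega) (by omega)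
  by_cases h211 : c < 31671
  · exact allF_spec _ _ _ relsF211 c (by omega) (by omega)
  omega

end H29.CosetCert.Fi23Data
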