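import Cfsg.Agent.H29.CosetCert.Fi23.RelsBase

/-! Relator checks for Fi23, produced outside Lean and checked here. -/

set_option autoImplicit false
set_option maxRecDepth 16000
set_option Elab.async false

namespace H29.CosetCert.Fi23Data

open H29.CosetCert

theorem relsF56 : allF (fixF rowF relW) 8400 150 = true := by decide +kernel

theorem relsF57 : allF (fixF rowF relW) 8550 150 = true := by decide +kernel

theorem relsF58 : allF (fixF rowF relW) 8700 150 = true := by decide +kernel

theorem relsF59 : allF (fixF rowF relW) 8850 150 = true := by decide +kernel

theorem relsF60 : allF (fixF rowF relW) 9000 150 = true := by decide +kernel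

theorem relsF61 : allF (fixF rowF relW) 9150 150 = true := by decide +kernel

theorem relsF62 : allF (fixF rowF relW) 9300 150 = true := by decide +kernel

theorem relsF63 : allF (fixF rowF relW) 9450 150 = true := by decide +kernel

theorem relsF64 : allF (fixF rowF relW) 9600 150 = true := by decide +kernel

theorem relsF65 : allF (fixF rowF relW) 9750 150 = true := by decide +kernel

theorem relsF66 : allF (fixF rowF relW) 9900 150 = true := by decide +kernel

theorem relsF67 : allF (fixF rowF relW) 10050 150 = true := by decide +kernel

theorem relsF68 : allF (fixF rowF relW) 10200 150 = true := by decide +kernel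

theorem relsF69 : allF (fixF rowF relW) 10350 150 = true := by decide +kernel

theorem relsB4 (c : ℕ) (h0 : 8400 ≤ c) (h1 : c < 10500) : fixF rowF relW c = true := by
  by_cases h56 : c < 8550
  · exact allF_spec _ _ _ relsF56 c (by omega) (by omega)
  by_cases h57 : c < 8700
  · exact allF_spec _ _ _ relsF57 c (by omega) (by omega)
  by_cases h58 : c < 8850
  · exact allF_spec _ _ _ relsF58 c (by omega) (by omega)
  by_cases h59 : c < 9000
  · exact allF_spec _ _ _ relsF59 c (by omega) (by omega)
  by_cases h60 : c < 9150
  · exact allF_spec _ _ _ relsF60 c (by omega) (by omega)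
  by_cases h61 : c < 9300
  · exact allF_spec _ _ _ relsF61 c (by omega) (by omega)
  by_cases h62 : c < 9450
  · exact allF_spec _ _ _ relsF62 c (by omega) (by omega)
  by_cases h63 : c < 9600
  · exact allF_spec _ _ _ relsF63 c (by omega) (by omega)
  by_cases h64 : c < 9750
  · exact allF_spec _ _ _ relsF64 c (by omega) (by omega)
  by_cases h65 : c < 9900
  · exact allF_spec _ _ _ relsF65 c (by omega) (by omega)
  by_cases h66 : c < 10050
  · exact allF_spec _ _ _ relsF66 c (by omega) (by omega)
  by_cases h67 : c < 10200
  · exact allF_spec _ _ _ relsF67 c (by omega) (by omega)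
  by_cases h68 : c < 10350
  · exact allF_spec _ _ _ relsF68 c (by omega) (by omega)
  by_cases h69 : c < 10500
  · exact allF_spec _ _ _ relsF69 c (by omega) (by omega)
  omega

end H29.CosetCert.Fi23Data
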