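import Cfsg.Agent.H29.CosetCert.Fi23.RelsBase

/-! Relator checks for Fi23, produced outside Lean and checked here. -/

set_option autoImplicit false
set_option maxRecDepth 16000
set_option Elab.async false

namespace H29.CosetCert.Fi23Data

open H29.CosetCert

theorem relsF98 : allF (fixF rowF relW) 14700 150 = true := by decide +kernel

theorem relsF99 : allF (fixF rowF relW) 14850 150 = true := by decide +kernel

theorem relsF100 : allF (fixF rowF relW) 15000 150 = true := by decide +kernel

theorem relsF101 : allF (fixF rowF relW) 15150 150 = true := by decide +kernel

theorem relsF102 : allF (fixF rowF relW) 15300 150 = true := by decide +kernel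

theorem relsF103 : allF (fixF rowF relW) 15450 150 = true := by decide +kernel

theorem relsF104 : allF (fixF rowF relW) 15600 150 = true := by decide +kernel

theorem relsF105 : allF (fixF rowF relW) 15750 150 = true := by decide +kernel

theorem relsF106 : allF (fixF rowF relW) 15900 150 = true := by decide +kernel

theorem relsF107 : allF (fixF rowF relW) 16050 150 = true := by decide +kernel

theorem relsF108 : allF (fixF rowF relW) 16200 150 = true := by decide +kernel

theorem relsF109 : allF (fixF rowF relW) 16350 150 = true := by decide +kernel

theorem relsF110 : allF (fixF rowF relW) 16500 150 = true := by decide +kernel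

theorem relsF111 : allF (fixF rowF relW) 16650 150 = true := by decide +kernel

theorem relsB7 (c : ℕ) (h0 : 14700 ≤ c) (h1 : c < 16800) : fixF rowF relW c = true := by
  by_cases h98 : c < 14850
  · exact allF_spec _ _ _ relsF98 c (by omega) (by omega)
  by_cases h99 : c < 15000
  · exact allF_spec _ _ _ relsF99 c (by omega) (by omega)
  by_cases h100 : c < 15150
  · exact allF_spec _ _ _ relsF100 c (by omega) (by omega)
  by_cases h101 : c < 15300
  · exact allF_spec _ _ _ relsF101 c (by omega) (by omega)
  by_cases h102 : c < 15450
  · exact allF_spec _ _ _ relsF102 c (by omega) (by omega)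
  by_cases h103 : c < 15600
  · exact allF_spec _ _ _ relsF103 c (by omega) (by omega)
  by_cases h104 : c < 15750
  · exact allF_spec _ _ _ relsF104 c (by omega) (by omega)
  by_cases h105 : c < 15900
  · exact allF_spec _ _ _ relsF105 c (by omega) (by omega)
  by_cases h106 : c < 16050
  · exact allF_spec _ _ _ relsF106 c (by omega) (by omega)
  by_cases h107 : c < 16200
  · exact allF_spec _ _ _ relsF107 c (by omega) (by omega)
  by_cases h108 : c < 16350
  · exact allF_spec _ _ _ relsF108 c (by omega) (by omega)
  by_cases h109 : c < 16500
  · exact allF_spec _ _ _ relsF109 c (by omega) (by omega)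
  by_cases h110 : c < 16650
  · exact allF_spec _ _ _ relsF110 c (by omega) (by omega)
  by_cases h111 : c < 16800
  · exact allF_spec _ _ _ relsF111 c (by omega) (by omega)
  omega

end H29.CosetCert.Fi23Data
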