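import Cfsg.Agent.H29.CosetCert.Fi23.RelsBase

/-! Relator checks for Fi23, produced outside Lean and checked here. -/

set_option autoImplicit false
set_option maxRecDepth 16000
set_option Elab.async false

namespace H29.CosetCert.Fi23Data

open H29.CosetCert

theorem relsF112 : allF (fixF rowF relW) 16800 150 = true := by decide +kernel

theorem relsF113 : allF (fixF rowF relW) 16950 150 = true := by decide +kernel

theorem relsF114 : allF (fixF rowF relW) 17100 150 = true := by decide +kernel

theorem relsF115 : allF (fixF rowF relW) 17250 150 = true := by decide +kernel

theorem relsF116 : allF (fixF rowF relW) 17400 150 = true := by decide +kernel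

theorem relsF117 : allF (fixF rowF relW) 17550 150 = true := by decide +kernel

theorem relsF118 : allF (fixF rowF relW) 17700 150 = true := by decide +kernel

theorem relsF119 : allF (fixF rowF relW) 17850 150 = true := by decide +kernel

theorem relsF120 : allF (fixF rowF relW) 18000 150 = true := by decide +kernel

theorem relsF121 : allF (fixF rowF relW) 18150 150 = true := by decide +kernel

theorem relsF122 : allF (fixF rowF relW) 18300 150 = true := by decide +kernel

theorem relsF123 : allF (fixF rowF relW) 18450 150 = true := by decide +kernel

theorem relsF124 : allF (fixF rowF relW) 18600 150 = true := by decide +kernel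

theorem relsF125 : allF (fixF rowF relW) 18750 150 = true := by decide +kernel

theorem relsB8 (c : ℕ) (h0 : 16800 ≤ c) (h1 : c < 18900) : fixF rowF relW c = true := by
  by_cases h112 : c < 16950
  · exact allF_spec _ _ _ relsF112 c (by omega) (by omega)
  by_cases h113 : c < 17100
  · exact allF_spec _ _ _ relsF113 c (by omega) (by omega)
  by_cases h114 : c < 17250
  · exact allF_spec _ _ _ relsF114 c (by omega) (by omega)
  by_cases h115 : c < 17400
  · exact allF_spec _ _ _ relsF115 c (by omega) (by omega)
  by_cases h116 : c < 17550
  · exact allF_spec _ _ _ relsF116 c (by omega) (by omega)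
  by_cases h117 : c < 17700
  · exact allF_spec _ _ _ relsF117 c (by omega) (by omega)
  by_cases h118 : c < 17850
  · exact allF_spec _ _ _ relsF118 c (by omega) (by omega)
  by_cases h119 : c < 18000
  · exact allF_spec _ _ _ relsF119 c (by omega) (by omega)
  by_cases h120 : c < 18150
  · exact allF_spec _ _ _ relsF120 c (by omega) (by omega)
  by_cases h121 : c < 18300
  · exact allF_spec _ _ _ relsF121 c (by omega) (by omega)
  by_cases h122 : c < 18450
  · exact allF_spec _ _ _ relsF122 c (by omega) (by omega)
  by_cases h123 : c < 18600
  · exact allF_spec _ _ _ relsF123 c (by omega) (by omega)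
  by_cases h124 : c < 18750
  · exact allF_spec _ _ _ relsF124 c (by omega) (by omega)
  by_cases h125 : c < 18900
  · exact allF_spec _ _ _ relsF125 c (by omega) (by omega)
  omega

end H29.CosetCert.Fi23Data
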