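import Cfsg.Agent.H29.CosetCert.Fi23Order.Cert
import Cfsg.Agent.H29.CosetCert.Fi22Order.Cert
import Cfsg.Agent.H29.CosetCert.Fi23.Embed22
import Cfsg.Prelude.Def_SporadicB

/-!
# The index-31671 subgroup of the presented Fi23 is a non-split double cover of the presented Fi22
-/

set_option autoImplicit false

namespace H29.CosetCert.Fi23Cover

open H29.CosetCert

local notation "G22" => Cfsg.Spor.Fi22
local notation "K" => Fi23Cert.H

/-- Points of the suborbit. -/
noncomputable def pt (p : Fin 3510) : Fin 31671 :=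
  ⟨Fi23Embed.sig p, by
    have h := (allIn_iff _ _ _).1 Fi23Embed.sig_ok p (Nat.zero_le _) (by omega)
    simp only [Bool.and_eq_true, Nat.blt_eq] at h
    exact h.1.1⟩

theorem pt_injective : Function.Injective pt := by
  intro p q hpq
  have hp := (allIn_iff _ _ _).1 Fi23Embed.sig_ok p (Nat.zero_le _) (by omega)
  have hq := (allIn_iff _ _ _).1 Fi23Embed.sig_ok q (Nat.zero_le _) (by omega)
  simp only [Bool.and_eq_true, beq_iff_eq] at hp hq
  have h : Fi23Embed.sig p = Fi23Embed.sig q := congrArg Fin.val hpq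
  apply Fin.ext
  rw [← hp.1.2, h, hq.1.2]

/-- `a` in Fi23 acts on the suborbit as `u` in Fi22. -/
def Rel (a : Cfsg.Spor.Fi23) (u : G22) : Prop :=
  ∀ p : Fin 3510, Fi23Cert.ρ a (pt p) = pt (Fi22Cert.ρ u p)

theorem rel_gen (x : ℕ) (hx : x < 9) : Rel (Fi23Cert.g (Fi23Embed.lm x)) (Fi22Cert.g x) := by
  intro p
  have h := (allIn_iff _ _ _).1 Fi23Embed.sig_ok p (Nat.zero_le _) (by omega)
  simp only [Bool.and_eq_true] at h
  have h := (allIn_iff _ _ _).1 h.2 x (Nat.zero_le _) (by omega)
  rw [beq_iff_eq] at h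
  rw [Fi23Cert.ρ_g, Fi22Cert.ρ_g]
  apply Fin.ext
  rw [permOf_val (Fi23Cert.T_all _)]
  show Fi23Data.T (Fi23Embed.lm x) (Fi23Embed.sig p) =
    Fi23Embed.sig ((permOf 3510 (Fi22Data.T x) p : Fin 3510) : ℕ)
  rw [h, permOf_val (Fi22Cert.T_all x)]

theorem rel_mul {a b : Cfsg.Spor.Fi23} {u v : G22} (ha : Rel a u) (hb : Rel b v) :
    Rel (a * b) (u * v) := by
  intro p
  rw [map_mul, map_mul, Equiv.Perm.mul_apply, Equiv.Perm.mul_apply, hb, ha]

theorem rel_one : Rel 1 1 := fun p => by simp [map_one]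

theorem rel_inv {a : Cfsg.Spor.Fi23} {u : G22} (ha : Rel a u) : Rel a⁻¹ u⁻¹ := by
  intro p
  rw [map_inv, map_inv, Equiv.Perm.inv_eq_iff_eq, ha, ← Equiv.Perm.mul_apply, mul_inv_cancel,
    Equiv.Perm.one_apply]

theorem rel_unique {a : Cfsg.Spor.Fi23} {u v : G22} (hu : Rel a u) (hv : Rel a v) : u = v :=
  Fi22Ord.injective_card.1 (Equiv.ext fun p => pt_injective ((hu p).symm.trans (hv p)))

theorem mem_H {x : ℕ} (hx : x < 9) : Fi23Cert.g (Fi23Embed.lm x) ∈ K := by
  rw [← Fi23Ord.mask_eq]
  refine Subgroup.subset_closure ⟨_, ?_, rfl⟩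
  interval_cases x <;> decide

theorem exists_rel {a : Cfsg.Spor.Fi23} (ha : a ∈ K) : ∃ u, Rel a u := by
  rw [← Fi23Ord.mask_eq] at ha
  induction ha using Subgroup.closure_induction with
  | mem e he =>
    obtain ⟨x, hx, rfl⟩ := he
    have hlt : x < 10 := by
      by_contra h
      rw [Nat.testBit_lt_two_pow (lt_of_lt_of_le (show 895 < 2 ^ 10 by norm_num)
        (Nat.pow_le_pow_right (by norm_num) (by omega)))] at hx
      simp at hx
    interval_cases x
    · exact ⟨_, rel_gen 0 (by norm_num)⟩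
    · exact ⟨_, rel_gen 1 (by norm_num)⟩
    · exact ⟨_, rel_gen 2 (by norm_num)⟩
    · exact ⟨_, rel_gen 3 (by norm_num)⟩
    · exact ⟨_, rel_gen 4 (by norm_num)⟩
    · exact ⟨_, rel_gen 5 (by norm_num)⟩
    · exact ⟨_, rel_gen 6 (by norm_num)⟩
    · simp [Nat.testBit, Nat.shiftRight_eq_div_pow] at hx
    · exact ⟨_, rel_gen 7 (by norm_num)⟩
    · exact ⟨_, rel_gen 8 (by norm_num)⟩
  | one => exact ⟨1, rel_one⟩
  | mul a b _ _ ha hb =>
    obtain ⟨u, hu⟩ := ha
    obtain ⟨v, hv⟩ := hb
    exact ⟨u * v, rel_mul hu hv⟩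
  | inv a _ ha =>
    obtain ⟨u, hu⟩ := ha
    exact ⟨u⁻¹, rel_inv hu⟩

/-- The projection to Fi22. -/
noncomputable def proj : K →* G22 where
  toFun a := (exists_rel a.2).choose
  map_one' := rel_unique (exists_rel (1 : K).2).choose_spec rel_one
  map_mul' a b := rel_unique (exists_rel (a * b).2).choose_spec
    (rel_mul (exists_rel a.2).choose_spec (exists_rel b.2).choose_spec)

theorem proj_eq {a : K} {u : G22} (h : Rel a u) : proj a = u :=
  rel_unique (exists_rel a.2).choose_spec h

theorem proj_surjective : Function.Surjective proj := by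
  rw [← MonoidHom.range_eq_top, eq_top_iff, ← Fi22Cert.cert.g_gen, Subgroup.closure_le]
  rintro _ ⟨x, rfl⟩
  by_cases hx : x < 9
  · exact ⟨⟨_, mem_H hx⟩, proj_eq (rel_gen x hx)⟩
  · rw [Fi22Cert.cert.g_high x (by show 9 ≤ x; omega)]
    exact one_mem _

theorem card_H : Nat.card K = 129123503308800 := by
  have h := Fi23Cert.H.card_mul_index
  rw [Fi23Cert.cert.index_eq, show Fi23Cert.cert.n = 31671 from rfl,
    Fi23Ord.injective_card.2] at h
  exact Nat.eq_of_mul_eq_mul_right (show 0 < 31671 by norm_num) (h.trans (by norm_num))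

theorem finite_H : Finite K := by
  haveI := Fi23Ord.finite_card.1
  infer_instance

theorem card_ker : Nat.card proj.ker = 2 := by
  have h := proj.ker.card_mul_index
  rw [Subgroup.index_ker, MonoidHom.range_eq_top.2 proj_surjective, Subgroup.card_top,
    Fi22Ord.injective_card.2, card_H] at h
  exact Nat.eq_of_mul_eq_mul_right (show 0 < 64561751654400 by norm_num) (h.trans (by norm_num))

theorem ker_eq_center : proj.ker = Subgroup.center K := by
  haveI := Fi22Ord.simple
  apply le_antisymm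
  · intro z hz
    rw [Subgroup.mem_center_iff]
    intro a
    obtain ⟨x, y, hxy, huniv⟩ := Nat.card_eq_two_iff.1 card_ker
    have hconj : a * z * a⁻¹ ∈ proj.ker := (inferInstance : proj.ker.Normal).conj_mem z hz a
    have key : ∀ w : proj.ker, w ≠ 1 → ∀ v : proj.ker, v ≠ 1 → w = v := by
      intro w hw v hv
      have hu : ∀ w : proj.ker, w = x ∨ w = y := fun w => by
        have := huniv ▸ Set.mem_univ w
        simpa using this
      rcases hu 1 with h1 | h1 <;> rcases hu w with h2 | h2 <;> rcases hu v with h3 | h3 <;>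
        simp_all
    by_cases hz1 : z = 1
    · simp [hz1]
    have h := key ⟨_, hconj⟩ (fun h => hz1 (conj_eq_one_iff.1 (congrArg Subtype.val h)))
      ⟨z, hz⟩ (fun h => hz1 (congrArg Subtype.val h))
    exact mul_inv_eq_iff_eq_mul.1 (congrArg Subtype.val h)
  · intro z hz
    rw [MonoidHom.mem_ker]
    by_contra hne
    have hc : proj z ∈ Subgroup.center G22 := Subgroup.mem_center_iff.2 fun u => by
      obtain ⟨a, rfl⟩ := proj_surjective u
      rw [← map_mul, ← map_mul, Subgroup.mem_center_iff.1 hz a]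
    rcases (inferInstance : (Subgroup.center G22).Normal).eq_bot_or_eq_top with h | h
    · exact hne (Subgroup.mem_bot.1 (h ▸ hc))
    · haveI := Fi22Ord.finite_card.1
      haveI : Fact (Nat.Prime 2) := ⟨Nat.prime_two⟩
      let _ : CommGroup G22 :=
        { (inferInstance : Group G22) with
          mul_comm := fun u v => (Subgroup.mem_center_iff.1 (h ▸ Subgroup.mem_top v) u) }
      have hp := IsSimpleGroup.prime_card (α := G22)
      rw [Fi22Ord.injective_card.2] at hp
      exact absurd hp (Nat.not_prime_of_dvd_of_lt (m := 2) (by norm_num) (by norm_num) (by norm_num))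

theorem no_complement (L : Subgroup K) : ¬ (Subgroup.center K).IsComplement' L := by
  intro hL
  rw [← ker_eq_center] at hL
  have hidx : L.index = 2 := by
    rw [← card_ker]
    exact hL.index_eq_card
  have hev : ∀ a b : K, a * b ∈ L ↔ (a ∈ L ↔ b ∈ L) :=
    fun a b => Subgroup.mul_mem_iff_of_index_two hidx
  let gen : ∀ x : ℕ, x < 9 → K := fun x hx => ⟨Fi23Cert.g (Fi23Embed.lm x), mem_H hx⟩
  have hwp : ∀ w : List ℕ, ((w.map Fi23Cert.g).prod = 1) → ∀ ws : List {x : ℕ // x < 9},
      w = ws.map (fun x => Fi23Embed.lm x.1) → (ws.map fun x => gen x.1 x.2).prod = (1 : K) := by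
    intro w hw ws e
    apply Subtype.ext
    rw [SubmonoidClass.coe_list_prod, List.map_map, OneMemClass.coe_one, ← hw, e, List.map_map]
    rfl
  have hbraid : ∀ x y (hx : x < 9) (hy : y < 9),
      Fi23Data.R.contains [Fi23Embed.lm x, Fi23Embed.lm y, Fi23Embed.lm x, Fi23Embed.lm y,
        Fi23Embed.lm x, Fi23Embed.lm y] = true → (gen x hx ∈ L ↔ gen y hy ∈ L) := by
    intro x y hx hy hmem
    have h := Fi23Cert.cert.rels _ (List.elem_iff.1 hmem)
    simp only [List.reverse_cons, List.reverse_nil, List.nil_append, List.cons_append] at h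
    have h := hwp _ h [⟨y, hy⟩, ⟨x, hx⟩, ⟨y, hy⟩, ⟨x, hx⟩, ⟨y, hy⟩, ⟨x, hx⟩] rfl
    have h1 : (1 : K) ∈ L := one_mem L
    rw [← h] at h1
    simp only [List.map_cons, List.map_nil, List.prod_cons, List.prod_nil, mul_one, hev] at h1
    tauto
  have e01 := hbraid 0 1 (by norm_num) (by norm_num) (by decide +kernel)
  have e12 := hbraid 1 2 (by norm_num) (by norm_num) (by decide +kernel)
  have e23 := hbraid 2 3 (by norm_num) (by norm_num) (by decide +kernel)
  have e34 := hbraid 3 4 (by norm_num) (by norm_num) (by decide +kernel)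
  have e45 := hbraid 4 5 (by norm_num) (by norm_num) (by decide +kernel)
  have e56 := hbraid 5 6 (by norm_num) (by norm_num) (by decide +kernel)
  have e37 := hbraid 3 7 (by norm_num) (by norm_num) (by decide +kernel)
  have e78 := hbraid 7 8 (by norm_num) (by norm_num) (by decide +kernel)
  have hall : ∀ x (hx : x < 9), (gen x hx ∈ L ↔ gen 0 (by norm_num) ∈ L) := by
    have d1 := e01.symm
    have d2 := e12.symm.trans d1
    have d3 := e23.symm.trans d2
    have d4 := e34.symm.trans d3
    have d5 := e45.symm.trans d4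
    have d6 := e56.symm.trans d5
    have d7 := e37.symm.trans d3
    have d8 := e78.symm.trans d7
    intro x hx
    interval_cases x
    exacts [Iff.rfl, d1, d2, d3, d4, d5, d6, d7, d8]
  have h0 : gen 0 (by norm_num) ∈ L := by
    let c : List {x : ℕ // x < 9} :=
      [⟨0, by norm_num⟩, ⟨1, by norm_num⟩, ⟨2, by norm_num⟩, ⟨3, by norm_num⟩, ⟨4, by norm_num⟩,
        ⟨5, by norm_num⟩, ⟨7, by norm_num⟩]
    have h := hwp _ (Fi23Cert.E_gen ([0, 1, 2, 3, 4, 5, 8, 0, 1, 2, 3, 4, 5, 8, 0, 1, 2, 3, 4, 5, 8,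
      0, 1, 2, 3, 4, 5, 8, 0, 1, 2, 3, 4, 5, 8, 0, 1, 2, 3, 4, 5, 8, 0, 1, 2, 3, 4, 5, 8,
      0, 1, 2, 3, 4, 5, 8, 0, 1, 2, 3, 4, 5, 8]) (List.mem_cons_of_mem _ List.mem_cons_self))
      (c ++ c ++ c ++ c ++ c ++ c ++ c ++ c ++ c) rfl
    have h1 : (1 : K) ∈ L := one_mem L
    rw [← h] at h1
    by_contra hn
    have hno : ∀ x : {x : ℕ // x < 9}, gen x.1 x.2 ∉ L := fun x hx => hn ((hall x.1 x.2).1 hx)
    have hlen : ∀ ws : List {x : ℕ // x < 9},
        (ws.map fun x => gen x.1 x.2).prod ∈ L ↔ ws.length % 2 = 0 := by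
      intro ws
      induction ws with
      | nil => simp [one_mem]
      | cons a ws ih =>
        rw [List.map_cons, List.prod_cons, hev, ih, List.length_cons]
        simp only [hno a, false_iff]
        omega
    have h2 := (hlen _).1 h1
    simp [c] at h2
  have htop : L = ⊤ := by
    rw [eq_top_iff]
    rintro ⟨a, ha⟩ -
    have key : ∀ a ∈ maskGroup Fi23Cert.g 895, ∀ hK : a ∈ K, (⟨a, hK⟩ : K) ∈ L := by
      intro a ha
      induction ha using Subgroup.closure_induction with
      | mem e he =>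
        obtain ⟨x, hx, rfl⟩ := he
        have hlt : x < 10 := by
          by_contra h
          rw [Nat.testBit_lt_two_pow (lt_of_lt_of_le (show 895 < 2 ^ 10 by norm_num)
            (Nat.pow_le_pow_right (by norm_num) (by omega)))] at hx
          simp at hx
        intro _
        have hg : ∀ y (hy : y < 9), gen y hy ∈ L := fun y hy => (hall y hy).2 h0
        interval_cases x
        · exact hg 0 (by norm_num)
        · exact hg 1 (by norm_num)
        · exact hg 2 (by norm_num)
        · exact hg 3 (by norm_num)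
        · exact hg 4 (by norm_num)
        · exact hg 5 (by norm_num)
        · exact hg 6 (by norm_num)
        · simp [Nat.testBit, Nat.shiftRight_eq_div_pow] at hx
        · exact hg 7 (by norm_num)
        · exact hg 8 (by norm_num)
      | one => intro _; exact one_mem L
      | mul a b ha' hb' iha ihb =>
        intro _
        exact mul_mem (iha (Fi23Ord.mask_eq.le ha')) (ihb (Fi23Ord.mask_eq.le hb'))
      | inv a ha' iha =>
        intro _
        exact inv_mem (iha (Fi23Ord.mask_eq.le ha'))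
    exact key a (Fi23Ord.mask_eq.ge ha) ha
  rw [htop, Subgroup.index_top] at hidx
  exact absurd hidx (by norm_num)

theorem double_cover : Cfsg.IsNonsplitDoubleCover K G22 := by
  refine ⟨?_, ⟨(QuotientGroup.quotientMulEquivOfEq ker_eq_center.symm).trans
    (QuotientGroup.quotientKerEquivOfSurjective proj proj_surjective)⟩, no_complement⟩
  rw [← ker_eq_center]
  exact card_ker

end H29.CosetCert.Fi23Cover
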