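import Cfsg.Agent.H29.CosetCert.Fi23.RelsBase

/-! Relator checks for Fi23, produced outside Lean and checked here. -/

set_option autoImplicit false
set_option maxRecDepth 16000
set_option Elab.async false

namespace H29.CosetCert.Fi23Data

open H29.CosetCert

theorem relsF0 : allF (fixF rowF relW) 0 150 = true := by decide +kernel

theorem relsF1 : allF (fixF rowF relW) 150 150 = true := by decide +kernel

theorem relsF2 : allF (fixF rowF relW) 300 150 = true := by decide +kernel

theorem relsF3 : allF (fixF rowF relW) 450 150 = true := by decide +kernel

theorem relsF4 : allF (fixF rowF relW) 600 150 = true := by decide +kernel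

theorem relsF5 : allF (fixF rowF relW) 750 150 = true := by decide +kernel

theorem relsF6 : allF (fixF rowF relW) 900 150 = true := by decide +kernel

theorem relsF7 : allF (fixF rowF relW) 1050 150 = true := by decide +kernel

theorem relsF8 : allF (fixF rowF relW) 1200 150 = true := by decide +kernel

theorem relsF9 : allF (fixF rowF relW) 1350 150 = true := by decide +kernel

theorem relsF10 : allF (fixF rowF relW) 1500 150 = true := by decide +kernel

theorem relsF11 : allF (fixF rowF relW) 1650 150 = true := by decide +kernel

theorem relsF12 : allF (fixF rowF relW) 1800 150 = true := by decide +kernel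

theorem relsF13 : allF (fixF rowF relW) 1950 150 = true := by decide +kernel

theorem relsB0 (c : ℕ) (h0 : 0 ≤ c) (h1 : c < 2100) : fixF rowF relW c = true := by
  by_cases h0 : c < 150
  · exact allF_spec _ _ _ relsF0 c (by omega) (by omega)
  by_cases h1 : c < 300
  · exact allF_spec _ _ _ relsF1 c (by omega) (by omega)
  by_cases h2 : c < 450
  · exact allF_spec _ _ _ relsF2 c (by omega) (by omega)
  by_cases h3 : c < 600
  · exact allF_spec _ _ _ relsF3 c (by omega) (by omega)
  by_cases h4 : c < 750
  · exact allF_spec _ _ _ relsF4 c (by omega) (by omega)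
  by_cases h5 : c < 900
  · exact allF_spec _ _ _ relsF5 c (by omega) (by omega)
  by_cases h6 : c < 1050
  · exact allF_spec _ _ _ relsF6 c (by omega) (by omega)
  by_cases h7 : c < 1200
  · exact allF_spec _ _ _ relsF7 c (by omega) (by omega)
  by_cases h8 : c < 1350
  · exact allF_spec _ _ _ relsF8 c (by omega) (by omega)
  by_cases h9 : c < 1500
  · exact allF_spec _ _ _ relsF9 c (by omega) (by omega)
  by_cases h10 : c < 1650
  · exact allF_spec _ _ _ relsF10 c (by omega) (by omega)
  by_cases h11 : c < 1800
  · exact allF_spec _ _ _ relsF11 c (by omega) (by omega)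
  by_cases h12 : c < 1950
  · exact allF_spec _ _ _ relsF12 c (by omega) (by omega)
  by_cases h13 : c < 2100
  · exact allF_spec _ _ _ relsF13 c (by omega) (by omega)
  omega

end H29.CosetCert.Fi23Data
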