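import Cfsg.Agent.H29.CosetCert.Fi23.RelsBase

/-! Relator checks for Fi23, produced outside Lean and checked here. -/

set_option autoImplicit false
set_option maxRecDepth 16000
set_option Elab.async false

namespace H29.CosetCert.Fi23Data

open H29.CosetCert

theorem relsF168 : allF (fixF rowF relW) 25200 150 = true := by decide +kernel

theorem relsF169 : allF (fixF rowF relW) 25350 150 = true := by decide +kernel

theorem relsF170 : allF (fixF rowF relW) 25500 150 = true := by decide +kernel

theorem relsF171 : allF (fixF rowF relW) 25650 150 = true := by decide +kernel

theorem relsF172 : allF (fixF rowF relW) 25800 150 = true := by decide +kernel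

theorem relsF173 : allF (fixF rowF relW) 25950 150 = true := by decide +kernel

theorem relsF174 : allF (fixF rowF relW) 26100 150 = true := by decide +kernel

theorem relsF175 : allF (fixF rowF relW) 26250 150 = true := by decide +kernel

theorem relsF176 : allF (fixF rowF relW) 26400 150 = true := by decide +kernel

theorem relsF177 : allF (fixF rowF relW) 26550 150 = true := by decide +kernel

theorem relsF178 : allF (fixF rowF relW) 26700 150 = true := by decide +kernel

theorem relsF179 : allF (fixF rowF relW) 26850 150 = true := by decide +kernel

theorem relsF180 : allF (fixF rowF relW) 27000 150 = true := by decide +kernel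

theorem relsF181 : allF (fixF rowF relW) 27150 150 = true := by decide +kernel

theorem relsB12 (c : ℕ) (h0 : 25200 ≤ c) (h1 : c < 27300) : fixF rowF relW c = true := by
  by_cases h168 : c < 25350
  · exact allF_spec _ _ _ relsF168 c (by omega) (by omega)
  by_cases h169 : c < 25500
  · exact allF_spec _ _ _ relsF169 c (by omega) (by omega)
  by_cases h170 : c < 25650
  · exact allF_spec _ _ _ relsF170 c (by omega) (by omega)
  by_cases h171 : c < 25800
  · exact allF_spec _ _ _ relsF171 c (by omega) (by omega)
  by_cases h172 : c < 25950
  · exact allF_spec _ _ _ relsF172 c (by omega) (by omega)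
  by_cases h173 : c < 26100
  · exact allF_spec _ _ _ relsF173 c (by omega) (by omega)
  by_cases h174 : c < 26250
  · exact allF_spec _ _ _ relsF174 c (by omega) (by omega)
  by_cases h175 : c < 26400
  · exact allF_spec _ _ _ relsF175 c (by omega) (by omega)
  by_cases h176 : c < 26550
  · exact allF_spec _ _ _ relsF176 c (by omega) (by omega)
  by_cases h177 : c < 26700
  · exact allF_spec _ _ _ relsF177 c (by omega) (by omega)
  by_cases h178 : c < 26850
  · exact allF_spec _ _ _ relsF178 c (by omega) (by omega)
  by_cases h179 : c < 27000
  · exact allF_spec _ _ _ relsF179 c (by omega) (by omega)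
  by_cases h180 : c < 27150
  · exact allF_spec _ _ _ relsF180 c (by omega) (by omega)
  by_cases h181 : c < 27300
  · exact allF_spec _ _ _ relsF181 c (by omega) (by omega)
  omega

end H29.CosetCert.Fi23Data
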