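import Cfsg.Agent.H29.CosetCert.Fi23.Table
import Cfsg.Agent.H29.CosetCert.Fast

/-! Relator checks for Fi23, produced outside Lean and checked here. -/

set_option autoImplicit false
set_option maxRecDepth 16000
set_option Elab.async false

namespace H29.CosetCert.Fi23Data

open H29.CosetCert

/-- Rows by number. -/
noncomputable def rowF (x : ℕ) : Tr :=
  (Nat.rec (motive := fun _ => Tr) row0 (fun a0 _ => (Nat.rec (motive := fun _ => Tr) row1 (fun a1 _ => (Nat.rec (motive := fun _ => Tr) row2 (fun a2 _ => (Nat.rec (motive := fun _ => Tr) row3 (fun a3 _ => (Nat.rec (motive := fun _ => Tr) row4 (fun a4 _ => (Nat.rec (motive := fun _ => Tr) row5 (fun a5 _ => (Nat.rec (motive := fun _ => Tr) row6 (fun a6 _ => (Nat.rec (motive := fun _ => Tr) row7 (fun a7 _ => (Nat.rec (motive := fun _ => Tr) row8 (fun a8 _ => row9) a7))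 a6)) a5)) a4)) a3)) a2)) a1)) a0)) x)

/-- The words to check. -/
noncomputable def relW : List (List ℕ) :=
  [[0, 1, 0, 1, 0, 1],
  [0, 2, 0, 2],
  [0, 3, 0, 3],
  [0, 4, 0, 4],
  [0, 5, 0, 5],
  [0, 6, 0, 6],
  [0, 7, 0, 7],
  [0, 8, 0, 8],
  [0, 9, 0, 9],
  [1, 2, 1, 2, 1, 2],
  [1, 3, 1, 3],
  [1, 4, 1, 4],
  [1, 5, 1, 5],
  [1, 6, 1, 6],
  [1, 7, 1, 7],
  [1, 8, 1, 8],
  [1, 9, 1, 9],
  [2, 3, 2, 3, 2, 3],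
  [2, 4, 2, 4],
  [2, 5, 2, 5],
  [2, 6, 2, 6],
  [2, 7, 2, 7],
  [2, 8, 2, 8],
  [2, 9, 2, 9],
  [3, 4, 3, 4, 3, 4],
  [3, 5, 3, 5],
  [3, 6, 3, 6],
  [3, 7, 3, 7],
  [3, 8, 3, 8, 3, 8],
  [3, 9, 3, 9],
  [4, 5, 4, 5, 4, 5],
  [4, 6, 4, 6],
  [4, 7, 4, 7],
  [4, 8, 4, 8],
  [4, 9, 4, 9],
  [5, 6, 5, 6, 5, 6],
  [5, 7, 5, 7],
  [5, 8, 5, 8],
  [5, 9, 5, 9],
  [6, 7, 6, 7, 6, 7],
  [6, 8, 6, 8],
  [6, 9, 6, 9],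
  [7, 8, 7, 8],
  [7, 9, 7, 9],
  [8, 9, 8, 9, 8, 9],
  [3, 2, 1, 3, 4, 5, 3, 8, 9, 3, 2, 1, 3, 4, 5, 3, 8, 9, 3, 2, 1, 3, 4, 5, 3, 8, 9, 3, 2, 1, 3, 4, 5, 3, 8, 9, 3, 2, 1, 3, 4, 5, 3, 8, 9, 3, 2, 1, 3, 4, 5, 3, 8, 9, 3, 2, 1, 3, 4, 5, 3, 8, 9, 3, 2, 1, 3, 4, 5, 3, 8, 9, 3, 2, 1, 3, 4, 5, 3, 8, 9, 3, 2, 1, 3, 4, 5, 3, 8, 9],
  [0, 1, 2, 3, 4, 5, 8, 0, 1, 2, 3, 4, 5, 8, 0, 1, 2, 3, 4, 5, 8, 0, 1, 2, 3, 4, 5, 8, 0, 1, 2, 3, 4, 5, 8, 0, 1, 2, 3, 4, 5, 8, 0, 1, 2, 3, 4, 5, 8, 0, 1, 2, 3, 4, 5, 8, 0, 1, 2, 3, 4, 5, 8],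
  [0, 0],
  [1, 1],
  [2, 2],
  [3, 3],
  [4, 4],
  [5, 5],
  [6, 6],
  [7, 7],
  [8, 8],
  [9, 9]]

theorem rowF_eq : ∀ x, x < 10 → ∀ c, pick16 (rowF x) c = T x c := by
  intro x hx c
  interval_cases x <;> rfl

theorem relW_mem : allIn (fun i => relW.elem (R.getD i [])) 0 57 = true := by decide +kernel

theorem relW_lt : relW.all (fun w => w.all fun x => Nat.blt x 10) = true := by decide +kernel

theorem rels_of (c i : ℕ) (hi : i < 57) (h : fixF rowF relW c = true) :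
    runR T (R.getD i []) c = c := by
  have hmem : R.getD i [] ∈ relW :=
    List.elem_iff.1 ((allIn_iff _ _ _).1 relW_mem i (Nat.zero_le _) (by omega))
  have hlt := List.all_eq_true.1 relW_lt _ hmem
  rw [← runF_eq rowF_eq _ (fun x hx => Nat.blt_eq.mp (List.all_eq_true.1 hlt x hx))]
  exact fixF_spec rowF relW c h _ hmem

end H29.CosetCert.Fi23Data
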